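import Cfsg.Agent.Lib.GW.CaseB.Fusion
import Cfsg.Agent.Lib.GW.CaseCOne
import Cfsg.Agent.Lib.GW.KleinFormula
import Cfsg.Agent.Lib.Invol.AltEightSubgroups

/-!
# A four group as Sylow 2-subgroup: a type c overgroup of an involution centraliser

The order formula bounds the index below three over `PSL(2, q)` and by five over `A4`, so `G ≅ A5`.
-/

set_option autoImplicit false
set_option linter.style.haveILetI false
set_option linter.unusedSectionVars false

open Subgroup
open CfsgLib.Invol

namespace CfsgLib.GW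

universe u

variable {G : Type u} [Group G] [Finite G]

namespace Min

/-- the Sylow 2-subgroups are four groups -/
theorem klein_sylow (hG : Min G) (h8 : ¬ 8 ∣ Nat.card G) (P : Sylow 2 G) :
    IsKleinFour (P : Subgroup G) := by
  haveI : Fact (Nat.Prime 2) := ⟨Nat.prime_two⟩
  obtain ⟨n, hn, ⟨e⟩⟩ := hG.dih P
  obtain ⟨j, hj⟩ := P.2.exists_card_eq
  have hd := card_subgroup_dvd_card (P : Subgroup G)
  rw [hj] at hd
  have hj2 : j ≤ 2 := by
    by_contra hc
    exact h8 (dvd_trans (pow_dvd_pow 2 (by omega : 3 ≤ j)) hd)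
  rw [Nat.card_congr e.toEquiv, DihedralGroup.nat_card] at hj
  have hpow : (2 : ℕ) ^ j ≤ 4 := (Nat.pow_le_pow_right two_pos hj2).trans (by norm_num)
  obtain rfl : n = 2 := by omega
  haveI : NeZero (2 : ℕ) := ⟨two_ne_zero⟩
  refine ⟨by rw [Nat.card_congr e.toEquiv, DihedralGroup.nat_card], ?_⟩
  rw [Monoid.exponent_eq_of_mulEquiv e, DihedralGroup.exponent]
  rfl

/-- a four group through an involution, as a Sylow 2-subgroup -/
theorem exists_klein (hG : Min G) (h8 : ¬ 8 ∣ Nat.card G) {t : G} (ht : orderOf t = 2) :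
    ∃ (P : Sylow 2 G) (a : G), orderOf a = 2 ∧ t ≠ a ∧ Commute t a ∧
      (P : Subgroup G) = closure ({t, a} : Set G) := by
  haveI : Fact (Nat.Prime 2) := ⟨Nat.prime_two⟩
  obtain ⟨P, hP, -⟩ := hG.exists_sylow_central ht
    (IsPGroup.of_card (n := 1) (by rw [Nat.card_zpowers, ht, pow_one]) : IsPGroup 2 (zpowers t))
    (zpowers_le.2 (mem_centralizer_singleton_iff.2 rfl))
  have hK := hG.klein_sylow h8 P
  have htP : t ∈ P := hP (mem_zpowers t)
  obtain ⟨a, haP, ha1, hat⟩ : ∃ a ∈ (P : Subgroup G), a ≠ 1 ∧ a ≠ t := by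
    by_contra! h
    have h2 : Nat.card (P : Subgroup G) ≤ Nat.card (zpowers t) :=
      card_le_of_le fun x hx => by
        by_cases hx1 : x = 1
        · exact hx1 ▸ one_mem _
        · rw [h x hx hx1]
          exact mem_zpowers t
    rw [hK.card_four, Nat.card_zpowers, ht] at h2
    omega
  haveI := klein_comm P hK
  have hc : Commute t a := congrArg Subtype.val (mul_comm' (⟨t, htP⟩ : (P : Subgroup G)) ⟨a, haP⟩)
  have ha := klein_invol P hK haP ha1
  refine ⟨P, a, ha, hat.symm, hc, (eq_of_le_of_card_ge ((closure_le _).2 ?_) ?_).symm⟩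
  · rintro x (rfl | rfl) <;> assumption
  · rw [hK.card_four, (isKleinFour_closure_pair ht ha hat.symm hc).card_four]

/-- the index of an overgroup of `C(t)` with one class of involutions modulo an odd normal subgroup -/
theorem klein_index (hG : Min G) (h8 : ¬ 8 ∣ Nat.card G) {M : Subgroup G} (hM : M ≠ ⊤) {K : Subgroup M} [K.Normal]
    (hK : Odd (Nat.card K)) (h1 : ∀ a b : M ⧸ K, orderOf a = 2 → orderOf b = 2 → ∃ x, x * a * x⁻¹ = b)
    {t : G} (ht : orderOf t = 2) (hC : centralizer ({t} : Set G) ≤ M) :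
    3 ≤ M.index ∧ Odd M.index ∧ ∃ (t' a' : M ⧸ K), orderOf t' = 2 ∧ orderOf a' = 2 ∧ t' ≠ a' ∧ Commute t' a' ∧
      ∃ σ : ℚ, 8 / 15 ≤ σ ∧ (M.index : ℚ) * σ * Nat.card (M ⧸ K) *
        (Nat.card (centralizer ({t', a'} : Set (M ⧸ K))) : ℚ) ^ 2 =
          8 * (Nat.card (centralizer ({t'} : Set (M ⧸ K))) : ℚ) ^ 3 := by
  haveI : Fact (Nat.Prime 2) := ⟨Nat.prime_two⟩
  haveI := hG.simple
  obtain ⟨P, a, ha, hta, hc, hP⟩ := hG.exists_klein h8 ht
  have hcyc : ¬ IsCyclic G := fun h => hG.not_solvable (Group.isSolvable_of_comm fun x y => by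
    obtain ⟨g, hg⟩ := h.exists_generator
    obtain ⟨i, rfl⟩ := mem_zpowers_iff.1 (hg x)
    obtain ⟨j, rfl⟩ := mem_zpowers_iff.1 (hg y)
    rw [← zpow_add, ← zpow_add, add_comm])
  have htP : t ∈ (P : Subgroup G) := hP ▸ subset_closure (by simp)
  obtain ⟨x, y, z, -, -, -, -, -, -, -, hσ, hform⟩ := klein_order_formula hcyc P (hG.klein_sylow h8 P)
    (fun s u hs hu => isConj_iff.2 (hG.isConj_invol hs hu)) htP ht
  rw [hP, centralizer_closure] at hform
  have haM : a ∈ M := hC (mem_centralizer_singleton_iff.2 hc.symm.eq)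
  set T : M := ⟨t, hC (mem_centralizer_singleton_iff.2 rfl)⟩ with hTdef
  set A : M := ⟨a, haM⟩ with hAdef
  have hT : orderOf T = 2 := by rw [hTdef, Subgroup.orderOf_mk, ht]
  have hA : orderOf A = 2 := by rw [hAdef, Subgroup.orderOf_mk, ha]
  have hTA : T ≠ A := fun e => hta (congrArg Subtype.val e)
  have hcTA : Commute T A := Subtype.ext hc.eq
  have hodd : Odd M.index := by
    rw [← Nat.not_even_iff_odd, even_iff_two_dvd]
    intro h
    apply h8
    rw [← M.card_mul_index, show (8 : ℕ) = 4 * 2 by norm_num]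
    refine mul_dvd_mul ?_ h
    rw [← (isKleinFour_closure_pair hT hA hTA hcTA).card_four]
    exact card_subgroup_dvd_card _
  have h3 : 3 ≤ M.index := by
    have h1' : M.index ≠ 1 := fun h => hM (index_eq_one.1 h)
    obtain ⟨j, hj⟩ := hodd
    omega
  have hne : QuotientGroup.mk' K T ≠ QuotientGroup.mk' K A := fun e => by
    have h : T * A ∈ K := by
      refine (QuotientGroup.eq_one_iff _).1 ?_
      show QuotientGroup.mk' K (T * A) = 1
      rw [map_mul, ← e, ← map_mul, invol_mul_self hT, map_one]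
    exact invol_ne_one (invol_mul_of_commute hT hA hTA hcTA)
      (eq_one_of_mem_of_sq hK h (invol_mul_self (invol_mul_of_commute hT hA hTA hcTA)))
  refine ⟨h3, hodd, QuotientGroup.mk' K T, QuotientGroup.mk' K A, orderOf_mk_invol hK hT, orderOf_mk_invol hK hA,
    hne, hcTA.map _, sigmaKlein x y z, hσ, ?_⟩
  have hTall : ∀ u : M, orderOf u = 2 → Nat.card (fixIn K u) = Nat.card (fixIn K T) := fun u hu => by
    obtain ⟨g, hg⟩ := h1 _ _ (orderOf_mk_invol hK hT) (orderOf_mk_invol hK hu)
    obtain ⟨m, -, hm⟩ := exists_conj_lift hK hT hu hg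
    rw [← hm, card_fixIn_conj]
  have han : ∀ u : M, ∀ k ∈ K, u * k * u⁻¹ ∈ K := fun u k hk => ‹K.Normal›.conj_mem k hk u
  have hBW : Nat.card K * Nat.card (fixIn K T ⊓ fixIn K A : Subgroup M) ^ 2 = Nat.card (fixIn K T) ^ 3 := by
    rw [card_four_formula hK (invol_mul_self hT) (invol_mul_self hA) hcTA (han T) (han A), hTall A hA,
      hTall (T * A) (invol_mul_of_commute hT hA hTA hcTA)]
    ring
  have hCt : Nat.card (centralizer ({t} : Set G)) =
      Nat.card (fixIn K T) * Nat.card (centralizer ({QuotientGroup.mk' K T} : Set (M ⧸ K))) := by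
    have h2 := card_cent_of_le {T} (by rw [Set.image_singleton]; exact hC)
    rw [Set.image_singleton] at h2
    exact h2.trans (card_centralizer_quotient_odd hK (invol_mul_self hT))
  have hCP : Nat.card (centralizer ({t, a} : Set G)) = Nat.card (fixIn K T ⊓ fixIn K A : Subgroup M) *
      Nat.card (centralizer ({QuotientGroup.mk' K T, QuotientGroup.mk' K A} : Set (M ⧸ K))) := by
    have h2 := card_cent_of_le {T, A}
      (le_trans (centralizer_le (by simp [Set.image_pair, hTdef])) hC)
    rw [Set.image_pair] at h2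
    exact h2.trans (card_centralizer_four_odd hK (invol_mul_self hT) (invol_mul_self hA) hcTA)
  rw [hCt, hCP, ← M.card_mul_index, ← K.card_mul_index, index_eq_card K] at hform
  have hBW' : (Nat.card K : ℚ) * (Nat.card (fixIn K T ⊓ fixIn K A : Subgroup M) : ℚ) ^ 2 =
      (Nat.card (fixIn K T) : ℚ) ^ 3 := by exact_mod_cast hBW
  have hk0 : (Nat.card (fixIn K T) : ℚ) ^ 3 ≠ 0 := by
    have : 0 < Nat.card (fixIn K T) := Nat.card_pos
    positivity
  push_cast at hform
  refine mul_left_cancel₀ hk0 ?_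
  linear_combination hform + (M.index : ℚ) * sigmaKlein x y z * (Nat.card (M ⧸ K) : ℚ) *
    (Nat.card (centralizer ({QuotientGroup.mk' K T, QuotientGroup.mk' K A} : Set (M ⧸ K))) : ℚ) ^ 2 * hBW'.symm

/-- a simple group of order 60 -/
theorem isPSLTwoOrA7_of_card_sixty (hG : Min G) (h : Nat.card G = 60) : IsPSLTwoOrA7 G := by
  haveI := hG.simple
  haveI : Fact (Nat.Prime 5) := ⟨by norm_num⟩
  haveI : IsSimpleGroup (Matrix.ProjectiveSpecialLinearGroup (Fin 2) (ZMod 5)) :=
    Matrix.ProjectiveSpecialLinearGroup.rank_two_simple (by rw [Nat.card_zmod]; norm_num)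
  have hc : Nat.card (Matrix.ProjectiveSpecialLinearGroup (Fin 2) (ZMod 5)) = 60 := by
    have h0 := CfsgLib.Perm.Dickson.card_psl (ZMod 5)
    rw [← Nat.card_congr (CfsgLib.Perm.Dickson.pslEquiv (ZMod 5)).toEquiv,
      CfsgLib.Perm.Dickson.gcd_odd (by rw [Nat.card_zmod]; decide), Nat.card_zmod] at h0
    omega
  obtain ⟨f⟩ := Cfsg.Agent.S0494.result h
  obtain ⟨g⟩ := Cfsg.Agent.S0494.result hc
  exact Or.inl ⟨ZMod 5, inferInstance, inferInstance, by rw [ZMod.card]; decide, by rw [ZMod.card]; norm_num,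
    ⟨f.trans g.symm⟩⟩

/-- **case C for a four-group Sylow 2-subgroup** -/
theorem isPSLTwoOrA7_of_typeC_klein (hG : Min G) (h8 : ¬ 8 ∣ Nat.card G) {t : G} (ht : orderOf t = 2)
    {M : Subgroup G} (hM : M ≠ ⊤) (hC : centralizer ({t} : Set G) ≤ M) (hMc : IsTypeC M) :
    IsPSLTwoOrA7 G := by
  classical
  haveI : Fact (Nat.Prime 2) := ⟨Nat.prime_two⟩
  haveI := hG.simple
  set K := Cfsg.oddCore M with hKdef
  have hK : Odd (Nat.card K) := odd_oddCore M
  have h4X : ¬ 8 ∣ Nat.card (M ⧸ K) := fun h => h8 (h.trans ((card_quotient_dvd_card K).trans (card_subgroup_dvd_card M)))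
  rcases hMc with ⟨V, hVn, hVK, hVC, hX⟩ | ⟨M0, hM0n, -, -, hM0d, hC0, hM0t⟩
  · haveI := hVn
    rcases hX with hX | hX
    swap
    · exact absurd (by rw [hX]; norm_num) h4X
    -- involutions lie in the four group and are conjugate
    have hin : ∀ u : M ⧸ K, orderOf u = 2 → u ∈ V := fun u hu => by
      have hidx : V.index = 3 := by
        have := V.card_mul_index
        rw [hVK.card_four, hX] at this
        omega
      have h1 := orderOf_map_dvd (QuotientGroup.mk' V) u
      have h2 := _root_.orderOf_dvd_natCard (QuotientGroup.mk' V u)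
      rw [← index_eq_card, hidx] at h2
      rw [hu] at h1
      have h3 := Nat.dvd_gcd h1 h2
      rw [show Nat.gcd 2 3 = 1 by rfl, Nat.dvd_one, orderOf_eq_one_iff] at h3
      exact (QuotientGroup.eq_one_iff u).1 h3
    obtain ⟨y, hy⟩ := exists_prime_orderOf_dvd_card' 3 (show 3 ∣ Nat.card (M ⧸ K) by rw [hX]; norm_num)
    have hfix : ∀ u : M ⧸ K, orderOf u = 2 → y * u * y⁻¹ ≠ u := by
      intro u hu hyu
      have huV := hin u hu
      have hcent : y ∈ centralizer (V : Set (M ⧸ K)) := by
        refine mem_centralizer_iff.2 fun v hv => ?_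
        by_cases hv1 : v = 1
        · rw [hv1, one_mul, mul_one]
        by_cases hvu : v = u
        · rw [hvu]; exact (mul_inv_eq_iff_eq_mul.1 hyu).symm
        have hv2 : orderOf v = 2 := by
          refine orderOf_eq_prime ?_ hv1
          have h := Monoid.pow_exponent_eq_one (⟨v, hv⟩ : V)
          rw [hVK.exponent_two] at h
          exact congrArg Subtype.val h
        have hyv : y * v * y⁻¹ ∈ V := hVn.conj_mem v hv y
        have hclV : closure ({u, v} : Set (M ⧸ K)) = V := by
          refine eq_of_le_of_card_ge ((closure_le _).2 ?_) ?_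
          · rintro x (rfl | rfl) <;> assumption
          · rw [hVK.card_four, (isKleinFour_closure_pair hu hv2 (Ne.symm hvu) ?_).card_four]
            haveI : IsMulCommutative V := IsPGroup.isMulCommutative_of_card_eq_prime_sq (p := 2)
              (by rw [hVK.card_four]; norm_num)
            exact congrArg Subtype.val (mul_comm' (⟨u, huV⟩ : V) ⟨v, hv⟩)
        have hcm : Commute u v := by
          haveI : IsMulCommutative V := IsPGroup.isMulCommutative_of_card_eq_prime_sq (p := 2)
            (by rw [hVK.card_four]; norm_num)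
          exact congrArg Subtype.val (mul_comm' (⟨u, huV⟩ : V) ⟨v, hv⟩)
        rcases mem_klein hu hv2 (Ne.symm hvu) hcm (hclV.ge hyv) with h | h | h | h
        · exact absurd (conj_eq_one_iff.1 h) hv1
        · exact absurd (mul_left_cancel (mul_right_cancel (h.trans hyu.symm))) hvu
        · exact (mul_inv_eq_iff_eq_mul.1 h).symm
        · exfalso
          have h2 : y * (y * v * y⁻¹) * y⁻¹ = v := by
            rw [h, show y * (u * v) * y⁻¹ = (y * u * y⁻¹) * (y * v * y⁻¹) by group, hyu, h, ← mul_assoc,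
              invol_mul_self hu, one_mul]
          have h3 : y * y * y = 1 := by rw [← pow_three', ← hy, pow_orderOf_eq_one]
          have h4 : y * (y * (y * v * y⁻¹) * y⁻¹) * y⁻¹ = v := by
            calc y * (y * (y * v * y⁻¹) * y⁻¹) * y⁻¹ = (y * y * y) * v * (y * y * y)⁻¹ := by group
              _ = v := by rw [h3]; group
          rw [h2] at h4
          rw [h4] at h
          exact invol_ne_one hu (mul_eq_right.1 h.symm)
      rw [hVC] at hcent
      have h := Subgroup.orderOf_dvd_natCard V hcent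
      rw [hy, hVK.card_four] at h
      norm_num at h
    have h1 : ∀ a b : M ⧸ K, orderOf a = 2 → orderOf b = 2 → ∃ x, x * a * x⁻¹ = b := by
      intro a b ha hb
      by_cases hab : a = b
      · exact ⟨1, by rw [hab]; group⟩
      set c := y * a * y⁻¹ with hcdef
      have hc2 : orderOf c = 2 := by rw [hcdef, ← MulAut.conj_apply, MulEquiv.orderOf_eq, ha]
      by_cases hcb : c = b
      · exact ⟨y, hcb⟩
      refine ⟨y * y, ?_⟩
      haveI : IsMulCommutative V := IsPGroup.isMulCommutative_of_card_eq_prime_sq (p := 2)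
        (by rw [hVK.card_four]; norm_num)
      have hcab : Commute a b := congrArg Subtype.val (mul_comm' (⟨a, hin a ha⟩ : V) ⟨b, hin b hb⟩)
      have hclV : closure ({a, b} : Set (M ⧸ K)) = V := by
        refine eq_of_le_of_card_ge ((closure_le _).2 ?_) ?_
        · rintro x (rfl | rfl)
          exacts [hin _ ha, hin _ hb]
        · rw [hVK.card_four, (isKleinFour_closure_pair ha hb hab hcab).card_four]
      have hd : y * y * a * (y * y)⁻¹ = y * c * y⁻¹ := by rw [hcdef]; group
      rw [hd]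
      have hd2 : orderOf (y * c * y⁻¹) = 2 := by rw [← MulAut.conj_apply, MulEquiv.orderOf_eq, hc2]
      have hc_eq : c = a * b := by
        rcases mem_klein ha hb hab hcab (hclV.ge (hin c hc2)) with h | h | h | h
        · exact absurd h (invol_ne_one hc2)
        · exact absurd h (hfix a ha)
        · exact absurd h hcb
        · exact h
      rcases mem_klein ha hb hab hcab (hclV.ge (hin _ hd2)) with h | h | h | h
      · exact absurd h (invol_ne_one hd2)
      · exfalso
        have h3 : y * y * y = 1 := by rw [← pow_three', ← hy, pow_orderOf_eq_one]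
        refine hfix a ha ?_
        calc y * a * y⁻¹ = y * (y * c * y⁻¹) * y⁻¹ := by rw [h]
          _ = (y * y * y) * a * (y * y * y)⁻¹ := by rw [hcdef]; group
          _ = a := by rw [h3]; group
      · exact h
      · exact absurd (h.trans hc_eq.symm) (hfix c hc2)
    obtain ⟨h3, hodd, t', a', ht', ha', hne', hc', σ, hσ, heq⟩ := hG.klein_index h8 hM hK h1 ht hC
    have hV4 : ∀ s : Set (M ⧸ K), (∀ u ∈ s, orderOf u = 2) → s.Nonempty → Nat.card (centralizer s) = 4 := by
      intro s hs ⟨u, hu⟩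
      have hle : V ≤ centralizer s := hVC.ge.trans (centralizer_le fun v hv => hin v (hs v hv))
      have hd1 := card_dvd_of_le hle
      have hd2 := card_subgroup_dvd_card (centralizer s)
      rw [hVK.card_four] at hd1
      rw [hX] at hd2
      have h12 : Nat.card (centralizer s) ≠ 12 := fun h => by
        have htop : centralizer s = ⊤ := eq_top_of_card_eq _ (h.trans hX.symm)
        exact hfix u (hs u hu) (by
          rw [← mem_centralizer_iff.1 (htop ▸ mem_top y : y ∈ centralizer s) u hu, mul_inv_cancel_right])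
      obtain ⟨c, hc⟩ := hd1
      rw [hc] at hd2 h12 ⊢
      have : c ∣ 3 := (Nat.mul_dvd_mul_iff_left (by norm_num : 0 < 4)).1 (show 4 * c ∣ 4 * 3 from hd2)
      rcases (Nat.dvd_prime Nat.prime_three).1 this with rfl | rfl
      · rfl
      · exact absurd rfl h12
    rw [hX, hV4 _ (by rintro v (rfl | rfl) <;> assumption) ⟨t', by simp⟩,
      hV4 {t'} (fun v hv => by rw [Set.mem_singleton_iff.1 hv]; exact ht') ⟨t', rfl⟩] at heq
    norm_num at heq
    have hn5 : M.index ≤ 5 := by
      have hn : (0 : ℚ) ≤ M.index := Nat.cast_nonneg _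
      have : (M.index : ℚ) ≤ 5 := by nlinarith
      exact_mod_cast this
    have hfac := CfsgLib.Invol.AltEightSubgroups.card_dvd_factorial (G := G) hM
    have hGM : Nat.card G = Nat.card K * 12 * M.index := by
      rw [← M.card_mul_index, ← K.card_mul_index, index_eq_card, hX]
    rcases (show M.index = 3 ∨ M.index = 5 by obtain ⟨j, hj⟩ := hodd; omega) with hi | hi <;>
      rw [hGM, hi] at hfac
    · have := Nat.le_of_dvd (Nat.factorial_pos 3) hfac
      have hpos : 0 < Nat.card K := Nat.card_pos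
      simp [Nat.factorial] at this
      omega
    · refine hG.isPSLTwoOrA7_of_card_sixty ?_
      have := Nat.le_of_dvd (Nat.factorial_pos 5) hfac
      obtain ⟨j, hj⟩ := hK
      simp [Nat.factorial] at this
      rw [hGM, hi]
      omega
  exfalso
  haveI := hM0n
  have hXd : DihTwo (M ⧸ K) := by
    obtain ⟨S⟩ : Nonempty (Sylow 2 M0) := inferInstance
    rcases ((hG.dihLE.subgroup M).quotient_odd K hK).cyclic_or_dihTwo with ⟨R, hR⟩ | h
    · exfalso
      obtain ⟨n, hn, ⟨e⟩⟩ := hM0d S
      obtain ⟨R', hR'⟩ := (S.2.map M0.subtype).exists_le_sylow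
      haveI : IsCyclic (R' : Subgroup (M ⧸ K)) := (Sylow.equiv R' R).isCyclic.2 hR
      haveI : NeZero n := ⟨by omega⟩
      haveI : IsCyclic (S : Subgroup M0) := isCyclic_of_injective
        ((Subgroup.inclusion hR').comp (M0.subtype.subgroupMap (S : Subgroup M0)))
        ((Subgroup.inclusion_injective hR').comp fun x y e =>
          Subtype.ext (M0.subtype_injective ((congrArg Subtype.val e :) : M0.subtype (x : M0) = M0.subtype (y : M0))))
      exact DihedralGroup.not_isCyclic (by omega) (e.isCyclic.1 inferInstance)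
    · exact h
  have h4M0 : 4 ∣ Nat.card M0 := by
    obtain ⟨S⟩ : Nonempty (Sylow 2 M0) := inferInstance
    obtain ⟨n, hn, ⟨e⟩⟩ := hM0d S
    obtain ⟨j, hj⟩ := S.2.exists_card_eq
    have h := card_subgroup_dvd_card (S : Subgroup M0)
    rw [hj] at h
    rw [Nat.card_congr e.toEquiv, DihedralGroup.nat_card] at hj
    refine dvd_trans ?_ h
    rw [show (4 : ℕ) = 2 ^ 2 by norm_num]
    refine pow_dvd_pow 2 ?_
    by_contra hc
    have : 2 ^ j ≤ 2 := (Nat.pow_le_pow_right two_pos (by omega : j ≤ 1)).trans (by norm_num)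
    omega
  have hM0odd : Odd M0.index := by
    rw [← Nat.not_even_iff_odd, even_iff_two_dvd]
    intro h
    exact h4X (by rw [← M0.card_mul_index, show (8 : ℕ) = 4 * 2 by norm_num]; exact mul_dvd_mul h4M0 h)
  have hin : ∀ u : M ⧸ K, orderOf u = 2 → u ∈ M0 := fun u hu => by
    have h1 := orderOf_map_dvd (QuotientGroup.mk' M0) u
    have h2 := _root_.orderOf_dvd_natCard (QuotientGroup.mk' M0 u)
    rw [← index_eq_card] at h2
    rw [hu] at h1
    exact (QuotientGroup.eq_one_iff u).1 (orderOf_eq_one_iff.1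
      (Nat.eq_one_of_dvd_coprimes (Nat.coprime_two_left.2 hM0odd) h1 h2))
  rcases hM0t with ⟨F, iF, iFt, hF, hF3, ⟨e⟩⟩ | ⟨⟨e⟩⟩
  swap
  · refine h4X (dvd_trans ?_ (card_subgroup_dvd_card M0))
    rw [Nat.card_congr e.toEquiv]
    have h := two_mul_nat_card_alternatingGroup (α := Fin 7)
    rw [Nat.card_perm, Nat.card_eq_fintype_card (α := Fin 7), Fintype.card_fin,
      show Nat.factorial 7 = 2 * 2520 from rfl] at h
    rw [Nat.eq_of_mul_eq_mul_left two_pos h]
    norm_num
  have h2 : (2 : F) ≠ 0 := CfsgLib.Perm.Dickson.two_ne_zero_of_odd (by rwa [Nat.card_eq_fintype_card])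
  have hidx : M0.index = (diagPart M0 e).index := by
    rcases index_cases M0 e hC0 h2 with h | h
    · exact h
    · rw [h] at hM0odd
      exact absurd (even_two_mul _) (Nat.not_even_iff_odd.2 hM0odd)
  obtain ⟨h3, -, t', a', ht', ha', hne', hc', σ, hσ, heq⟩ := hG.klein_index h8 hM hK (fun a b ha hb => by
    obtain ⟨x, -, hx⟩ := isConj_of_invol_mem M0 e ha hb (hin a ha) (hin b hb)
    exact ⟨x, hx⟩) ht hC
  rw [card_cent_four M0 e hXd hC0 h2 ht' ha' hne' hc', card_cent_invol M0 e hF ht' (hin t' ht'),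
    ← M0.card_mul_index, hidx] at heq
  have hM0 : 2 * Nat.card M0 = Fintype.card F * ((Fintype.card F - 1) * (Fintype.card F + 1)) := by
    have h0 := CfsgLib.Perm.Dickson.card_psl F
    rw [CfsgLib.Perm.Dickson.gcd_odd (odd_of_two_ne h2), Nat.card_eq_fintype_card (α := F)] at h0
    rw [Nat.card_congr e.toEquiv, Nat.card_congr (CfsgLib.Perm.Dickson.pslEquiv F).toEquiv]
    exact h0
  set q := Fintype.card F with hq
  have hcast : ((2 * Nat.card M0 : ℕ) : ℚ) = _ := congrArg Nat.cast hM0
  push_cast [Nat.cast_sub (show 1 ≤ q by omega)] at hcast heq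
  set n : ℚ := (M.index : ℚ)
  set f : ℚ := ((diagPart M0 e).index : ℚ)
  set m0 : ℚ := (Nat.card M0 : ℚ)
  have hf : 0 < f := by
    simp only [f]; exact_mod_cast Nat.pos_of_ne_zero Subgroup.FiniteIndex.index_ne_zero
  have hn3 : (3 : ℚ) ≤ n := by simp only [n]; exact_mod_cast h3
  have hkey : n * σ * ((q : ℚ) * ((q : ℚ) - 1) * ((q : ℚ) + 1)) = (invCard q : ℚ) ^ 3 := by
    refine mul_left_cancel₀ (pow_ne_zero 3 hf.ne') ?_
    linear_combination heq / 8 - n * σ * f ^ 3 * hcast
  have hq5 : 5 ≤ q := by obtain ⟨j, hj⟩ := hF; omega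
  have hlow : 24 / 15 * ((q : ℚ) * ((q : ℚ) - 1) * ((q : ℚ) + 1)) ≤ (invCard q : ℚ) ^ 3 := by
    have h5 : (5 : ℚ) ≤ q := by exact_mod_cast hq5
    rw [← hkey]
    refine mul_le_mul_of_nonneg_right ?_ (mul_nonneg (mul_nonneg (by linarith) (by linarith)) (by linarith))
    nlinarith
  unfold invCard at hlow
  split_ifs at hlow with h4
  · rw [Nat.cast_sub (show 1 ≤ q by omega)] at hlow
    push_cast at hlow
    have h5 : (5 : ℚ) ≤ q := by exact_mod_cast hq5
    nlinarith [mul_nonneg (sub_nonneg.2 h5) (sub_nonneg.2 h5)]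
  · push_cast at hlow
    have h7 : (7 : ℚ) ≤ q := by
      obtain ⟨j, hj⟩ := hF
      exact_mod_cast (show 7 ≤ q by omega)
    nlinarith [mul_nonneg (sub_nonneg.2 h7) (sub_nonneg.2 h7)]

end Min

end CfsgLib.GW
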