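import Cfsg.Agent.Lib.GW.Klein.Setting
import Cfsg.Agent.Lib.Invol.RetractTransfer
import Cfsg.Agent.S0508

/-!
# Case A for a four-group Sylow 2-subgroup, no core moved and fixed in part

Either `a` fixes no element of `O(C(t))`, so that Brauer-Suzuki-Wall applies, or a fixed linear character
contradicts the congruence for the index.
-/

set_option autoImplicit false
set_option linter.unusedSectionVars false
set_option linter.style.haveILetI false

open Subgroup
open CfsgLib.Coprime.BenderPair CfsgLib.Coprime.BenderUniqueness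

namespace CfsgLib.GW.Klein

open CfsgLib.GW.CaseA
open CfsgLib.Spor.JFourType (eq_of_sq_eq)

universe u

variable {G : Type u} [Group G] [Finite G]

/-- `a` fixes no element but `1` of `O(C(t))` -/
theorem fixed_trivial {t a : G} (hA : CaseA t) (h8 : ¬ 8 ∣ Nat.card G) (hd : Degenerate t)
    (F : Frame t a (Ocore t)) {x : G} (hx : x ∈ Ocore t) (hxa : Commute x a) : x = 1 := by
  by_contra hx1
  have hO : Ocore t ≠ ⊥ := fun h => hx1 (mem_bot.1 (h ▸ hx))
  obtain ⟨p, hp, hp2, hmv⟩ : ∃ p : ℕ, p.Prime ∧ p ≠ 2 ∧ ∃ y ∈ coreAt p t, ¬ Commute y a := by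
    by_contra! h
    exact false_of_centralized hA hO F.ha F.hne.symm F.hc.symm h
  refine false_of_split hA h8 F hp hp2 hmv (fun y hy z hz => ?_) ⟨x, hx, hx1, hxa⟩
  -- the square of an inverted element is central in the Fitting subgroup
  have key : ∀ y ∈ Spor.JFourType.invSet a (Ocore t), ∀ f ∈ fit (Ocore t), Commute f (y * y) := by
    intro y hy f hf
    have hle : fit (Ocore t) ≤ centralizer ({y * y} : Set G) := fit_ocore_le fun q hq hq2 f hf => by
      haveI := Fact.mk hq
      refine mem_centralizer_singleton_iff.2 ?_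
      have hyf : y * f * y⁻¹ ∈ coreAt q t :=
        (mem_normalizer_iff.1 (mem_normalizer_coreAt (F.cent y hy.1)) f).1 hf
      have e : a * (y * f * y⁻¹) * a⁻¹ = y⁻¹ * (a * f * a⁻¹) * y := by
        calc a * (y * f * y⁻¹) * a⁻¹ = (a * y * a⁻¹) * (a * f * a⁻¹) * (a * y * a⁻¹)⁻¹ := by group
          _ = y⁻¹ * (a * f * a⁻¹) * y := by rw [hy.2, inv_inv]
      have e2 : y * f * y⁻¹ = y⁻¹ * f * y := by
        rcases hd q hq hq2 a F.ha F.hne.symm F.hc.symm with h | h
        · rwa [← (h _ hf).eq, mul_inv_cancel_right, ← (h _ hyf).eq, mul_inv_cancel_right] at e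
        · have hinv := CfsgLib.Invol.inverts_of_fixedPointFree F.ha (N := coreAt q t)
            (fun z hz => (mem_normalizer_iff.1 (mem_normalizer_coreAt F.hc.symm) z).1 hz)
            fun z hz hz' => h z hz (mul_inv_eq_iff_eq_mul.1 hz').symm
          rw [hinv _ hyf, hinv _ hf] at e
          have := congrArg (·⁻¹) e
          simpa [mul_assoc] using this
      show f * (y * y) = y * y * f
      calc f * (y * y) = y * (y⁻¹ * f * y) * y := by group
        _ = y * (y * f * y⁻¹) * y := by rw [e2]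
        _ = y * y * f := by group
    exact mem_centralizer_singleton_iff.1 (hle hf)
  have hyF : y * y ∈ fit (Ocore t) :=
    CaseB.mem_fit_ocN (M := centralizer ({t} : Set G)) (mul_mem hy.1 hy.1) (key y hy)
  have hcomm := key z hz _ hyF
  obtain ⟨i, hi⟩ := F.hodd.of_dvd_nat (Subgroup.orderOf_dvd_natCard (Ocore t) hy.1)
  obtain ⟨j, hj⟩ := F.hodd.of_dvd_nat (Subgroup.orderOf_dvd_natCard (Ocore t) hz.1)
  have hroot : ∀ (w : G) (k : ℕ), orderOf w = 2 * k + 1 → (w * w) ^ (k + 1) = w := fun w k hk => by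
    rw [← pow_two, ← pow_mul, show 2 * (k + 1) = orderOf w + 1 by omega, pow_succ, pow_orderOf_eq_one, one_mul]
  rw [← hroot y i hi, ← hroot z j hj]
  exact hcomm.pow_pow _ _

/-- **case A without a core moved and fixed in part** -/
theorem isPSLTwoOrA7_of_degenerate {t a : G} (hA : CaseA t) (h8 : ¬ 8 ∣ Nat.card G) (hd : Degenerate t)
    (F : Frame t a (Ocore t)) : IsPSLTwoOrA7 G := by
  classical
  haveI : Fact (Nat.Prime 2) := ⟨Nat.prime_two⟩
  haveI := hA.min.simple
  letI := Fintype.ofFinite G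
  obtain ⟨S, hSV⟩ := F.sylow_four hA.min h8
  obtain ⟨n, hn, hS⟩ := hA.min.dih S
  have haN : a ∈ normalizer (Ocore t : Set G) :=
    centralizer_le_normalizer_ocore t (mem_centralizer_singleton_iff.2 F.hc.symm.eq)
  have hinv : ∀ y ∈ Ocore t, a * y * a⁻¹ = y⁻¹ :=
    CfsgLib.Invol.inverts_of_fixedPointFree F.ha (fun y hy => F.norm y hy)
      fun y hy h => fixed_trivial hA h8 hd F hy (mul_inv_eq_iff_eq_mul.1 h).symm
  have hcomm : ∀ y ∈ Ocore t, ∀ z ∈ Ocore t, Commute y z := by
    intro y hy z hz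
    have h := hinv _ (mul_mem hy hz)
    rw [show a * (y * z) * a⁻¹ = (a * y * a⁻¹) * (a * z * a⁻¹) by group, hinv y hy, hinv z hz,
      _root_.mul_inv_rev] at h
    exact Commute.inv_inv_iff.1 h
  have htS : t ∈ (S : Subgroup G) := hSV ▸ subset_closure (by simp)
  have hmemS : ∀ s ∈ (S : Subgroup G), s = 1 ∨ s = t ∨ s = a ∨ s = t * a := fun s hs =>
    Invol.mem_klein F.ht F.ha F.hne F.hc (hSV ▸ hs)
  have htC : t ∈ centralizer (Ocore t : Set G) := mem_centralizer_iff.2 fun y hy => (F.cent y hy).eq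
  have hZ : ∀ s ∈ (S : Subgroup G), s * t = t * s := fun s hs => by
    rcases hmemS s hs with rfl | rfl | rfl | rfl
    · rw [one_mul, mul_one]
    · rfl
    · exact F.hc.eq.symm
    · rw [mul_assoc, ← F.hc.eq]
  have h1 : Ocore t ≠ ⊥ → IsCyclic ((S : Subgroup G) ⊓ centralizer (Ocore t : Set G) : Subgroup G) ∧
      ((S : Subgroup G) ⊓ centralizer (Ocore t : Set G)).relIndex (S : Subgroup G) = 2 := by
    intro hO
    have hne : ∀ s : G, (∀ y ∈ Ocore t, s * y * s⁻¹ = y⁻¹) → s ∉ centralizer (Ocore t : Set G) := by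
      intro s hs hsC
      refine hO ((eq_bot_iff_forall _).2 fun y hy => CaseB.eq_one_of_inv_fix (hs y hy) ?_
        (CaseB.orderOf_odd_of_mem (odd_ocore t) hy))
      exact (mem_centralizer_iff.1 hsC y hy).symm
    have heq : (S : Subgroup G) ⊓ centralizer (Ocore t : Set G) = zpowers t := by
      refine le_antisymm (fun s hs => ?_) (zpowers_le.2 ⟨htS, htC⟩)
      rcases hmemS s hs.1 with rfl | rfl | rfl | rfl
      · exact one_mem _
      · exact mem_zpowers _
      · exact absurd hs.2 (hne _ hinv)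
      · exact absurd hs.2 (hne _ fun y hy => (F.norm' hy).trans (hinv y hy))
    rw [heq]
    refine ⟨inferInstance, ?_⟩
    have h := ((zpowers t).subgroupOf (S : Subgroup G)).card_mul_index
    rw [Nat.card_congr (subgroupOfEquivOfLe (zpowers_le.2 htS)).toEquiv, Nat.card_zpowers, F.ht,
      (hA.min.klein_sylow h8 S).card_four] at h
    rw [relIndex]
    omega
  have h2 : ∀ s ∈ (S : Subgroup G), s ∉ centralizer (Ocore t : Set G) → ∀ y ∈ Ocore t, s * y * s⁻¹ = y⁻¹ := by
    intro s hs hsC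
    intro y hy
    rcases hmemS s hs with rfl | rfl | rfl | rfl
    · exact absurd (one_mem _) hsC
    · exact absurd htC hsC
    · exact hinv y hy
    · exact (F.norm' hy).trans (hinv y hy)
  have h3 : ∀ Y : Subgroup G, Y ≤ Ocore t → Y ≠ ⊥ → normalizer (Y : Set G) ≤ centralizer ({t} : Set G) := by
    intro Y hY hY1
    refine le_of_eq (norm_eq (hA.maximal t hA.invol) hY1 (hY.trans (ocore_le t)) fun g hg => ?_)
    obtain ⟨o, ho, hcase⟩ := F.cover g (mem_centralizer_singleton_iff.1 hg)
    have hoN : o ∈ normalizer (Y : Set G) :=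
      centralizer_le_normalizer _ (mem_centralizer_iff.2 fun y hy => (hcomm y (hY hy) o ho).eq)
    have htN : t ∈ normalizer (Y : Set G) :=
      centralizer_le_normalizer _ (mem_centralizer_iff.2 fun y hy => (F.cent y (hY hy)).eq)
    have haY : a ∈ normalizer (Y : Set G) := mem_normalizer_iff.2 fun y => ⟨fun hy => by
      rw [hinv y (hY hy)]; exact inv_mem hy, fun hy => by
      have h := hinv _ (hY hy)
      rw [show a * (a * y * a⁻¹) * a⁻¹ = (a * a) * y * (a * a)⁻¹ by group, sq_eq_one F.ha, one_mul, inv_one,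
        mul_one] at h
      exact h ▸ inv_mem hy⟩
    rcases hcase with rfl | rfl | rfl | rfl
    exacts [hoN, mul_mem hoN htN, mul_mem hoN haY, mul_mem hoN (mul_mem htN haY)]

  obtain ⟨K, iK, iKt, hK, ⟨φ⟩⟩ := Cfsg.Agent.S0508.result S n hn hS t F.ht htS hZ (Ocore t) rfl h1 h2 h3
  refine Or.inl ⟨K, iK, iKt, hK, ?_, ⟨φ⟩⟩
  by_contra hle
  push Not at hle
  have hcard := Fintype.one_lt_card (α := K)
  have h3 : Fintype.card K = 3 := by obtain ⟨j, hj⟩ := hK; omega
  have h0 := CfsgLib.Perm.Dickson.card_psl K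
  rw [CfsgLib.Perm.Dickson.gcd_odd (by rwa [Nat.card_eq_fintype_card]), Nat.card_eq_fintype_card (α := K), h3,
    ← Nat.card_congr (φ.trans (CfsgLib.Perm.Dickson.pslEquiv K)).toEquiv] at h0
  have h12 : Nat.card G = 2 ^ 2 * 3 ^ 1 := by norm_num at h0 ⊢; omega
  haveI : Fact (Nat.Prime 3) := ⟨Nat.prime_three⟩
  exact hA.min.not_solvable
    (CfsgLib.Char.isSolvable_of_card_two_primes Nat.prime_two Nat.prime_three G 2 1 h12)

end CfsgLib.GW.Klein
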