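import Cfsg.Agent.Lib.GW.Klein.MidFalse
import Cfsg.Agent.Lib.GW.Klein.Degenerate
import Cfsg.Agent.Lib.GW.Klein.CaseC
import Cfsg.Agent.Lib.GW.CaseB

/-!
# The Gorenstein-Walter theorem with four groups as Sylow 2-subgroups
-/

set_option autoImplicit false
set_option linter.unusedSectionVars false
set_option linter.style.haveILetI false

open Subgroup

namespace CfsgLib.GW

open CfsgLib.GW.CaseA

universe u

variable {G : Type u} [Group G] [Finite G]

namespace Klein

/-- no involution acts partially on a core of a centraliser -/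
theorem false_of_partial {t v : G} {p : ℕ} (hP : Partial t v p) (h8 : ¬ 8 ∣ Nat.card G) : False := by
  obtain ⟨L, hS⟩ := hP.exists_setup
  have hK : KSetup t v p L := ⟨hS, h8⟩
  rcases hS.shape with hn | hM | ⟨B, hB⟩
  · exact hK.not_normal hn
  · exact KMid.false_of_mid ⟨hK, hM⟩
  · exact hK.false_of_big hB

end Klein

/-- **minimal configurations with four groups as Sylow 2-subgroups** -/
theorem Min.isPSLTwoOrA7_of_klein (hG : Min G) (h8 : ¬ 8 ∣ Nat.card G) : IsPSLTwoOrA7 G := by
  classical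
  haveI : Fact (Nat.Prime 2) := ⟨Nat.prime_two⟩
  by_contra hnot
  have hmax : ∀ u : G, orderOf u = 2 → IsCoatom (centralizer ({u} : Set G)) := fun u hu => by
    obtain ⟨M, hM, hC⟩ := CaseB.exists_coatom (hG.centralizer_ne_top hu)
    rcases hG.proper_cases hM.1 with htwo | hc
    · rwa [← hG.caseB hu hM hC htwo]
    · exact absurd (hG.isPSLTwoOrA7_of_typeC_klein h8 hu hM.1 hC hc) hnot
  obtain ⟨S⟩ : Nonempty (Sylow 2 G) := inferInstance
  have hK := hG.klein_sylow h8 S
  obtain ⟨⟨t, htS⟩, ht⟩ := exists_prime_orderOf_dvd_card' (G := (S : Subgroup G)) 2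
    (by rw [hK.card_four]; norm_num)
  rw [Subgroup.orderOf_mk] at ht
  have hA : CaseA t := ⟨hG, ht, hmax⟩
  obtain ⟨P, a, ha, hne, hc, -⟩ := hG.exists_klein h8 ht
  by_cases hd : Degenerate t
  · exact hnot (Klein.isPSLTwoOrA7_of_degenerate hA h8 hd (Klein.frame_of hG h8 ht ha hne hc))
  · unfold Degenerate at hd
    push Not at hd
    obtain ⟨p, hp, hp2, b, hb, hbt, hbc, hmov, x, hx, hxb, hx1⟩ := hd
    exact Klein.false_of_partial ⟨hA, hp, hp2, hb, hbt.symm, hbc.symm, hmov, ⟨x, hx, hx1, hxb⟩⟩ h8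

end CfsgLib.GW
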