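import Cfsg.Agent.Lib.GW.Klein.Frame

/-!
# Congruences modulo two for the coefficient vectors

Two irreducible characters of `O` with a common odd coefficient have the same multiplicities modulo two in
every character of the group.
-/

set_option autoImplicit false
set_option linter.unusedSectionVars false
set_option linter.style.haveILetI false

open scoped ComplexConjugate

namespace CfsgLib.GW.Klein

open Cfsg CfsgLib.Char CfsgLib.GW.CaseA.Inverted

universe u v

/-- only the fixed points of an involutive symmetry count modulo two -/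
theorem twoDvd_sum_invol {α : Type v} [DecidableEq α] (σ : α → α) (hσ : ∀ x, σ (σ x) = x) (s : Finset α)
    (hs : ∀ x ∈ s, σ x ∈ s) {f : α → ℂ} (hint : ∀ x ∈ s, IsIntegral ℤ (f x)) (hf : ∀ x ∈ s, f (σ x) = f x) :
    TwoDvd (∑ x ∈ s, f x - ∑ x ∈ s.filter (fun x => σ x = x), f x) := by
  induction hn : s.card using Nat.strong_induction_on generalizing s with
  | _ n ih =>
  subst hn
  by_cases hfix : ∀ x ∈ s, σ x = x
  · rw [Finset.filter_true_of_mem hfix, sub_self]
    exact TwoDvd.zero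
  push Not at hfix
  obtain ⟨x, hx, hne⟩ := hfix
  set s' := (s.erase x).erase (σ x)
  have hmem : ∀ y, y ∈ s' ↔ y ≠ σ x ∧ y ≠ x ∧ y ∈ s := fun y => by simp [s']
  have hσx : σ x ∈ s.erase x := Finset.mem_erase.2 ⟨hne, hs x hx⟩
  have h1 := ih s'.card (lt_of_le_of_lt (Finset.card_erase_le) (Finset.card_erase_lt_of_mem hx)) s'
    (fun y hy => by
      obtain ⟨h1, h2, h3⟩ := (hmem y).1 hy
      exact (hmem _).2 ⟨fun e => h2 (by rw [← hσ y, e, hσ]), fun e => h1 (by rw [← e, hσ]), hs y h3⟩)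
    (fun y hy => hint y ((hmem y).1 hy).2.2) (fun y hy => hf y ((hmem y).1 hy).2.2) rfl
  have e2 : s'.filter (fun y => σ y = y) = s.filter (fun y => σ y = y) := by
    ext y
    simp only [Finset.mem_filter, hmem]
    refine ⟨fun h => ⟨h.1.2.2, h.2⟩, fun h => ⟨⟨fun e => hne ?_, fun e => hne ?_, h.1⟩, h.2⟩⟩
    · have := h.2
      rw [e, hσ] at this
      exact this.symm
    · rw [← e, h.2]
  rw [← Finset.add_sum_erase _ _ hx, ← Finset.add_sum_erase _ _ hσx, hf x hx]
  rw [e2] at h1
  have := h1.add (b := f x + f x) ⟨f x, hint x hx, by ring⟩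
  convert this using 1
  ring

theorem even_of_twoDvd {z : ℤ} (h : TwoDvd (z : ℂ)) : Even z := by
  by_contra ho
  obtain ⟨j, rfl⟩ := Int.not_even_iff_odd.1 ho
  refine not_twoDvd_odd (n := 1) odd_one ?_
  have := h.sub (b := ((2 * j : ℤ) : ℂ)) ⟨(j : ℂ), by
    simpa using (isIntegral_algebraMap (R := ℤ) (A := ℂ) (x := j)), by push_cast; ring⟩
  convert this using 1
  push_cast
  ring

namespace Frame

variable {G : Type u} [Group G] [Fintype G] {t a : G} {O : Subgroup G} [Fintype O] (F : Frame t a O)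
include F

theorem odd_degree (ψ : IrrCharacter O) : ∃ q : ℕ, (ψ : O → ℂ) 1 = q ∧ Odd q := by
  obtain ⟨q, hq⟩ := isCharacter_degree (isCharacter_irr ψ)
  exact ⟨q, hq, F.hodd.of_dvd_nat (degree_dvd_card ψ hq)⟩

/-- the coset `t O` sees only the fusion of `O` -/
theorem twoDvd_omega [DecidableRel (fun x y : G => IsConj x y)] (χ : IrrCharacter G) (ψ : IrrCharacter O) (d : O)
    {r : ℤ} (hr : rr t O (χ : G → ℂ) (ψ : O → ℂ) = r) (hro : Odd r) :
    TwoDvd (omega (χ : G → ℂ) (d : G) * (ψ : O → ℂ) 1 -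
      ∑ k ∈ Finset.univ.filter (fun k : O => IsConj (d : G) k), (ψ : O → ℂ) k) := by
  classical
  haveI := Fintype.ofFinite (IrrCharacter O)
  set C := Finset.univ.filter (fun k : O => IsConj (d : G) k) with hC
  have hP : IsPGroup 2 (Subgroup.zpowers t) :=
    IsPGroup.of_card (n := 1) (by rw [Nat.card_zpowers, F.ht, pow_one])
  have hstep : ∀ x : O, TwoDvd (omega (χ : G → ℂ) (d : G) * (χ : G → ℂ) (t * x) -
      ∑ k ∈ C, (χ : G → ℂ) (t * ((k * x : O) : G))) := by
    intro x
    rw [omega_mul_apply]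
    have hpc : ∀ p ∈ Subgroup.zpowers t, Commute p (t * (x : G)) := fun p hp => by
      obtain ⟨i, rfl⟩ := Subgroup.mem_zpowers_iff.1 hp
      exact ((Commute.refl t).mul_right (F.cent x x.2).symm).zpow_left i
    have h := twoDvd_sum_sub_fixed (Subgroup.zpowers t) hP (Finset.univ.filter (IsConj (d : G)))
      (f := fun k => (χ : G → ℂ) (k * (t * x)))
      (fun k _ => isCharacter_isIntegral (isCharacter_irr χ) _)
      (fun p _ k hk => by
        simp only [Finset.mem_filter, Finset.mem_univ, true_and] at hk ⊢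
        exact hk.trans (isConj_iff.2 ⟨p, rfl⟩))
      (fun p hp k _ => by
        show (χ : G → ℂ) (p * k * p⁻¹ * (t * x)) = _
        rw [show p * k * p⁻¹ * (t * x) = p * (k * (t * x)) * p⁻¹ by
          rw [show p * k * p⁻¹ * (t * x) = p * k * (p⁻¹ * (t * x)) by group, ((hpc p hp).inv_left).eq]
          group, isClassFunction_irr χ _ p])
      (C.image fun k : O => (k : G)) fun k => by
        simp only [hC, Finset.mem_image, Finset.mem_filter, Finset.mem_univ, true_and]
        constructor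
        · rintro ⟨j, hj, rfl⟩
          refine ⟨hj, fun p hp => ?_⟩
          obtain ⟨i, rfl⟩ := Subgroup.mem_zpowers_iff.1 hp
          rw [((F.cent j j.2).symm.zpow_left i).eq, mul_inv_cancel_right]
        · rintro ⟨hk, hfix⟩
          obtain ⟨c, hc⟩ := isConj_iff.1 hk
          have ho : Odd (orderOf k) := by
            rw [← hc, ← MulAut.conj_apply, MulEquiv.orderOf_eq]
            exact F.hodd.of_dvd_nat (Subgroup.orderOf_dvd_natCard O d.2)
          exact ⟨⟨k, F.odd_mem (mul_inv_eq_iff_eq_mul.1 (hfix t (Subgroup.mem_zpowers t))).symm ho⟩, hk, rfl⟩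
    rw [Finset.sum_image fun a _ b _ e => Subtype.ext e] at h
    convert h using 2
    refine Finset.sum_congr rfl fun k _ => ?_
    rw [Subgroup.coe_mul, ← mul_assoc, ← mul_assoc, (F.cent k k.2).eq]
  -- project on `ψ`
  have hsum : TwoDvd (∑ x : O, conj ((ψ : O → ℂ) x) * (omega (χ : G → ℂ) (d : G) * (χ : G → ℂ) (t * x) -
      ∑ k ∈ C, (χ : G → ℂ) (t * ((k * x : O) : G)))) :=
    TwoDvd.sum _ fun x _ => (hstep x).mul_left (by
      rw [← irr_inv]; exact isCharacter_isIntegral (isCharacter_irr ψ) _)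
  have hcf : IsClassFunction O (fun x : O => (χ : G → ℂ) (t * x)) := fun x y => by
    show (χ : G → ℂ) (t * (((y : G) * x) * (y : G)⁻¹)) = _
    rw [show t * ((y : G) * x * (y : G)⁻¹) = (t * y) * x * (y : G)⁻¹ by group, (F.cent y y.2).symm.eq,
      show (y : G) * t * x * (y : G)⁻¹ = y * (t * x) * (y : G)⁻¹ by group, isClassFunction_irr χ _ (y : G)]
  have hO := card_ne_zero' (G := O)
  have h1 := irr_one_ne_zero ψ
  have e1 : ∑ x : O, conj ((ψ : O → ℂ) x) * (χ : G → ℂ) (t * x) = (Nat.card O : ℂ) * r := by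
    rw [← hr, rr, classInner, ← mul_assoc, mul_inv_cancel₀ hO, one_mul]
    exact Finset.sum_congr rfl fun x _ => mul_comm _ _
  have e2 : ∀ k : O, ∑ x : O, conj ((ψ : O → ℂ) x) * (χ : G → ℂ) (t * ((k * x : O) : G)) =
      (r : ℂ) * ((Nat.card O : ℂ) * (ψ : O → ℂ) k / (ψ : O → ℂ) 1) := by
    intro k
    have hk : ∀ x : O, (χ : G → ℂ) (t * ((k * x : O) : G)) = ∑ ν : IrrCharacter O,
        classInner (fun x : O => (χ : G → ℂ) (t * x)) (ν : O → ℂ) * (ν : O → ℂ) (k * x) := fun x => by
      have := congrFun (classFun_expand hcf) (k * x)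
      simpa [Finset.sum_apply] using this
    simp only [hk, Finset.mul_sum]
    rw [Finset.sum_comm, Finset.sum_eq_single ψ]
    · have hs := sum_mul_shift_conj ψ ψ k
      rw [if_pos rfl] at hs
      rw [← hs, ← hr, rr, Finset.mul_sum]
      exact Finset.sum_congr rfl fun x _ => by ring
    · intro ν _ hν
      have hs := sum_mul_shift_conj ν ψ k
      rw [if_neg hν] at hs
      calc ∑ x : O, conj ((ψ : O → ℂ) x) * (classInner (fun x : O => (χ : G → ℂ) (t * x)) (ν : O → ℂ) *
            (ν : O → ℂ) (k * x))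
          = classInner (fun x : O => (χ : G → ℂ) (t * x)) (ν : O → ℂ) *
              ∑ x : O, (ν : O → ℂ) (k * x) * conj ((ψ : O → ℂ) x) := by
            rw [Finset.mul_sum]; exact Finset.sum_congr rfl fun x _ => by ring
        _ = 0 := by rw [hs, mul_zero]
    · exact fun h => absurd (Finset.mem_univ ψ) h
  simp only [mul_sub, Finset.sum_sub_distrib, Finset.mul_sum] at hsum
  rw [Finset.sum_comm (γ := O), Finset.sum_congr rfl fun k _ => e2 k,
    ← Finset.mul_sum, ← Finset.sum_div, ← Finset.mul_sum] at hsum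
  have e3 : ∑ x : O, conj ((ψ : O → ℂ) x) * (omega (χ : G → ℂ) (d : G) * (χ : G → ℂ) (t * x)) =
      omega (χ : G → ℂ) (d : G) * ((Nat.card O : ℂ) * r) := by
    rw [← e1, Finset.mul_sum]
    exact Finset.sum_congr rfl fun x _ => by ring
  rw [e3] at hsum
  obtain ⟨q, hq, hqo⟩ := F.odd_degree ψ
  have h3 := hsum.mul_left (c := (ψ : O → ℂ) 1) (isCharacter_isIntegral (isCharacter_irr ψ) 1)
  have h4 : TwoDvd (((Nat.card O * r.natAbs : ℕ) : ℂ) * (omega (χ : G → ℂ) (d : G) * (ψ : O → ℂ) 1 -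
      ∑ k ∈ C, (ψ : O → ℂ) k)) := by
    have hn := Int.natAbs_eq r
    generalize r.natAbs = n at hn ⊢
    rcases hn with rfl | rfl
    · convert h3 using 1
      push_cast
      field_simp
    · convert h3.neg using 1
      push_cast
      field_simp
      ring
  refine twoDvd_of_odd_mul (F.hodd.mul (Int.natAbs_odd.2 hro)) ?_ h4
  exact ((isIntegral_omega χ _).mul (isCharacter_isIntegral (isCharacter_irr ψ) 1)).sub
    (IsIntegral.sum _ fun k _ => isCharacter_isIntegral (isCharacter_irr ψ) k)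

/-- two characters with a common odd coefficient agree on the fusion classes modulo two -/
theorem twoDvd_fusion [DecidableRel (fun x y : G => IsConj x y)] {χ : IrrCharacter G} {θ ψ : IrrCharacter O}
    (hθ : (θ : O → ℂ) 1 = 1) {r s : ℤ} (hr : rr t O (χ : G → ℂ) (θ : O → ℂ) = r) (hro : Odd r)
    (hs : rr t O (χ : G → ℂ) (ψ : O → ℂ) = s) (hso : Odd s) (d : O) :
    TwoDvd (∑ k ∈ Finset.univ.filter (fun k : O => IsConj (d : G) k),
      ((ψ : O → ℂ) k - (ψ : O → ℂ) 1 * (θ : O → ℂ) k)) := by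
  have h1 := F.twoDvd_omega χ θ d hr hro
  have h2 := F.twoDvd_omega χ ψ d hs hso
  rw [hθ, mul_one] at h1
  have := (h1.mul_left (c := (ψ : O → ℂ) 1) (isCharacter_isIntegral (isCharacter_irr ψ) 1)).sub h2
  convert this using 1
  rw [Finset.sum_sub_distrib, ← Finset.mul_sum]
  ring

/-- **the multiplicities agree modulo two** -/
theorem mult_parity {χ : IrrCharacter G} {θ ψ : IrrCharacter O} (hθ : (θ : O → ℂ) 1 = 1) {r s : ℤ}
    (hr : rr t O (χ : G → ℂ) (θ : O → ℂ) = r) (hro : Odd r)
    (hs : rr t O (χ : G → ℂ) (ψ : O → ℂ) = s) (hso : Odd s) (ξ : IrrCharacter G) {m m' : ℕ}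
    (hm : classInner (fun x : O => (ξ : G → ℂ) x) (θ : O → ℂ) = m)
    (hm' : classInner (fun x : O => (ξ : G → ℂ) x) (ψ : O → ℂ) = m') : Odd m ↔ Odd m' := by
  classical
  haveI := Fintype.ofFinite (ConjClasses G)
  obtain ⟨q, hq, hqo⟩ := F.odd_degree ψ
  have hO := card_ne_zero' (G := O)
  set f := fun x : O => conj ((ξ : G → ℂ) x) * ((ψ : O → ℂ) x - (ψ : O → ℂ) 1 * (θ : O → ℂ) x) with hf
  have h : TwoDvd (∑ x : O, f x) := by
    rw [← Finset.sum_fiberwise Finset.univ (fun x : O => ConjClasses.mk (x : G)) f]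
    refine TwoDvd.sum _ fun C _ => ?_
    by_cases hC : ∃ d : O, ConjClasses.mk (d : G) = C
    · obtain ⟨d, rfl⟩ := hC
      have h1 := (F.twoDvd_fusion hθ hr hro hs hso d).mul_left (c := conj ((ξ : G → ℂ) d))
        (by rw [← irr_inv]; exact isCharacter_isIntegral (isCharacter_irr ξ) _)
      convert h1 using 1
      rw [Finset.mul_sum]
      refine Finset.sum_congr ?_ fun k hk => ?_
      · ext k
        simp only [Finset.mem_filter, Finset.mem_univ, true_and, ConjClasses.mk_eq_mk_iff_isConj]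
        exact isConj_comm
      · simp only [hf]
        rw [classFun_isConj (isClassFunction_irr ξ) (Finset.mem_filter.1 hk).2]
    · rw [Finset.filter_false_of_mem fun x _ => fun e => hC ⟨x, e⟩, Finset.sum_empty]
      exact TwoDvd.zero
  have e1 : ∀ (φ : IrrCharacter O) (j : ℕ), classInner (fun x : O => (ξ : G → ℂ) x) (φ : O → ℂ) = j →
      ∑ x : O, conj ((ξ : G → ℂ) x) * (φ : O → ℂ) x = (Nat.card O : ℂ) * j := by
    intro φ j hj
    have := congrArg conj hj
    rw [classInner_conj, map_natCast, classInner, inv_mul_eq_iff_eq_mul₀ hO] at this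
    rw [← this]
    exact Finset.sum_congr rfl fun x _ => mul_comm _ _
  have hsplit : ∑ x : O, f x = (((Nat.card O : ℤ) * ((m' : ℤ) - q * m) : ℤ) : ℂ) := by
    simp only [hf, mul_sub, Finset.sum_sub_distrib]
    rw [e1 ψ m' hm', show ∑ x : O, conj ((ξ : G → ℂ) x) * ((ψ : O → ℂ) 1 * (θ : O → ℂ) x) =
      (ψ : O → ℂ) 1 * ∑ x : O, conj ((ξ : G → ℂ) x) * (θ : O → ℂ) x by
        rw [Finset.mul_sum]; exact Finset.sum_congr rfl fun x _ => by ring, e1 θ m hm, hq]
    push_cast
    ring
  rw [hsplit] at h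
  have he := even_of_twoDvd h
  have hodd : Odd (Nat.card O : ℤ) := by exact_mod_cast F.hodd
  have hqz : Odd (q : ℤ) := by exact_mod_cast hqo
  rw [Int.even_mul, or_iff_right (Int.not_even_iff_odd.2 hodd), Int.even_sub, Int.even_mul,
    or_iff_right (Int.not_even_iff_odd.2 hqz), Int.even_coe_nat, Int.even_coe_nat] at he
  rw [← Nat.not_even_iff_odd, ← Nat.not_even_iff_odd, he]

/-- a sum over `O` reduces to the centraliser of `a` modulo two -/
theorem twoDvd_sub_fixed {f : O → ℂ} (hint : ∀ x, IsIntegral ℤ (f x)) (hf : ∀ x, f (F.conjA x) = f x)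
    (s : Finset O) (hs : ∀ x ∈ s, F.conjA x ∈ s) [DecidablePred fun x : O => F.conjA x = x] :
    TwoDvd (∑ x ∈ s, f x - ∑ x ∈ s.filter (fun x => F.conjA x = x), f x) := by
  classical
  convert twoDvd_sum_invol (fun x => F.conjA x) F.conjA_conjA s hs (fun x _ => hint x) (fun x _ => hf x)

end Frame

end CfsgLib.GW.Klein
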