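import Cfsg.Agent.Lib.GW.CaseA.Inverted.Congr
import Cfsg.Agent.Lib.Char.ClassMul
import Cfsg.Agent.Lib.Char.SmallCofactor.Tools

/-!
# The functions on the coset of an involution in its centraliser `O V`, `V` a four group

For `ψ` on `O` and a character `χ` of the whole group, `rr F χ ψ` is the coefficient of `ψ` in the function
`x ↦ χ(t x)` on `O`. For irreducible `ψ` it is an integer congruent to the multiplicity modulo two, the
vectors have norm four (`ψ` fixed by `a`) or two, and are orthogonal to the degrees.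
-/

set_option autoImplicit false
set_option linter.unusedSectionVars false
set_option linter.style.haveILetI false

open scoped ComplexConjugate

namespace CfsgLib.GW.Klein

open Cfsg CfsgLib.Char CfsgLib.GW.CaseA.Inverted

universe u

variable {G : Type u} [Group G] [Finite G]

/-- `C(t) = O {1, t, a, t a}` with `O` of odd order -/
structure Frame (t a : G) (O : Subgroup G) : Prop where
  ht : orderOf t = 2
  ha : orderOf a = 2
  hne : t ≠ a
  hc : Commute t a
  hodd : Odd (Nat.card O)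
  cent : ∀ x ∈ O, Commute x t
  norm : ∀ x ∈ O, a * x * a⁻¹ ∈ O
  cover : ∀ g, Commute g t → ∃ x ∈ O, g = x ∨ g = x * t ∨ g = x * a ∨ g = x * (t * a)

/-- the coefficient of `ψ` in `x ↦ χ (t x)` -/
noncomputable def rr (t : G) (O : Subgroup G) [Fintype O] (χ : G → ℂ) (ψ : O → ℂ) : ℂ :=
  classInner (fun x : O => χ (t * x)) ψ

theorem sq_eq_one {x : G} (h : orderOf x = 2) : x * x = 1 := by
  rw [← pow_two, ← h, pow_orderOf_eq_one]

theorem inv_eq_self {x : G} (h : orderOf x = 2) : x⁻¹ = x := inv_eq_of_mul_eq_one_right (sq_eq_one h)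

namespace Frame

variable {t a : G} {O : Subgroup G} (F : Frame t a O)
include F

theorem not_mem {v : G} (hv : orderOf v = 2) : v ∉ O := fun h => by
  have h2 := Subgroup.orderOf_dvd_natCard O h
  rw [hv] at h2
  exact (Nat.not_even_iff_odd.2 F.hodd) (even_iff_two_dvd.2 h2)

theorem order_ta : orderOf (t * a) = 2 := by
  refine orderOf_eq_prime ?_ fun h => F.hne ?_
  · rw [pow_two, show t * a * (t * a) = t * (a * t) * a by group, ← F.hc.eq,
      show t * (t * a) * a = (t * t) * (a * a) by group, sq_eq_one F.ht, sq_eq_one F.ha, one_mul]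
  · rw [mul_eq_one_iff_eq_inv, inv_eq_self F.ha] at h
    exact h

theorem conj_t {x : G} (hx : x ∈ O) : t * x * t⁻¹ = x := by
  rw [← (F.cent x hx).eq, mul_inv_cancel_right]

theorem norm' {x : G} (hx : x ∈ O) : (t * a) * x * (t * a)⁻¹ = a * x * a⁻¹ := by
  rw [show (t * a) * x * (t * a)⁻¹ = t * (a * x * a⁻¹) * t⁻¹ by group, F.conj_t (F.norm x hx)]

/-- conjugation by `a` on `O` -/
def conjA : O ≃* O where
  toFun x := ⟨a * x * a⁻¹, F.norm x x.2⟩
  invFun x := ⟨a * x * a⁻¹, F.norm x x.2⟩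
  left_inv x := Subtype.ext (show a * (a * x * a⁻¹) * a⁻¹ = (x : G) by
    rw [show a * (a * x * a⁻¹) * a⁻¹ = (a * a) * x * (a * a)⁻¹ by group, sq_eq_one F.ha]; group)
  right_inv x := Subtype.ext (show a * (a * x * a⁻¹) * a⁻¹ = (x : G) by
    rw [show a * (a * x * a⁻¹) * a⁻¹ = (a * a) * x * (a * a)⁻¹ by group, sq_eq_one F.ha]; group)
  map_mul' x y := Subtype.ext (show a * ((x : G) * y) * a⁻¹ = a * x * a⁻¹ * (a * y * a⁻¹) by group)

theorem conjA_val (x : O) : (F.conjA x : G) = a * x * a⁻¹ := rfl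

theorem conjA_conjA (x : O) : F.conjA (F.conjA x) = x := F.conjA.left_inv x

/-- `O` is normal in `C(t)` -/
theorem conj_mem {g : G} (hg : Commute g t) {x : G} (hx : x ∈ O) : g * x * g⁻¹ ∈ O := by
  obtain ⟨o, ho, h | h | h | h⟩ := F.cover g hg <;> subst h
  · exact mul_mem (mul_mem ho hx) (inv_mem ho)
  · rw [show o * t * x * (o * t)⁻¹ = o * (t * x * t⁻¹) * o⁻¹ by group, F.conj_t hx]
    exact mul_mem (mul_mem ho hx) (inv_mem ho)
  · rw [show o * a * x * (o * a)⁻¹ = o * (a * x * a⁻¹) * o⁻¹ by group]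
    exact mul_mem (mul_mem ho (F.norm x hx)) (inv_mem ho)
  · rw [show o * (t * a) * x * (o * (t * a))⁻¹ = o * ((t * a) * x * (t * a)⁻¹) * o⁻¹ by group, F.norm' hx]
    exact mul_mem (mul_mem ho (F.norm x hx)) (inv_mem ho)

theorem sq_mem {g : G} (hg : Commute g t) : g * g ∈ O := by
  obtain ⟨o, ho, h | h | h | h⟩ := F.cover g hg <;> subst h
  · exact mul_mem ho ho
  · rw [show o * t * (o * t) = o * (t * o * t⁻¹) * (t * t) by group, F.conj_t ho, sq_eq_one F.ht, mul_one]
    exact mul_mem ho ho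
  · rw [show o * a * (o * a) = o * (a * o * a⁻¹) * (a * a) by group, sq_eq_one F.ha, mul_one]
    exact mul_mem ho (F.norm o ho)
  · rw [show o * (t * a) * (o * (t * a)) = o * ((t * a) * o * (t * a)⁻¹) * ((t * a) * (t * a)) by group,
      F.norm' ho, sq_eq_one F.order_ta, mul_one]
    exact mul_mem ho (F.norm o ho)

/-- the elements of odd order of `C(t)` lie in `O` -/
theorem odd_mem {g : G} (hg : Commute g t) (ho : Odd (orderOf g)) : g ∈ O := by
  obtain ⟨k, hk⟩ := ho
  have h : g = ((g * g) ^ k)⁻¹ := eq_inv_of_mul_eq_one_left (by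
    rw [← pow_two, ← pow_mul, ← pow_succ', ← hk, pow_orderOf_eq_one])
  exact h ▸ inv_mem (pow_mem (F.sq_mem hg) k)

theorem pow_card {x : G} (hx : x ∈ O) : (t * x) ^ Nat.card O = t := by
  rw [(F.cent x hx).symm.mul_pow]
  obtain ⟨k, hk⟩ := F.hodd
  rw [orderOf_dvd_iff_pow_eq_one.1 (Subgroup.orderOf_dvd_natCard O hx), mul_one, hk, pow_succ, pow_mul,
    pow_two, sq_eq_one F.ht, one_pow, one_mul]

theorem commute_of_conj {g x y : G} (hx : x ∈ O) (hy : y ∈ O) (h : g * (t * x) * g⁻¹ = t * y) :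
    Commute g t := by
  have := congrArg (· ^ Nat.card O) h
  simp only [conj_pow, F.pow_card hx, F.pow_card hy] at this
  exact mul_inv_eq_iff_eq_mul.1 this

/-- the points `O × V` -/
def pt (_ : Frame t a O) : O × Bool × Bool → G
  | (x, false, false) => x
  | (x, true, false) => x * t
  | (x, false, true) => x * a
  | (x, true, true) => x * (t * a)

theorem pt_commute (w : O × Bool × Bool) : Commute (F.pt w) t := by
  obtain ⟨x, i, j⟩ := w
  have h := F.cent x x.2
  cases i <;> cases j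
  · exact h
  · exact h.mul_left F.hc.symm
  · exact h.mul_left (Commute.refl t)
  · exact h.mul_left ((Commute.refl t).mul_left F.hc.symm)

theorem pt_injective : Function.Injective F.pt := by
  rintro ⟨x, i, j⟩ ⟨y, i', j'⟩ h
  have key : ∀ {v : G}, (x : G) * v = y → v ∈ O := fun {v} e => by
    rw [show v = (x : G)⁻¹ * y by rw [← e]; group]; exact mul_mem (inv_mem x.2) y.2
  have key' : ∀ {v : G}, (x : G) = y * v → v ∈ O := fun {v} e => by
    rw [show v = (y : G)⁻¹ * x by rw [e]; group]; exact mul_mem (inv_mem y.2) x.2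
  have ht := F.not_mem F.ht
  have ha := F.not_mem F.ha
  have hta := F.not_mem F.order_ta
  have e1 := sq_eq_one F.ht
  have e2 := sq_eq_one F.ha
  have e3 := sq_eq_one F.order_ta
  cases i <;> cases j <;> cases i' <;> cases j' <;> simp only [pt] at h
  -- x = y v'
  · exact Prod.ext (Subtype.ext h) rfl
  · exact absurd (key' h) ha
  · exact absurd (key' h) ht
  · exact absurd (key' h) hta
  -- x a = y v'
  · exact absurd (key h) ha
  · exact Prod.ext (Subtype.ext (mul_right_cancel h)) rfl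
  · exact absurd (key (v := a * t) (by rw [← mul_assoc, h, mul_assoc, e1, mul_one])) (F.hc.eq ▸ hta)
  · exact absurd (key' (v := t) (mul_right_cancel (h.trans (mul_assoc _ _ _).symm))) ht
  -- x t = y v'
  · exact absurd (key h) ht
  · exact absurd (key (v := t * a) (by rw [← mul_assoc, h, mul_assoc, e2, mul_one])) hta
  · exact Prod.ext (Subtype.ext (mul_right_cancel h)) rfl
  · exact absurd (key' (v := a) (mul_right_cancel (h.trans (by rw [F.hc.eq, mul_assoc])))) ha
  -- x (t a) = y v'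
  · exact absurd (key h) hta
  · exact absurd (key (v := t) (mul_right_cancel ((mul_assoc _ _ _).trans h))) ht
  · exact absurd (key (v := a) (mul_right_cancel ((mul_assoc _ _ _).trans (F.hc.eq ▸ h)))) ha
  · exact Prod.ext (Subtype.ext (mul_right_cancel h)) rfl

theorem pt_surjective {g : G} (hg : Commute g t) : ∃ w, F.pt w = g := by
  obtain ⟨x, hx, h | h | h | h⟩ := F.cover g hg
  · exact ⟨(⟨x, hx⟩, false, false), h.symm⟩
  · exact ⟨(⟨x, hx⟩, true, false), h.symm⟩
  · exact ⟨(⟨x, hx⟩, false, true), h.symm⟩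
  · exact ⟨(⟨x, hx⟩, true, true), h.symm⟩

theorem card_cent : Nat.card (Subgroup.centralizer ({t} : Set G)) = 4 * Nat.card O := by
  classical
  have h : Nat.card (O × Bool × Bool) = Nat.card (Subgroup.centralizer ({t} : Set G)) :=
    Nat.card_congr (Equiv.ofBijective
      (fun w => (⟨F.pt w, Subgroup.mem_centralizer_singleton_iff.2 (F.pt_commute w).eq⟩ :
        Subgroup.centralizer ({t} : Set G)))
      ⟨fun w w' e => F.pt_injective (congrArg Subtype.val e), fun g => by
        obtain ⟨w, hw⟩ := F.pt_surjective (Subgroup.mem_centralizer_singleton_iff.1 g.2 : (g : G) * t = t * g)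
        exact ⟨w, Subtype.ext hw⟩⟩)
  rw [← h, Nat.card_prod, Nat.card_prod, Nat.card_eq_fintype_card (α := Bool), Fintype.card_bool]
  omega

variable [Fintype O]

/-- the coefficient is twice a natural number less the multiplicity -/
theorem exists_nat (χ : IrrCharacter G) (ψ : IrrCharacter O) :
    ∃ k m : ℕ, rr t O (χ : G → ℂ) (ψ : O → ℂ) = 2 * (k : ℂ) - m ∧
      classInner (fun x : O => (χ : G → ℂ) x) (ψ : O → ℂ) = m := by
  classical
  obtain ⟨m, hm⟩ := classInner_char_irr_nat (isCharacter_comp (isCharacter_irr χ) O.subtype) ψ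
  let ι : ℤˣ →* G := MonoidHom.mk' (fun u => if u = 1 then 1 else t) fun x y => by
    rcases Int.units_eq_one_or x with rfl | rfl <;> rcases Int.units_eq_one_or y with rfl | rfl <;>
      simp [sq_eq_one F.ht]
  let φ : O × ℤˣ →* G := O.subtype.noncommCoprod ι fun x u => by
    rcases Int.units_eq_one_or u with rfl | rfl
    · simp
    · simpa [ι] using F.cent x x.2
  have hφ : ∀ (x : O) (u : ℤˣ), φ (x, u) = (x : G) * ι u := fun x u => rfl
  obtain ⟨k, hk⟩ := classInner_isCharacter (isCharacter_comp (isCharacter_irr χ) φ)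
    (isCharacter_comp (isCharacter_irr ψ) (MonoidHom.fst O ℤˣ))
  refine ⟨k, m, ?_, hm⟩
  have hO := card_ne_zero' (G := O)
  rw [← hm, ← hk]
  simp only [rr, classInner, Fintype.sum_prod_type, hφ, Nat.card_prod, Nat.card_eq_fintype_card (α := ℤˣ),
    Fintype.card_units_int, UnitsInt.univ, MonoidHom.coe_fst, Subgroup.coe_subtype]
  have h2 : ∀ x : O, ∑ u ∈ ({1, -1} : Finset ℤˣ), (χ : G → ℂ) ((x : G) * ι u) * conj ((ψ : O → ℂ) x) =
      (χ : G → ℂ) x * conj ((ψ : O → ℂ) x) + (χ : G → ℂ) (t * x) * conj ((ψ : O → ℂ) x) := fun x => by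
    rw [Finset.sum_pair (by decide)]
    simp [ι, (F.cent x x.2).eq]
  rw [Finset.sum_congr rfl fun x _ => h2 x, Finset.sum_add_distrib]
  push_cast
  field_simp
  ring

/-- **the inner products of the coefficient vectors** -/
theorem sum_rr_mul [Fintype (IrrCharacter G)] {φ ψ : O → ℂ} (hφ : IsClassFunction O φ) :
    ∑ χ : IrrCharacter G, rr t O (χ : G → ℂ) ψ * conj (rr t O (χ : G → ℂ) φ) =
      2 * classInner φ ψ + 2 * classInner (fun x => φ (F.conjA x)) ψ := by
  classical
  letI := Fintype.ofFinite G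
  have hO := card_ne_zero' (G := O)
  have hcount : ∀ g h : G, (if IsConj g h then (Nat.card (Subgroup.centralizer ({g} : Set G)) : ℂ) else 0) =
      ∑ c : G, if c * g * c⁻¹ = h then (1 : ℂ) else 0 := by
    intro g h
    rw [Finset.sum_boole]
    split_ifs with hc
    · obtain ⟨c₀, hc₀⟩ := isConj_iff.1 hc
      rw [Nat.card_eq_fintype_card, ← Fintype.card_subtype]
      exact congrArg Nat.cast (Fintype.card_congr
        { toFun := fun z => ⟨c₀ * z, by
            have := Subgroup.mem_centralizer_singleton_iff.1 z.2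
            calc c₀ * z * g * (c₀ * z)⁻¹ = c₀ * ((z : G) * g) * (z : G)⁻¹ * c₀⁻¹ := by group
              _ = c₀ * g * c₀⁻¹ := by rw [this]; group
              _ = h := hc₀⟩
          invFun := fun c => ⟨c₀⁻¹ * c, Subgroup.mem_centralizer_singleton_iff.2 (mul_inv_eq_iff_eq_mul.1 (by
            calc c₀⁻¹ * c * g * (c₀⁻¹ * c)⁻¹ = c₀⁻¹ * ((c : G) * g * (c : G)⁻¹) * c₀ := by group
              _ = g := by rw [c.2, ← hc₀]; group))⟩
          left_inv := fun z => Subtype.ext (inv_mul_cancel_left c₀ (z : G))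
          right_inv := fun c => Subtype.ext (mul_inv_cancel_left c₀ (c : G)) })
    · rw [Finset.card_eq_zero.2 (Finset.filter_eq_empty_iff.2 fun {c} _ e => hc (isConj_iff.2 ⟨c, e⟩)),
        Nat.cast_zero]
  -- column orthogonality
  have e1 : ∑ χ : IrrCharacter G, rr t O (χ : G → ℂ) ψ * conj (rr t O (χ : G → ℂ) φ) =
      (Nat.card O : ℂ)⁻¹ * (Nat.card O : ℂ)⁻¹ * ∑ c : G, ∑ x : O, ∑ y : O,
        if c * (t * x) * c⁻¹ = t * y then φ y * conj (ψ x) else 0 := by
    have hterm : ∀ χ : IrrCharacter G, rr t O (χ : G → ℂ) ψ * conj (rr t O (χ : G → ℂ) φ) =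
        ∑ x : O, ∑ y : O, (Nat.card O : ℂ)⁻¹ * (Nat.card O : ℂ)⁻¹ * (φ y * conj (ψ x)) *
          ((χ : G → ℂ) (t * x) * conj ((χ : G → ℂ) (t * y))) := fun χ => by
      simp only [rr, classInner, map_mul, map_sum, map_inv₀, map_natCast, Complex.conj_conj]
      rw [mul_mul_mul_comm, Finset.sum_mul_sum, Finset.mul_sum]
      refine Finset.sum_congr rfl fun x _ => ?_
      rw [Finset.mul_sum]
      exact Finset.sum_congr rfl fun y _ => by ring
    rw [Finset.sum_congr rfl fun χ _ => hterm χ, Finset.sum_comm]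
    conv_rhs => rw [Finset.sum_comm, Finset.mul_sum]
    refine Finset.sum_congr rfl fun x _ => ?_
    rw [Finset.sum_comm]
    conv_rhs => rw [Finset.sum_comm, Finset.mul_sum]
    refine Finset.sum_congr rfl fun y _ => ?_
    rw [← Finset.mul_sum, sum_irr_mul_conj, hcount, Finset.mul_sum, Finset.mul_sum]
    exact Finset.sum_congr rfl fun c _ => by split_ifs <;> ring
  rw [e1]
  -- only the centraliser contributes
  have e2 : ∀ c : G, (∑ x : O, ∑ y : O, if c * (t * x) * c⁻¹ = t * y then φ y * conj (ψ x) else 0) =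
      if hc : Commute c t then ∑ x : O, φ ⟨c * x * c⁻¹, F.conj_mem hc x.2⟩ * conj (ψ x) else 0 := by
    intro c
    split_ifs with hc
    · refine Finset.sum_congr rfl fun x _ => ?_
      have hx : c * (t * x) * c⁻¹ = t * (c * x * c⁻¹) := by
        rw [← mul_assoc c t, hc.eq]; group
      rw [Finset.sum_eq_single (⟨c * x * c⁻¹, F.conj_mem hc x.2⟩ : O)]
      · rw [if_pos hx]
      · intro y _ hy
        rw [if_neg fun e => hy (Subtype.ext (mul_left_cancel (hx.symm.trans e)).symm)]
      · exact fun h => absurd (Finset.mem_univ _) h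
    · exact Finset.sum_eq_zero fun x _ => Finset.sum_eq_zero fun y _ =>
        if_neg fun e => hc (F.commute_of_conj x.2 y.2 e)
  rw [Finset.sum_congr rfl fun c _ => e2 c]
  have e3 : (∑ c : G, if hc : Commute c t then ∑ x : O, φ ⟨c * x * c⁻¹, F.conj_mem hc x.2⟩ * conj (ψ x) else 0) =
      ∑ w : O × Bool × Bool, ∑ x : O, φ ⟨F.pt w * x * (F.pt w)⁻¹, F.conj_mem (F.pt_commute w) x.2⟩ *
        conj (ψ x) := by
    symm
    refine Finset.sum_bij_ne_zero (fun w _ _ => F.pt w) (fun _ _ _ => Finset.mem_univ _)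
      (fun w _ _ w' _ _ e => F.pt_injective e) (fun c _ hc0 => ?_) fun w _ _ => ?_
    · have hc : Commute c t := by
        by_contra hc
        rw [dif_neg hc] at hc0
        exact hc0 rfl
      obtain ⟨w, rfl⟩ := F.pt_surjective hc
      rw [dif_pos hc] at hc0
      exact ⟨w, Finset.mem_univ _, hc0, rfl⟩
    · rw [dif_pos (F.pt_commute w)]
  rw [e3, Fintype.sum_prod_type]
  have e4 : ∀ (o x : O) (v : G) (x' : O) (hv : (x' : G) = v * x * v⁻¹)
      (h : (o : G) * v * x * ((o : G) * v)⁻¹ ∈ O), φ ⟨_, h⟩ = φ x' := by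
    intro o x v x' hv h
    rw [← hφ x' o]
    congr 1
    ext
    simp only [Subgroup.coe_mul, Subgroup.coe_inv, hv]
    group
  have e5 : ∀ o : O, ∑ v : Bool × Bool, ∑ x : O,
      φ ⟨F.pt (o, v) * x * (F.pt (o, v))⁻¹, F.conj_mem (F.pt_commute _) x.2⟩ * conj (ψ x) =
        2 * (∑ x : O, φ x * conj (ψ x)) + 2 * ∑ x : O, φ (F.conjA x) * conj (ψ x) := by
    intro o
    simp only [Fintype.sum_prod_type, Fintype.sum_bool]
    have a1 : ∀ x : O, φ ⟨F.pt (o, false, false) * x * (F.pt (o, false, false))⁻¹,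
        F.conj_mem (F.pt_commute _) x.2⟩ = φ x := fun x => by
      rw [← e4 o x 1 x (by group) (by simpa using mul_mem (mul_mem o.2 x.2) (inv_mem o.2))]
      congr 2
      simp [pt]
    have a2 : ∀ x : O, φ ⟨F.pt (o, true, false) * x * (F.pt (o, true, false))⁻¹,
        F.conj_mem (F.pt_commute _) x.2⟩ = φ x :=
      fun x => e4 o x t x (F.conj_t x.2).symm _
    have a3 : ∀ x : O, φ ⟨F.pt (o, false, true) * x * (F.pt (o, false, true))⁻¹,
        F.conj_mem (F.pt_commute _) x.2⟩ = φ (F.conjA x) :=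
      fun x => e4 o x a _ rfl _
    have a4 : ∀ x : O, φ ⟨F.pt (o, true, true) * x * (F.pt (o, true, true))⁻¹,
        F.conj_mem (F.pt_commute _) x.2⟩ = φ (F.conjA x) :=
      fun x => e4 o x (t * a) _ (F.norm' x.2).symm _
    simp only [a1, a2, a3, a4]
    ring
  rw [Finset.sum_congr rfl fun o _ => e5 o, Finset.sum_const, Finset.card_univ, nsmul_eq_mul,
    ← Nat.card_eq_fintype_card]
  simp only [classInner]
  field_simp

/-- the coefficient vectors are orthogonal to the degrees -/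
theorem sum_rr_degree [Fintype (IrrCharacter G)] (ψ : O → ℂ) :
    ∑ χ : IrrCharacter G, rr t O (χ : G → ℂ) ψ * (χ : G → ℂ) 1 = 0 := by
  classical
  simp only [rr, classInner, Finset.mul_sum, Finset.sum_mul]
  rw [Finset.sum_comm]
  refine Finset.sum_eq_zero fun x _ => ?_
  have hne : ¬ IsConj (t * (x : G)) 1 := fun h => by
    rw [isConj_comm, isConj_one_right, mul_eq_one_iff_eq_inv] at h
    exact F.not_mem F.ht (h ▸ inv_mem x.2)
  calc _ = (Nat.card O : ℂ)⁻¹ * conj (ψ x) *
        ∑ χ : IrrCharacter G, (χ : G → ℂ) (t * x) * conj ((χ : G → ℂ) 1) := by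
          rw [Finset.mul_sum]; exact Finset.sum_congr rfl fun χ _ => by rw [conj_irr_one]; ring
    _ = 0 := by rw [sum_irr_mul_conj, if_neg hne, mul_zero]

/-- **the coefficient vector of an irreducible character** -/
theorem exists_vector [Fintype (IrrCharacter G)] (ψ : IrrCharacter O) :
    ∃ z : IrrCharacter G → ℤ, (∀ χ : IrrCharacter G, rr t O (χ : G → ℂ) (ψ : O → ℂ) = z χ) ∧
      (∀ χ : IrrCharacter G, z χ = 0 ∨ z χ = 1 ∨ z χ = -1) ∧
      (∀ (χ : IrrCharacter G) (m : ℕ), classInner (fun x : O => (χ : G → ℂ) x) (ψ : O → ℂ) = m → (Odd m ↔ z χ ≠ 0)) ∧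
      (∑ χ : IrrCharacter G, z χ * (charDegree (χ : G → ℂ) : ℤ) = 0) ∧
      (((∀ x, (ψ : O → ℂ) (F.conjA x) = (ψ : O → ℂ) x) ∧ ∑ χ, z χ * z χ = 4) ∨
        ((¬ ∀ x, (ψ : O → ℂ) (F.conjA x) = (ψ : O → ℂ) x) ∧ ∑ χ, z χ * z χ = 2)) := by
  classical
  choose k m hr hm using fun χ => F.exists_nat χ ψ
  set z : IrrCharacter G → ℤ := fun χ => 2 * (k χ : ℤ) - m χ with hz
  have hrz : ∀ χ : IrrCharacter G, rr t O (χ : G → ℂ) (ψ : O → ℂ) = z χ := fun χ => by
    rw [hr, hz]; push_cast; rfl
  have hdeg : ∑ χ, z χ * (charDegree (χ : G → ℂ) : ℤ) = 0 := by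
    have h := F.sum_rr_degree (ψ : O → ℂ)
    simp only [hrz, (Block.charDegree_eq _).1] at h
    exact_mod_cast h
  have hsq := F.sum_rr_mul (φ := (ψ : O → ℂ)) (ψ := (ψ : O → ℂ)) (isClassFunction_irr ψ)
  simp only [hrz, map_intCast, classInner_irr_self] at hsq
  let ψ' : IrrCharacter O := ⟨fun x => (ψ : O → ℂ) (F.conjA x),
    isIrrCharacter_comp_surjective ψ.2 F.conjA.toMonoidHom F.conjA.surjective⟩
  by_cases hfix : ∀ x, (ψ : O → ℂ) (F.conjA x) = (ψ : O → ℂ) x
  · rw [show (fun x => (ψ : O → ℂ) (F.conjA x)) = (ψ : O → ℂ) from funext hfix, classInner_irr_self] at hsq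
    have h4 : ∑ χ, z χ * z χ = 4 := by
      have : ((∑ χ, z χ * z χ : ℤ) : ℂ) = ((4 : ℤ) : ℂ) := by push_cast; rw [hsq]; norm_num
      exact_mod_cast this
    have hsmall : ∀ χ, z χ = 0 ∨ z χ = 1 ∨ z χ = -1 := by
      intro χ
      by_contra hb
      push Not at hb
      have hle : z χ * z χ ≤ 4 := h4 ▸ Finset.single_le_sum (f := fun χ => z χ * z χ)
        (fun i _ => mul_self_nonneg _) (Finset.mem_univ χ)
      have hge : 4 ≤ z χ * z χ := by
        rcases (show z χ ≤ -2 ∨ 2 ≤ z χ by omega) with h | h <;> nlinarith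
      have hall : ∀ χ' ∈ Finset.univ.erase χ, z χ' = 0 := fun χ' hχ' => by
        have h1 : ∑ i ∈ Finset.univ.erase χ, z i * z i = 0 := by
          have := Finset.add_sum_erase _ (fun i => z i * z i) (Finset.mem_univ χ)
          omega
        exact mul_self_eq_zero.1 ((Finset.sum_eq_zero_iff_of_nonneg fun i _ => mul_self_nonneg _).1 h1 χ' hχ')
      rw [← Finset.add_sum_erase _ _ (Finset.mem_univ χ),
        Finset.sum_eq_zero fun χ' hχ' => by rw [hall χ' hχ', zero_mul], add_zero] at hdeg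
      rcases mul_eq_zero.1 hdeg with h | h
      · exact hb.1 h
      · refine irr_one_ne_zero χ ?_
        rw [(Block.charDegree_eq χ).1]
        exact_mod_cast h
    refine ⟨z, hrz, hsmall, fun χ m' hm' => ?_, hdeg, Or.inl ⟨hfix, h4⟩⟩
    have hmm : m' = m χ := by exact_mod_cast hm'.symm.trans (hm χ)
    subst hmm
    have := hsmall χ
    simp only [hz] at this ⊢
    rw [Nat.odd_iff]
    omega
  · have hne : ψ' ≠ ψ := fun e => hfix fun x => congrFun (congrArg Subtype.val e) x
    have e0 : classInner (fun x => (ψ : O → ℂ) (F.conjA x)) (ψ : O → ℂ) = 0 := classInner_irr_ne hne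
    rw [e0] at hsq
    have h2 : ∑ χ, z χ * z χ = 2 := by
      have : ((∑ χ, z χ * z χ : ℤ) : ℂ) = ((2 : ℤ) : ℂ) := by push_cast; rw [hsq]; norm_num
      exact_mod_cast this
    have hsmall : ∀ χ, z χ = 0 ∨ z χ = 1 ∨ z χ = -1 := fun χ => by
      have hle : z χ * z χ ≤ 2 := h2 ▸ Finset.single_le_sum (f := fun χ => z χ * z χ)
        (fun i _ => mul_self_nonneg _) (Finset.mem_univ χ)
      rcases (show z χ ≤ -2 ∨ 2 ≤ z χ ∨ z χ = 0 ∨ z χ = 1 ∨ z χ = -1 by omega) with h | h | h
      · nlinarith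
      · nlinarith
      · exact h
    refine ⟨z, hrz, hsmall, fun χ m' hm' => ?_, hdeg, Or.inr ⟨hfix, h2⟩⟩
    have hmm : m' = m χ := by exact_mod_cast hm'.symm.trans (hm χ)
    subst hmm
    have := hsmall χ
    simp only [hz] at this ⊢
    rw [Nat.odd_iff]
    omega

end Frame

end CfsgLib.GW.Klein
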