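import Mathlib

/-!
# Three orthogonal sign vectors of length four, and four integers with sum zero
-/

set_option autoImplicit false

namespace CfsgLib.GW.Klein

universe v

variable {ι : Type v}

/-- the fourth vector spans what is orthogonal to three orthogonal sign vectors -/
theorem eq_fourth {S : Finset ι} (hS : S.card = 4) {r₁ r₂ r₃ : ι → ℤ}
    (h1 : ∀ i ∈ S, r₁ i = 1 ∨ r₁ i = -1) (h2 : ∀ i ∈ S, r₂ i = 1 ∨ r₂ i = -1)
    (h3 : ∀ i ∈ S, r₃ i = 1 ∨ r₃ i = -1) (o12 : ∑ i ∈ S, r₁ i * r₂ i = 0) (o13 : ∑ i ∈ S, r₁ i * r₃ i = 0)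
    (o23 : ∑ i ∈ S, r₂ i * r₃ i = 0) {v : ι → ℤ} (v1 : ∑ i ∈ S, r₁ i * v i = 0)
    (v2 : ∑ i ∈ S, r₂ i * v i = 0) (v3 : ∑ i ∈ S, r₃ i * v i = 0) {i : ι} (hi : i ∈ S) :
    4 * v i = r₁ i * r₂ i * r₃ i * ∑ j ∈ S, r₁ j * r₂ j * r₃ j * v j := by
  classical
  set w : ι → ℤ := fun j => r₁ j * r₂ j * r₃ j with hw
  have s1 : ∀ j ∈ S, r₁ j * r₁ j = 1 := fun j hj => by rcases h1 j hj with e | e <;> rw [e] <;> norm_num
  have s2 : ∀ j ∈ S, r₂ j * r₂ j = 1 := fun j hj => by rcases h2 j hj with e | e <;> rw [e] <;> norm_num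
  have s3 : ∀ j ∈ S, r₃ j * r₃ j = 1 := fun j hj => by rcases h3 j hj with e | e <;> rw [e] <;> norm_num
  have sw : ∀ j ∈ S, w j * w j = 1 := fun j hj => by
    simp only [hw]
    rw [show r₁ j * r₂ j * r₃ j * (r₁ j * r₂ j * r₃ j) = (r₁ j * r₁ j) * (r₂ j * r₂ j) * (r₃ j * r₃ j) by ring,
      s1 j hj, s2 j hj, s3 j hj]
    norm_num
  have ow1 : ∑ j ∈ S, r₁ j * w j = 0 := by
    rw [← o23]; exact Finset.sum_congr rfl fun j hj => by
      simp only [hw]; linear_combination (r₂ j * r₃ j) * s1 j hj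
  have ow2 : ∑ j ∈ S, r₂ j * w j = 0 := by
    rw [← o13]; exact Finset.sum_congr rfl fun j hj => by
      simp only [hw]; linear_combination (r₁ j * r₃ j) * s2 j hj
  have ow3 : ∑ j ∈ S, r₃ j * w j = 0 := by
    rw [← o12]; exact Finset.sum_congr rfl fun j hj => by
      simp only [hw]; linear_combination (r₁ j * r₂ j) * s3 j hj
  have t1 : ∑ j ∈ S, r₁ j * r₁ j = 4 := by rw [Finset.sum_congr rfl s1]; simp [hS]
  have t2 : ∑ j ∈ S, r₂ j * r₂ j = 4 := by rw [Finset.sum_congr rfl s2]; simp [hS]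
  have t3 : ∑ j ∈ S, r₃ j * r₃ j = 4 := by rw [Finset.sum_congr rfl s3]; simp [hS]
  have t4 : ∑ j ∈ S, w j * w j = 4 := by rw [Finset.sum_congr rfl sw]; simp [hS]
  set Δ : ι → ι → ℤ := fun a b => r₁ a * r₁ b + r₂ a * r₂ b + r₃ a * r₃ b + w a * w b with hΔ
  have hrow : ∀ a ∈ S, ∑ b ∈ S, Δ a b * Δ a b = 16 := fun a ha => by
    have e : ∀ b, Δ a b * Δ a b = r₁ a * r₁ a * (r₁ b * r₁ b) + r₂ a * r₂ a * (r₂ b * r₂ b) +
        r₃ a * r₃ a * (r₃ b * r₃ b) + w a * w a * (w b * w b) + 2 * r₁ a * r₂ a * (r₁ b * r₂ b) +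
        2 * r₁ a * r₃ a * (r₁ b * r₃ b) + 2 * r₂ a * r₃ a * (r₂ b * r₃ b) + 2 * r₁ a * w a * (r₁ b * w b) +
        2 * r₂ a * w a * (r₂ b * w b) + 2 * r₃ a * w a * (r₃ b * w b) := fun b => by
      simp only [hΔ]; ring
    simp only [e, Finset.sum_add_distrib, ← Finset.mul_sum, t1, t2, t3, t4, o12, o13, o23, ow1, ow2, ow3,
      s1 a ha, s2 a ha, s3 a ha, sw a ha]
    norm_num
  have hdiag : ∀ a ∈ S, Δ a a = 4 := fun a ha => by
    simp only [hΔ, s1 a ha, s2 a ha, s3 a ha, sw a ha]; norm_num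
  have hoff : ∀ b ∈ S.erase i, Δ i b = 0 := fun b hb => by
    have h := hrow i hi
    rw [← Finset.add_sum_erase _ _ hi, hdiag i hi] at h
    exact mul_self_eq_zero.1 ((Finset.sum_eq_zero_iff_of_nonneg fun j _ => mul_self_nonneg _).1
      (by linarith : ∑ j ∈ S.erase i, Δ i j * Δ i j = 0) b hb)
  have e : ∑ b ∈ S, Δ i b * v b = w i * ∑ b ∈ S, w b * v b := by
    simp only [hΔ, add_mul, Finset.sum_add_distrib, mul_assoc, ← Finset.mul_sum, v1, v2, v3]
    ring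
  rw [← Finset.add_sum_erase _ _ hi, hdiag i hi,
    Finset.sum_eq_zero fun b hb => by rw [hoff b hb, zero_mul], add_zero] at e
  exact e

/-- four integers with sum zero -/
theorem sum_inv_le {S : Finset ι} (hS : S.card = 4) {U : ι → ℤ} (hU : ∀ i ∈ S, 5 ≤ U i ∨ U i ≤ -3)
    (hsum : ∑ i ∈ S, U i = 0) : ∑ i ∈ S, 1 / (U i : ℚ) ≤ 8 / 15 := by
  classical
  obtain ⟨x, y, z, w, hxy, hxz, hxw, hyz, hyw, hzw, rfl⟩ := Finset.card_eq_four.1 hS
  simp only [Finset.sum_insert, Finset.mem_insert, Finset.mem_singleton, hxy, hxz, hxw, hyz, hyw, hzw, or_self,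
    not_false_iff, Finset.sum_singleton] at hsum ⊢
  have key : ∀ a b c d : ℤ, 5 ≤ a → 5 ≤ b → 5 ≤ c → a + b + c + d = 0 →
      1 / (a : ℚ) + 1 / (b : ℚ) + 1 / (c : ℚ) + 1 / (d : ℚ) ≤ 8 / 15 := by
    intro a b c d ha hb hc hd
    have ha' : (5 : ℚ) ≤ a := by exact_mod_cast ha
    have hb' : (5 : ℚ) ≤ b := by exact_mod_cast hb
    have hc' : (5 : ℚ) ≤ c := by exact_mod_cast hc
    have hd' : (d : ℚ) = -((a : ℚ) + b + c) := by
      have : d = -(a + b + c) := by omega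
      exact_mod_cast this
    have step : ∀ u s : ℚ, 5 ≤ u → 0 < s → 1 / u - 1 / (u + s) ≤ 1 / 5 - 1 / (5 + s) := fun u s hu hs => by
      rw [div_sub_div _ _ (by linarith) (by linarith), div_sub_div _ _ (by norm_num) (by linarith),
        div_le_div_iff₀ (by nlinarith) (by nlinarith)]
      nlinarith [mul_le_mul hu (show 5 + s ≤ u + s by linarith) (by linarith) (by linarith)]
    have q1 := step a ((b : ℚ) + c) ha' (by linarith)
    have q2 := step b (5 + (c : ℚ)) hb' (by linarith)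
    have q3 := step c (5 + 5) hc' (by norm_num)
    rw [hd', div_neg, show (a : ℚ) + b + c = a + (b + c) by ring]
    rw [show (b : ℚ) + (5 + c) = 5 + (b + c) by ring] at q2
    rw [show (c : ℚ) + (5 + 5) = 5 + (5 + c) by ring] at q3
    norm_num at q1 q2 q3 ⊢
    linarith
  have low : ∀ a : ℤ, a ≤ -3 → 1 / (a : ℚ) ≤ 0 := fun a ha => by
    apply div_nonpos_of_nonneg_of_nonpos zero_le_one
    exact_mod_cast (by omega : a ≤ 0)
  have high : ∀ a : ℤ, 5 ≤ a → 1 / (a : ℚ) ≤ 1 / 5 := fun a ha =>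
    one_div_le_one_div_of_le (by norm_num) (by exact_mod_cast ha)
  rcases hU x (by simp) with h1 | h1 <;> rcases hU y (by simp) with h2 | h2 <;>
    rcases hU z (by simp) with h3 | h3 <;> rcases hU w (by simp) with h4 | h4
  · omega
  · linarith [key _ _ _ (U w) h1 h2 h3 (by omega)]
  · linarith [key _ _ _ (U z) h1 h2 h4 (by omega)]
  · linarith [high _ h1, high _ h2, low _ h3, low _ h4]
  · linarith [key _ _ _ (U y) h1 h3 h4 (by omega)]
  · linarith [high _ h1, high _ h3, low _ h2, low _ h4]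
  · linarith [high _ h1, high _ h4, low _ h2, low _ h3]
  · linarith [high _ h1, low _ h2, low _ h3, low _ h4]
  · linarith [key _ _ _ (U x) h2 h3 h4 (by omega)]
  · linarith [high _ h2, high _ h3, low _ h1, low _ h4]
  · linarith [high _ h2, high _ h4, low _ h1, low _ h3]
  · linarith [high _ h2, low _ h1, low _ h3, low _ h4]
  · linarith [high _ h3, high _ h4, low _ h1, low _ h2]
  · linarith [high _ h3, low _ h1, low _ h2, low _ h4]
  · linarith [high _ h4, low _ h1, low _ h2, low _ h3]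
  · omega

end CfsgLib.GW.Klein
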