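import Cfsg.Agent.Lib.GW.Klein.LinearCount
import Cfsg.Agent.Lib.GW.Klein.SignVectors

/-!
# A fixed linear character of `O(C(t))`

If `O` has a non-trivial linear character fixed by `a`, extendable along the element `e` cycling the four
group, then every prime divisor of `|O : C_O(a)|` divides the index of the centraliser of the involution.
-/

set_option autoImplicit false
set_option linter.unusedSectionVars false
set_option linter.style.haveILetI false

open scoped ComplexConjugate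

namespace CfsgLib.GW.Klein

open Cfsg CfsgLib.Char CfsgLib.GW.CaseA.Inverted CfsgLib.Invol

universe u

variable {G : Type u} [Group G] [Fintype G]

namespace Frame

variable {t a : G} {O : Subgroup G} [Fintype O] (F : Frame t a O)
include F

/-- the value on the involution -/
theorem value_eq [Fintype (IrrCharacter O)] (χ : IrrCharacter G) :
    (χ : G → ℂ) t = ∑ ψ : IrrCharacter O, rr t O (χ : G → ℂ) (ψ : O → ℂ) * (ψ : O → ℂ) 1 := by
  have hcf : IsClassFunction O (fun x : O => (χ : G → ℂ) (t * x)) := fun x y => by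
    show (χ : G → ℂ) (t * (((y : G) * x) * (y : G)⁻¹)) = _
    rw [show t * ((y : G) * x * (y : G)⁻¹) = (t * y) * x * (y : G)⁻¹ by group, (F.cent y y.2).symm.eq,
      show (y : G) * t * x * (y : G)⁻¹ = y * (t * x) * (y : G)⁻¹ by group, isClassFunction_irr χ _ (y : G)]
  have h := congrFun (classFun_expand hcf) 1
  simpa [Finset.sum_apply, rr] using h

/-- `χ(1)` and `χ(t)` agree modulo four -/
theorem four_dvd_degree_sub (hclass : ∀ u : G, orderOf u = 2 → IsConj t u) (χ : IrrCharacter G) {v : ℤ}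
    (hv : (χ : G → ℂ) t = v) : (4 : ℤ) ∣ (charDegree (χ : G → ℂ) : ℤ) - v := by
  classical
  let φ : ℤˣ × ℤˣ →* G := MonoidHom.noncommCoprod
    (MonoidHom.mk' (fun u => if u = 1 then 1 else t) fun x y => by
      rcases Int.units_eq_one_or x with rfl | rfl <;> rcases Int.units_eq_one_or y with rfl | rfl <;>
        simp [sq_eq_one F.ht])
    (MonoidHom.mk' (fun u => if u = 1 then 1 else a) fun x y => by
      rcases Int.units_eq_one_or x with rfl | rfl <;> rcases Int.units_eq_one_or y with rfl | rfl <;>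
        simp [sq_eq_one F.ha])
    fun x y => by
      rcases Int.units_eq_one_or x with rfl | rfl <;> rcases Int.units_eq_one_or y with rfl | rfl <;> simp
      exact F.hc
  have hφ : ∀ x y : ℤˣ, φ (x, y) = (if x = 1 then 1 else t) * (if y = 1 then 1 else a) := fun x y => rfl
  obtain ⟨c, hc⟩ := classInner_isCharacter (isCharacter_comp (isCharacter_irr χ) φ)
    (isCharacter_of_isIrr (isIrrCharacter_one (G := ℤˣ × ℤˣ)))
  have hta : (χ : G → ℂ) (t * a) = (χ : G → ℂ) t :=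
    classFun_isConj (isClassFunction_irr χ) (hclass _ F.order_ta).symm
  have ha : (χ : G → ℂ) a = (χ : G → ℂ) t :=
    classFun_isConj (isClassFunction_irr χ) (hclass _ F.ha).symm
  rw [classInner, Nat.card_prod, Nat.card_eq_fintype_card (α := ℤˣ), Fintype.card_units_int,
    Fintype.sum_prod_type, UnitsInt.univ] at hc
  have h1 : ((1 : ℤˣ) : ℤˣ) ≠ -1 := by decide
  simp [Finset.sum_pair h1, hφ, ha, hta, hv, (Block.charDegree_eq χ).1] at hc
  have : ((charDegree (χ : G → ℂ) : ℤ) + 3 * v : ℂ) = ((4 * c : ℤ) : ℂ) := by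
    push_cast
    linear_combination 4 * hc
  have h' : (charDegree (χ : G → ℂ) : ℤ) + 3 * v = 4 * c := by exact_mod_cast this
  exact ⟨c - v, by omega⟩

/-- the multiplicities of two linear characters related by `e` agree modulo two -/
theorem mult_parity_shift {e : G} (he : Cyc e t a) (θ θ₂ : O →* ℂˣ) (hfix : ∀ x, θ (F.conjA x) = θ x)
    (hfix₂ : ∀ x, θ₂ (F.conjA x) = θ₂ x)
    (h₂ : ∀ x y : O, Commute (x : G) a → (y : G) = e * x * e⁻¹ → θ₂ x = θ y) (ξ : IrrCharacter G) {m m' : ℕ}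
    (hm : classInner (fun x : O => (ξ : G → ℂ) x) (fun x => (θ x : ℂ)) = m)
    (hm' : classInner (fun x : O => (ξ : G → ℂ) x) (fun x => (θ₂ x : ℂ)) = m') : Odd m ↔ Odd m' := by
  classical
  have hint : ∀ (φ : O →* ℂˣ) (x : O), IsIntegral ℤ (conj ((ξ : G → ℂ) x) * (φ x : ℂ)) := fun φ x => by
    refine IsIntegral.mul ?_ (isCharacter_isIntegral (isCharacter_of_isIrr (isIrrCharacter_lin φ)) x)
    rw [← irr_inv]; exact isCharacter_isIntegral (isCharacter_irr ξ) _
  have hinv : ∀ φ : O →* ℂˣ, (∀ x, φ (F.conjA x) = φ x) → ∀ x : O,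
      conj ((ξ : G → ℂ) (F.conjA x : G)) * (φ (F.conjA x) : ℂ) = conj ((ξ : G → ℂ) x) * (φ x : ℂ) :=
    fun φ hφ x => by rw [hφ, F.conjA_val, isClassFunction_irr ξ _ a]
  set s := (Finset.univ : Finset O).filter (fun x => F.conjA x = x) with hs
  have hred : ∀ φ : O →* ℂˣ, (∀ x, φ (F.conjA x) = φ x) →
      TwoDvd (∑ x : O, conj ((ξ : G → ℂ) x) * (φ x : ℂ) - ∑ x ∈ s, conj ((ξ : G → ℂ) x) * (φ x : ℂ)) :=
    fun φ hφ => F.twoDvd_sub_fixed (hint φ) (hinv φ hφ) Finset.univ fun x _ => Finset.mem_univ _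
  -- `e` permutes the fixed points
  have heD : ∀ d : O, F.conjA d = d → ∃ d' : O, (d' : G) = e * d * e⁻¹ ∧ F.conjA d' = d' := by
    intro d hd
    rw [F.conjA_eq_iff] at hd
    have h1 : Commute (e * d * e⁻¹) a := by
      have := (F.cent d d.2).map (MulAut.conj e).toMonoidHom
      simpa [he.1] using this
    have h2 : Commute (e * d * e⁻¹) (t * a) := by
      have := hd.map (MulAut.conj e).toMonoidHom
      simpa [he.2] using this
    have h3 : Commute (e * d * e⁻¹) t := by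
      have := h2.mul_right h1
      rwa [show t * a * a = t by rw [mul_assoc, sq_eq_one F.ha, mul_one]] at this
    refine ⟨⟨_, F.odd_mem h3 ?_⟩, rfl, (F.conjA_eq_iff _).2 h1⟩
    rw [← MulAut.conj_apply, MulEquiv.orderOf_eq]
    exact F.hodd.of_dvd_nat (Subgroup.orderOf_dvd_natCard O d.2)
  choose f hf hf' using heD
  have hsum : ∑ x ∈ s, conj ((ξ : G → ℂ) x) * (θ₂ x : ℂ) = ∑ x ∈ s, conj ((ξ : G → ℂ) x) * (θ x : ℂ) := by
    refine Finset.sum_bij (fun x hx => f x (Finset.mem_filter.1 hx).2)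
      (fun x hx => Finset.mem_filter.2 ⟨Finset.mem_univ _, hf' x _⟩) (fun x hx y hy h => ?_) (fun y hy => ?_)
      fun x hx => ?_
    · have := congrArg Subtype.val h
      simp only [hf] at this
      exact Subtype.ext (mul_left_cancel (mul_right_cancel this))
    · have hinj : Function.Injective fun z : s => (⟨f z.1 (Finset.mem_filter.1 z.2).2,
          Finset.mem_filter.2 ⟨Finset.mem_univ _, hf' _ _⟩⟩ : s) := fun z z' h => by
        have := congrArg (fun w : s => ((w : O) : G)) h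
        simp only [hf] at this
        exact Subtype.ext (Subtype.ext (mul_left_cancel (mul_right_cancel this)))
      obtain ⟨z, hz⟩ := Finite.surjective_of_injective hinj ⟨y, hy⟩
      exact ⟨z.1, z.2, congrArg Subtype.val hz⟩
    · have hxf := (Finset.mem_filter.1 hx).2
      rw [← h₂ x (f x hxf) ((F.conjA_eq_iff x).1 hxf) (hf x hxf), hf x hxf, isClassFunction_irr ξ _ e]
  have hd := (hred θ hfix).sub (hred θ₂ hfix₂)
  rw [hsum] at hd
  have hO := card_ne_zero' (G := O)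
  have e1 : ∀ (φ : O →* ℂˣ) (j : ℕ), classInner (fun x : O => (ξ : G → ℂ) x) (fun x => (φ x : ℂ)) = j →
      ∑ x : O, conj ((ξ : G → ℂ) x) * (φ x : ℂ) = (Nat.card O : ℂ) * j := fun φ j hj => by
    have := congrArg conj hj
    rw [classInner_conj, map_natCast, classInner, inv_mul_eq_iff_eq_mul₀ hO] at this
    rw [← this]
    exact Finset.sum_congr rfl fun x _ => mul_comm _ _
  rw [e1 θ m hm, e1 θ₂ m' hm'] at hd
  have he' := even_of_twoDvd (z := (Nat.card O : ℤ) * ((m : ℤ) - m')) (by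
    convert hd using 1; push_cast; ring)
  have hodd : Odd (Nat.card O : ℤ) := by exact_mod_cast F.hodd
  rw [Int.even_mul, or_iff_right (Int.not_even_iff_odd.2 hodd), Int.even_sub, Int.even_coe_nat,
    Int.even_coe_nat] at he'
  rw [← Nat.not_even_iff_odd, ← Nat.not_even_iff_odd, he']

/-- a fixed linear character, as an irreducible character -/
def lin (_ : Frame t a O) (θ : O →* ℂˣ) : IrrCharacter O := ⟨_, isIrrCharacter_lin θ⟩

theorem lin_apply (θ : O →* ℂˣ) (x : O) : (F.lin θ : O → ℂ) x = (θ x : ℂ) := rfl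

/-- the vector of a fixed non-trivial linear character -/
theorem exists_linear_vector [Fintype (IrrCharacter G)] (θ : O →* ℂˣ) (hθ : θ ≠ 1)
    (hfix : ∀ x, θ (F.conjA x) = θ x) :
    ∃ z : IrrCharacter G → ℤ, (∀ χ : IrrCharacter G, rr t O (χ : G → ℂ) (fun x => (θ x : ℂ)) = z χ) ∧
      (∀ χ : IrrCharacter G, z χ = 0 ∨ z χ = 1 ∨ z χ = -1) ∧
      (∀ (χ : IrrCharacter G) (m : ℕ),
        classInner (fun x : O => (χ : G → ℂ) x) (fun x => (θ x : ℂ)) = m → (Odd m ↔ z χ ≠ 0)) ∧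
      (∑ χ : IrrCharacter G, z χ * (charDegree (χ : G → ℂ) : ℤ) = 0) ∧
      (Finset.univ.filter fun χ => z χ ≠ 0).card = 4 ∧ z (Block.oneChar G) = 0 := by
  classical
  obtain ⟨z, hz, hsmall, hpar, hdeg, h⟩ := F.exists_vector (F.lin θ)
  rcases h with ⟨-, h4⟩ | ⟨hne, -⟩
  swap
  · exact absurd (fun x => by rw [F.lin_apply, F.lin_apply, hfix]) hne
  refine ⟨z, hz, hsmall, hpar, hdeg, ?_, ?_⟩
  · have h1 : ∀ χ, z χ * z χ = if z χ ≠ 0 then 1 else 0 := fun χ => by
      rcases hsmall χ with e | e | e <;> simp [e]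
    rw [Finset.sum_congr rfl fun χ _ => h1 χ, Finset.sum_boole] at h4
    exact_mod_cast h4
  · have hne : F.lin θ ≠ Block.oneChar O := fun e => hθ (MonoidHom.ext fun x => Units.ext (by
      rw [← F.lin_apply, e]; rfl))
    have h0 := hz (Block.oneChar G)
    rw [rr, show (fun x : O => ((Block.oneChar G : IrrCharacter G) : G → ℂ) (t * x)) =
      ((Block.oneChar O : IrrCharacter O) : O → ℂ) from rfl, classInner_irr_ne hne.symm] at h0
    exact_mod_cast h0.symm

/-- the common support -/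
theorem support_eq [Fintype (IrrCharacter G)] {θ ψ : IrrCharacter O} (hθ : (θ : O → ℂ) 1 = 1)
    {z w : IrrCharacter G → ℤ} (hz : ∀ χ : IrrCharacter G, rr t O (χ : G → ℂ) (θ : O → ℂ) = z χ)
    (hw : ∀ χ : IrrCharacter G, rr t O (χ : G → ℂ) (ψ : O → ℂ) = w χ)
    (hzp : ∀ (χ : IrrCharacter G) (m : ℕ),
      classInner (fun x : O => (χ : G → ℂ) x) (θ : O → ℂ) = m → (Odd m ↔ z χ ≠ 0))
    (hwp : ∀ (χ : IrrCharacter G) (m : ℕ),
      classInner (fun x : O => (χ : G → ℂ) x) (ψ : O → ℂ) = m → (Odd m ↔ w χ ≠ 0))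
    (hzs : ∀ χ : IrrCharacter G, z χ = 0 ∨ z χ = 1 ∨ z χ = -1)
    (hws : ∀ χ : IrrCharacter G, w χ = 0 ∨ w χ = 1 ∨ w χ = -1)
    {χ : IrrCharacter G} (h1 : z χ ≠ 0) (h2 : w χ ≠ 0) (ξ : IrrCharacter G) : z ξ ≠ 0 ↔ w ξ ≠ 0 := by
  obtain ⟨m, hm⟩ := classInner_char_irr_nat (isCharacter_comp (isCharacter_irr ξ) O.subtype) θ
  obtain ⟨m', hm'⟩ := classInner_char_irr_nat (isCharacter_comp (isCharacter_irr ξ) O.subtype) ψ
  have hzo : Odd (z χ) := by rcases hzs χ with e | e | e <;> simp_all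
  have hwo : Odd (w χ) := by rcases hws χ with e | e | e <;> simp_all
  rw [← hzp ξ m hm, ← hwp ξ m' hm']
  exact F.mult_parity hθ (hz χ) hzo (hw χ) hwo ξ hm hm'

/-- **every prime divisor of `|O : C_O(a)|` divides the index of `C(t)`** -/
theorem dvd_index_of_linear (hG : Min G) (h8 : ¬ 8 ∣ Nat.card G) {e : G} (he : Cyc e t a)
    (θ θ₂ θ₃ : O →* ℂˣ) (hθ : θ ≠ 1) (hfix : ∀ x, θ (F.conjA x) = θ x)
    (hfix₂ : ∀ x, θ₂ (F.conjA x) = θ₂ x) (hfix₃ : ∀ x, θ₃ (F.conjA x) = θ₃ x)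
    (h₂ : ∀ x y : O, Commute (x : G) a → (y : G) = e * x * e⁻¹ → θ₂ x = θ y)
    (h₃ : ∀ x y : O, Commute (x : G) a → (y : G) = e * x * e⁻¹ → θ₃ x = θ₂ y)
    {p : ℕ} (hp : p.Prime) (hpd : p ∣ (O ⊓ Subgroup.centralizer ({a} : Set G)).relIndex O) :
    p ∣ (Subgroup.centralizer ({t} : Set G)).index := by
  classical
  haveI := hG.simple
  haveI := Fintype.ofFinite (IrrCharacter G)
  haveI := Fintype.ofFinite (IrrCharacter O)
  have hcyc : ¬ IsCyclic G := fun h => hG.not_solvable (Group.isSolvable_of_comm fun x y => by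
    obtain ⟨g, hg⟩ := h.exists_generator
    obtain ⟨i, rfl⟩ := Subgroup.mem_zpowers_iff.1 (hg x)
    obtain ⟨j, rfl⟩ := Subgroup.mem_zpowers_iff.1 (hg y)
    rw [← zpow_add, ← zpow_add, add_comm])
  have hclass : ∀ u : G, orderOf u = 2 → IsConj t u := fun u hu => isConj_iff.2 (hG.isConj_invol F.ht hu)
  obtain ⟨z, hz, hzs, hzp, hzd, hzc, hz1⟩ := F.exists_linear_vector θ hθ hfix
  set n := (Subgroup.centralizer ({t} : Set G)).index with hn
  set c := (O ⊓ Subgroup.centralizer ({a} : Set G)).relIndex O with hc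
  set S := Finset.univ.filter fun χ => z χ ≠ 0 with hS
  have memS : ∀ χ, χ ∈ S ↔ z χ ≠ 0 := fun χ => by simp [hS]
  have hsupp : ∀ f : IrrCharacter G → ℤ, ∑ χ, z χ * f χ = ∑ χ ∈ S, z χ * f χ := fun f =>
    (Finset.sum_subset (Finset.subset_univ S) fun χ _ h => by
      rw [show z χ = 0 by simpa [memS] using h, zero_mul]).symm
  have heq := F.order_equation hclass θ hfix hz
  rw [← hn, ← hc, ← Finset.sum_subset (Finset.subset_univ S) fun χ _ h => by
    rw [show z χ = 0 by simpa [memS] using h]; simp] at heq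
  -- the constituents on the support
  have hother : ∀ χ ∈ S, ∀ ψ : IrrCharacter O, rr t O (χ : G → ℂ) (ψ : O → ℂ) ≠ 0 →
      (∀ x, (ψ : O → ℂ) (F.conjA x) = (ψ : O → ℂ) x) ∧ ∃ w : IrrCharacter G → ℤ,
        (∀ ξ : IrrCharacter G, rr t O (ξ : G → ℂ) (ψ : O → ℂ) = w ξ) ∧ (∀ ξ, z ξ ≠ 0 ↔ w ξ ≠ 0) ∧
        (∑ ξ : IrrCharacter G, w ξ * (charDegree (ξ : G → ℂ) : ℤ) = 0) := by
    intro χ hχ ψ hne
    obtain ⟨w, hw, hws, hwp, hwd, hw4⟩ := F.exists_vector ψ
    have hsu := fun ξ => F.support_eq (θ := F.lin θ) (ψ := ψ) (by rw [F.lin_apply, map_one, Units.val_one]) hz hw hzp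
      hwp hzs hws ((memS χ).1 hχ) (fun e => hne (by rw [hw, e, Int.cast_zero])) ξ
    rcases hw4 with ⟨hf, -⟩ | ⟨-, h2⟩
    · exact ⟨hf, w, hw, hsu, hwd⟩
    · exfalso
      have h1 : ∀ ξ, w ξ * w ξ = if z ξ ≠ 0 then 1 else 0 := fun ξ => by
        rcases hws ξ with e | e | e
        · rw [if_neg fun h => (hsu ξ).1 h e, e, mul_zero]
        · rw [if_pos ((hsu ξ).2 (by rw [e]; decide)), e, mul_one]
        · rw [if_pos ((hsu ξ).2 (by rw [e]; decide)), e]; norm_num
      rw [Finset.sum_congr rfl fun ξ _ => h1 ξ, Finset.sum_boole] at h2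
      have : S.card = 2 := by exact_mod_cast h2
      omega
  have hdeg : ∀ χ : IrrCharacter G, (χ : G → ℂ) 1 = (charDegree (χ : G → ℂ) : ℂ) := fun χ =>
    (Block.charDegree_eq χ).1
  have hdpos : ∀ χ : IrrCharacter G, 0 < charDegree (χ : G → ℂ) := fun χ => Nat.pos_of_ne_zero fun e =>
    irr_one_ne_zero χ (by rw [hdeg, e, Nat.cast_zero])
  by_cases hst : ∀ x y : O, Commute (x : G) a → (y : G) = e * x * e⁻¹ → θ y = θ x
  · -- stable under `e`: only `θ` occurs
    have honly : ∀ χ ∈ S, ∀ ψ : IrrCharacter O, ψ ≠ F.lin θ → rr t O (χ : G → ℂ) (ψ : O → ℂ) = 0 := by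
      intro χ hχ ψ hne
      by_contra hr
      obtain ⟨hψfix, w, hw, hsu, -⟩ := hother χ hχ ψ hr
      obtain ⟨q, hq, hqo⟩ := F.odd_degree ψ
      have hzo : Odd (z χ) := by
        rcases (hzs χ).resolve_left ((memS χ).1 hχ) with e | e <;> rw [e]
        exacts [odd_one, odd_neg.2 odd_one]
      have hwo : Odd (w χ) := by
        have h2 := (hsu χ).1 ((memS χ).1 hχ)
        obtain ⟨w', hw', hws', -⟩ := F.exists_vector ψ
        have e : w' χ = w χ := by exact_mod_cast (hw' χ).symm.trans (hw χ)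
        rcases hws' χ with e' | e' | e' <;> rw [e] at e'
        exacts [absurd e' h2, e' ▸ odd_one, e' ▸ odd_neg.2 odd_one]
      -- compare on the fixed points
      set D := (Finset.univ : Finset O).filter (fun x => F.conjA x = x) with hD
      have hθint : ∀ x : O, IsIntegral ℤ (conj ((θ x : ℂ))) := fun x => by
        rw [← F.lin_apply θ, ← irr_inv]; exact isCharacter_isIntegral (isCharacter_irr _) _
      have h1 : TwoDvd (∑ x ∈ D, conj ((θ x : ℂ)) * ((ψ : O → ℂ) x - (ψ : O → ℂ) 1 * (θ x : ℂ))) := by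
        rw [← Finset.sum_fiberwise D (fun x : O => ConjClasses.mk (x : G))]
        haveI := Fintype.ofFinite (ConjClasses G)
        refine TwoDvd.sum _ fun C _ => ?_
        by_cases hC : ∃ d ∈ D, ConjClasses.mk ((d : O) : G) = C
        · obtain ⟨d, hd, rfl⟩ := hC
          set K := Finset.univ.filter (fun k : O => IsConj (d : G) k) with hK
          have hh := F.twoDvd_fusion (θ := F.lin θ) (by rw [F.lin_apply, map_one, Units.val_one]) (hz χ) hzo (hw χ)
            hwo d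
          have hr2 := F.twoDvd_sub_fixed (f := fun k => (ψ : O → ℂ) k - (ψ : O → ℂ) 1 * (F.lin θ : O → ℂ) k)
            (fun k => (isCharacter_isIntegral (isCharacter_irr ψ) k).sub
              ((isCharacter_isIntegral (isCharacter_irr ψ) 1).mul (isCharacter_isIntegral (isCharacter_irr _) k)))
            (fun k => by rw [hψfix, F.lin_apply, F.lin_apply, hfix]) K fun k hk => by
              simp only [hK, Finset.mem_filter, Finset.mem_univ, true_and] at hk ⊢
              exact hk.trans (isConj_iff.2 ⟨a, (F.conjA_val k).symm⟩)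
          have h3 := (hh.sub hr2).mul_left (c := conj ((θ d : ℂ))) (hθint d)
          convert h3 using 1
          rw [sub_sub_cancel, Finset.mul_sum]
          refine Finset.sum_congr ?_ fun k hk => ?_
          · ext k
            simp only [hK, hD, Finset.mem_filter, Finset.mem_univ, true_and, ConjClasses.mk_eq_mk_iff_isConj]
            exact ⟨fun h => ⟨h.2.symm, h.1⟩, fun h => ⟨h.2, h.1.symm⟩⟩
          · rw [Finset.mem_filter] at hk
            simp only [hK, Finset.mem_filter, Finset.mem_univ, true_and] at hk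
            rw [F.lin_apply, F.fusion hG h8 he θ hfix hst ((F.conjA_eq_iff d).1 (Finset.mem_filter.1 hd).2)
              ((F.conjA_eq_iff k).1 hk.2) hk.1]
        · rw [Finset.filter_false_of_mem fun x hx => fun e => hC ⟨x, hx, e⟩, Finset.sum_empty]
          exact TwoDvd.zero
      -- back to `O`
      have h2 := F.twoDvd_sub_fixed (f := fun x => conj ((θ x : ℂ)) * ((ψ : O → ℂ) x - (ψ : O → ℂ) 1 * (θ x : ℂ)))
        (fun x => (hθint x).mul ((isCharacter_isIntegral (isCharacter_irr ψ) x).sub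
          ((isCharacter_isIntegral (isCharacter_irr ψ) 1).mul
            (by rw [← F.lin_apply θ]; exact isCharacter_isIntegral (isCharacter_irr _) x))))
        (fun x => by rw [hψfix, hfix]) Finset.univ fun x _ => Finset.mem_univ _
      rw [← hD] at h2
      have h3 := h1.add h2
      rw [add_sub_cancel] at h3
      have hsum : ∑ x : O, conj ((θ x : ℂ)) * ((ψ : O → ℂ) x - (ψ : O → ℂ) 1 * (θ x : ℂ)) =
          ((-((Nat.card O * q : ℕ) : ℤ) : ℤ) : ℂ) := by
        have hO := card_ne_zero' (G := O)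
        have e1 := classInner_irr_ne hne
        have e2 := classInner_irr_self (F.lin θ)
        rw [classInner, inv_mul_eq_iff_eq_mul₀ hO] at e1 e2
        rw [mul_zero] at e1
        rw [mul_one] at e2
        simp only [F.lin_apply] at e1 e2
        calc ∑ x : O, conj ((θ x : ℂ)) * ((ψ : O → ℂ) x - (ψ : O → ℂ) 1 * (θ x : ℂ))
            = ∑ x : O, (ψ : O → ℂ) x * conj ((θ x : ℂ)) -
              (ψ : O → ℂ) 1 * ∑ x : O, (θ x : ℂ) * conj ((θ x : ℂ)) := by
              rw [Finset.mul_sum, ← Finset.sum_sub_distrib]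
              exact Finset.sum_congr rfl fun x _ => by ring
          _ = _ := by rw [e1, e2, hq]; push_cast; ring
      rw [hsum] at h3
      have he' := even_of_twoDvd h3
      rw [even_neg, Int.even_coe_nat] at he'
      exact Nat.not_even_iff_odd.2 (F.hodd.mul hqo) he'
    have hval : ∀ χ ∈ S, (χ : G → ℂ) t = z χ := fun χ hχ => by
      rw [F.value_eq χ, Finset.sum_eq_single (F.lin θ)]
      · rw [show rr t O (χ : G → ℂ) (F.lin θ : O → ℂ) = z χ from hz χ, F.lin_apply, map_one, Units.val_one, mul_one]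
      · intro ψ _ hψ
        rw [honly χ hχ ψ hψ, zero_mul]
      · exact fun h => absurd (Finset.mem_univ _) h
    set U : IrrCharacter G → ℤ := fun χ => z χ * (charDegree (χ : G → ℂ) : ℤ) with hU
    have hUsum : ∑ χ ∈ S, U χ = 0 := by rw [hU, ← hsupp]; exact hzd
    have hU5 : ∀ χ ∈ S, 5 ≤ U χ ∨ U χ ≤ -3 := by
      intro χ hχ
      have hne : χ ≠ Block.oneChar G := fun e => (memS χ).1 hχ (by rw [e, hz1])
      have h1 : 1 < charDegree (χ : G → ℂ) := CfsgLib.Char.SmallCofactor.one_lt_deg hcyc hne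
      have h4 := F.four_dvd_degree_sub hclass χ (hval χ hχ)
      simp only [hU]
      rcases hzs χ with e | e | e
      · exact absurd e ((memS χ).1 hχ)
      · rw [e] at h4 ⊢; omega
      · rw [e] at h4 ⊢; omega
    obtain ⟨σ, hσ, hnσ⟩ := F.principal_equation hG h8
    rw [← hn, ← hc] at hnσ
    have hle := sum_inv_le hzc hU5 hUsum
    have heq' : (n : ℚ) * ∑ χ ∈ S, 1 / (U χ : ℚ) = 8 * (c : ℚ) ^ 2 := by
      have e : ((n : ℂ) * ∑ χ ∈ S, 1 / (U χ : ℂ)) = 8 * (c : ℂ) ^ 2 := by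
        rw [← heq]
        congr 1
        refine Finset.sum_congr rfl fun χ hχ => ?_
        rw [hval χ hχ, hdeg]
        simp only [hU]
        have hd : (charDegree (χ : G → ℂ) : ℂ) ≠ 0 := by exact_mod_cast (hdpos χ).ne'
        rcases hzs χ with e | e | e
        · exact absurd e ((memS χ).1 hχ)
        · rw [e]; push_cast; field_simp
        · rw [e]; push_cast; field_simp
      have e' := e
      rw [show ((n : ℂ) * ∑ χ ∈ S, 1 / (U χ : ℂ)) = (((n : ℚ) * ∑ χ ∈ S, 1 / (U χ : ℚ) : ℚ) : ℂ) by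
        push_cast; rfl, show (8 * (c : ℂ) ^ 2) = ((8 * (c : ℚ) ^ 2 : ℚ) : ℂ) by push_cast; rfl] at e'
      exact Rat.cast_injective e'
    have hn0 : (0 : ℚ) < n := by exact_mod_cast Nat.pos_of_ne_zero Subgroup.index_ne_zero_of_finite
    have hσ' : σ = 8 / 15 := le_antisymm (le_trans (le_of_eq (mul_left_cancel₀ hn0.ne' (hnσ.trans heq'.symm))) hle) hσ
    rw [hσ'] at hnσ
    have : n = 15 * c ^ 2 := by
      have : (n : ℚ) = ((15 * c ^ 2 : ℕ) : ℚ) := by push_cast; linarith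
      exact_mod_cast this
    exact this ▸ dvd_mul_of_dvd_right (dvd_pow hpd two_ne_zero) 15
  · -- moved by `e`: three characters
    push Not at hst
    obtain ⟨x₀, y₀, hx₀, hy₀, hxy₀⟩ := hst
    have heD : ∀ x : O, Commute (x : G) a → ∃ y : O, (y : G) = e * x * e⁻¹ ∧ Commute (y : G) a := by
      intro d hd
      have h1 : Commute (e * d * e⁻¹) a := by
        have := (F.cent d d.2).map (MulAut.conj e).toMonoidHom
        simpa [he.1] using this
      have h2 : Commute (e * d * e⁻¹) (t * a) := by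
        have := hd.map (MulAut.conj e).toMonoidHom
        simpa [he.2] using this
      have h3 : Commute (e * d * e⁻¹) t := by
        have := h2.mul_right h1
        rwa [show t * a * a = t by rw [mul_assoc, sq_eq_one F.ha, mul_one]] at this
      refine ⟨⟨_, F.odd_mem h3 ?_⟩, rfl, h1⟩
      rw [← MulAut.conj_apply, MulEquiv.orderOf_eq]
      exact F.hodd.of_dvd_nat (Subgroup.orderOf_dvd_natCard O d.2)
    -- the cube of `e` is inner
    have he3 : ∀ x y₁ y₂ y₃ : O, Commute (x : G) a → (y₁ : G) = e * x * e⁻¹ → (y₂ : G) = e * y₁ * e⁻¹ →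
        (y₃ : G) = e * y₂ * e⁻¹ → θ y₃ = θ x := by
      intro x y₁ y₂ y₃ hx h1 h2 h3
      have hcomm : Commute (e * e * e) t := mul_inv_eq_iff_eq_mul.1 (by
        rw [show e * e * e * t * (e * e * e)⁻¹ = e * (e * (e * t * e⁻¹) * e⁻¹) * e⁻¹ by group, he.1, he.2,
          he.third F.ha F.hc])
      obtain ⟨o, ho, hcase⟩ := F.cover _ hcomm
      have hdd : ∀ v : G, Commute (x : G) v → e * e * e = o * v → θ y₃ = θ x := fun v hv e' => by
        have hy : y₃ = (⟨o, ho⟩ : O) * x * (⟨o, ho⟩ : O)⁻¹ := Subtype.ext (by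
          rw [h3, h2, h1, show e * (e * (e * x * e⁻¹) * e⁻¹) * e⁻¹ = (e * e * e) * x * (e * e * e)⁻¹ by group, e',
            show o * v * x * (o * v)⁻¹ = o * (v * x * v⁻¹) * o⁻¹ by group, ← hv.eq, mul_inv_cancel_right]
          rfl)
        rw [hy, map_mul, map_mul, map_inv, mul_right_comm, mul_inv_cancel, one_mul]
      rcases hcase with h | h | h | h
      · exact hdd 1 (Commute.one_right _) (by rw [h, mul_one])
      · exact hdd t (F.cent x x.2) h
      · exact hdd a hx h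
      · exact hdd (t * a) ((F.cent x x.2).mul_right hx) h
    obtain ⟨y₁, hy₁, hy₁a⟩ := heD x₀ hx₀
    have hne12 : θ₂ ≠ θ := fun e' => hxy₀ (by rw [← h₂ x₀ y₀ hx₀ hy₀, e'])
    have hne13 : θ₃ ≠ θ := fun e' => by
      -- `θ ∘ e² = θ` forces stability
      obtain ⟨y₂, hy₂, hy₂a⟩ := heD y₁ hy₁a
      obtain ⟨y₃, hy₃, -⟩ := heD y₂ hy₂a
      have h := he3 x₀ y₁ y₂ y₃ hx₀ hy₁ hy₂ hy₃
      rw [← h₂ y₂ y₃ hy₂a hy₃, ← h₃ y₁ y₂ hy₁a hy₂, e'] at h
      exact hxy₀ (by rw [show y₀ = y₁ from Subtype.ext (hy₀.trans hy₁.symm), h])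
    have hne23 : θ₃ ≠ θ₂ := fun e' => by
      obtain ⟨y₂, hy₂, hy₂a⟩ := heD y₁ hy₁a
      obtain ⟨y₃, hy₃, -⟩ := heD y₂ hy₂a
      have h := he3 x₀ y₁ y₂ y₃ hx₀ hy₁ hy₂ hy₃
      have a1 := h₂ x₀ y₁ hx₀ hy₁
      have a2 := h₂ y₁ y₂ hy₁a hy₂
      have a3 := h₂ y₂ y₃ hy₂a hy₃
      have b1 := h₃ x₀ y₁ hx₀ hy₁
      have b2 := h₃ y₁ y₂ hy₁a hy₂
      rw [e'] at b1 b2
      exact hxy₀ (by rw [show y₀ = y₁ from Subtype.ext (hy₀.trans hy₁.symm), ← a1, b1, b2, a3, h])
    have hθ2 : θ₂ ≠ 1 := fun e' => by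
      refine hne23 (MonoidHom.ext fun x => ?_)
      have hx' : ∀ x : O, Commute (x : G) a → θ₃ x = 1 := fun x hx => by
        obtain ⟨y, hy, -⟩ := heD x hx
        rw [h₃ x y hx hy, e', MonoidHom.one_apply]
      exfalso
      obtain ⟨y₂, hy₂, hy₂a⟩ := heD y₁ hy₁a
      obtain ⟨y₃, hy₃, -⟩ := heD y₂ hy₂a
      have h := he3 x₀ y₁ y₂ y₃ hx₀ hy₁ hy₂ hy₃
      rw [← h₂ y₂ y₃ hy₂a hy₃] at h
      have h1 := h₂ x₀ y₀ hx₀ hy₀
      rw [e', MonoidHom.one_apply] at h h1
      exact hxy₀ (h1.symm.trans h)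
    have hθ3 : θ₃ ≠ 1 := fun e' => by
      obtain ⟨y₂, hy₂, hy₂a⟩ := heD y₁ hy₁a
      obtain ⟨y₃, hy₃, hy₃a⟩ := heD y₂ hy₂a
      have h := he3 x₀ y₁ y₂ y₃ hx₀ hy₁ hy₂ hy₃
      obtain ⟨y₄, hy₄, -⟩ := heD y₃ hy₃a
      have h4 := he3 y₁ y₂ y₃ y₄ hy₁a hy₂ hy₃ hy₄
      have a1 := h₂ y₂ y₃ hy₂a hy₃
      have a2 := h₂ y₃ y₄ hy₃a hy₄
      have b1 := h₃ y₁ y₂ hy₁a hy₂
      have b2 := h₃ y₂ y₃ hy₂a hy₃
      rw [e', MonoidHom.one_apply] at b1 b2
      refine hxy₀ ?_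
      rw [show y₀ = y₁ from Subtype.ext (hy₀.trans hy₁.symm), ← h, ← h4, ← a1, ← a2, ← b1, ← b2]
    obtain ⟨z₂, hz₂, hz₂s, hz₂p, hz₂d, hz₂c, -⟩ := F.exists_linear_vector θ₂ hθ2 hfix₂
    obtain ⟨z₃, hz₃, hz₃s, hz₃p, hz₃d, hz₃c, -⟩ := F.exists_linear_vector θ₃ hθ3 hfix₃
    have hsu₂ : ∀ ξ, z ξ ≠ 0 ↔ z₂ ξ ≠ 0 := fun ξ => by
      obtain ⟨m, hm⟩ := classInner_char_irr_nat (isCharacter_comp (isCharacter_irr ξ) O.subtype) (F.lin θ)
      obtain ⟨m', hm'⟩ := classInner_char_irr_nat (isCharacter_comp (isCharacter_irr ξ) O.subtype) (F.lin θ₂)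
      rw [← hzp ξ m hm, ← hz₂p ξ m' hm']
      exact F.mult_parity_shift he θ θ₂ hfix hfix₂ h₂ ξ hm hm'
    have hsu₃ : ∀ ξ, z ξ ≠ 0 ↔ z₃ ξ ≠ 0 := fun ξ => by
      obtain ⟨m, hm⟩ := classInner_char_irr_nat (isCharacter_comp (isCharacter_irr ξ) O.subtype) (F.lin θ₂)
      obtain ⟨m', hm'⟩ := classInner_char_irr_nat (isCharacter_comp (isCharacter_irr ξ) O.subtype) (F.lin θ₃)
      rw [hsu₂ ξ, ← hz₂p ξ m hm, ← hz₃p ξ m' hm']
      exact F.mult_parity_shift he θ₂ θ₃ hfix₂ hfix₃ h₃ ξ hm hm'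
    have s1 : ∀ χ ∈ S, z χ = 1 ∨ z χ = -1 := fun χ hχ => (hzs χ).resolve_left ((memS χ).1 hχ)
    have s2 : ∀ χ ∈ S, z₂ χ = 1 ∨ z₂ χ = -1 := fun χ hχ => (hz₂s χ).resolve_left ((hsu₂ χ).1 ((memS χ).1 hχ))
    have s3 : ∀ χ ∈ S, z₃ χ = 1 ∨ z₃ χ = -1 := fun χ hχ => (hz₃s χ).resolve_left ((hsu₃ χ).1 ((memS χ).1 hχ))
    have hlin : ∀ φ φ' : O →* ℂˣ, φ ≠ φ' → F.lin φ ≠ F.lin φ' := fun φ φ' h e' =>
      h (MonoidHom.ext fun x => Units.ext (congrFun (congrArg Subtype.val e') x))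
    have horth : ∀ (φ ψ : IrrCharacter O) (u v : IrrCharacter G → ℤ), φ ≠ ψ →
        (∀ x, (φ : O → ℂ) (F.conjA x) = (φ : O → ℂ) x) →
        (∀ χ : IrrCharacter G, rr t O (χ : G → ℂ) (φ : O → ℂ) = u χ) →
        (∀ χ : IrrCharacter G, rr t O (χ : G → ℂ) (ψ : O → ℂ) = v χ) →
        (∀ χ, u χ ≠ 0 → z χ ≠ 0) → ∑ χ ∈ S, u χ * v χ = 0 := by
      intro φ ψ u v hne hf hu hv hsub
      have h := F.sum_rr_mul (φ := (φ : O → ℂ)) (ψ := (ψ : O → ℂ)) (isClassFunction_irr φ)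
      rw [show (fun x => (φ : O → ℂ) (F.conjA x)) = (φ : O → ℂ) from funext hf, classInner_irr_ne hne] at h
      simp only [hu, hv, map_intCast, mul_zero, add_zero] at h
      have h' : ∑ χ, v χ * u χ = 0 := by exact_mod_cast h
      rw [Finset.sum_subset (Finset.subset_univ S) fun χ _ hχ => by
        rw [show u χ = 0 from by_contra fun hu' => hχ ((memS χ).2 (hsub χ hu')), zero_mul], ← h']
      exact Finset.sum_congr rfl fun χ _ => mul_comm _ _
    have hfl : ∀ (φ : O →* ℂˣ), (∀ x, φ (F.conjA x) = φ x) →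
        ∀ x, (F.lin φ : O → ℂ) (F.conjA x) = (F.lin φ : O → ℂ) x := fun φ h x => by
      rw [F.lin_apply, F.lin_apply, h]
    have o12 := horth _ _ z z₂ (hlin _ _ hne12.symm) (hfl θ hfix) hz hz₂ fun _ h => h
    have o13 := horth _ _ z z₃ (hlin _ _ hne13.symm) (hfl θ hfix) hz hz₃ fun _ h => h
    have o23 := horth _ _ z₂ z₃ (hlin _ _ hne23.symm) (hfl θ₂ hfix₂) hz₂ hz₃ fun χ h => (hsu₂ χ).2 h
    set d : IrrCharacter G → ℤ := fun χ => (charDegree (χ : G → ℂ) : ℤ) with hd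
    have hres : ∀ (u : IrrCharacter G → ℤ), (∀ χ, u χ ≠ 0 → z χ ≠ 0) → ∀ v : IrrCharacter G → ℤ,
        ∑ χ, u χ * v χ = ∑ χ ∈ S, u χ * v χ := fun u hu v =>
      (Finset.sum_subset (Finset.subset_univ S) fun χ _ hχ => by
        rw [show u χ = 0 from by_contra fun hu' => hχ ((memS χ).2 (hu χ hu')), zero_mul]).symm
    have d1 : ∑ χ ∈ S, z χ * d χ = 0 := by rw [← hres z (fun _ h => h)]; exact hzd
    have d2 : ∑ χ ∈ S, z₂ χ * d χ = 0 := by rw [← hres z₂ (fun χ h => (hsu₂ χ).2 h)]; exact hz₂d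
    have d3 : ∑ χ ∈ S, z₃ χ * d χ = 0 := by rw [← hres z₃ (fun χ h => (hsu₃ χ).2 h)]; exact hz₃d
    set W : ℤ := ∑ χ ∈ S, z χ * z₂ χ * z₃ χ * d χ with hW
    have hfour : ∀ χ ∈ S, 4 * d χ = z χ * z₂ χ * z₃ χ * W := fun χ hχ =>
      eq_fourth hzc s1 s2 s3 o12 o13 o23 d1 d2 d3 hχ
    obtain ⟨χ₀, hχ₀⟩ : S.Nonempty := Finset.card_pos.1 (by rw [hzc]; norm_num)
    have hW0 : W ≠ 0 := fun h => by
      have := hfour χ₀ hχ₀
      rw [h, mul_zero] at this
      have := hdpos χ₀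
      simp only [hd] at *
      omega
    -- no other constituent
    have honly : ∀ χ ∈ S, ∀ ψ : IrrCharacter O, ψ ≠ F.lin θ → ψ ≠ F.lin θ₂ → ψ ≠ F.lin θ₃ →
        rr t O (χ : G → ℂ) (ψ : O → ℂ) = 0 := by
      intro χ hχ ψ n1 n2 n3
      by_contra hr
      obtain ⟨hψ, w, hw, hsu, hwd⟩ := hother χ hχ ψ hr
      have hsub : ∀ χ, w χ ≠ 0 → z χ ≠ 0 := fun χ h => (hsu χ).2 h
      have w1 := horth _ _ z w n1.symm (hfl θ hfix) hz hw fun _ h => h
      have w2 := horth _ _ z₂ w n2.symm (hfl θ₂ hfix₂) hz₂ hw fun χ h => (hsu₂ χ).2 h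
      have w3 := horth _ _ z₃ w n3.symm (hfl θ₃ hfix₃) hz₃ hw fun χ h => (hsu₃ χ).2 h
      set V : ℤ := ∑ j ∈ S, z j * z₂ j * z₃ j * w j with hV
      have hw4 : ∀ j ∈ S, 4 * w j = z j * z₂ j * z₃ j * V := fun j hj =>
        eq_fourth hzc s1 s2 s3 o12 o13 o23 w1 w2 w3 hj
      have wd : ∑ j ∈ S, w j * d j = 0 := by rw [← hres w hsub]; exact hwd
      have : 4 * (4 * ∑ j ∈ S, w j * d j) = 4 * (V * W) := by
        rw [Finset.mul_sum, Finset.mul_sum, show (4 : ℤ) * (V * W) = ∑ _j ∈ S, V * W by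
          rw [Finset.sum_const, hzc]; ring]
        refine Finset.sum_congr rfl fun j hj => ?_
        have hsq : (z j * z₂ j * z₃ j) * (z j * z₂ j * z₃ j) = 1 := by
          rcases s1 j hj with e1 | e1 <;> rcases s2 j hj with e2 | e2 <;> rcases s3 j hj with e3 | e3 <;>
            rw [e1, e2, e3] <;> norm_num
        linear_combination (4 * d j) * hw4 j hj + (z j * z₂ j * z₃ j * V) * hfour j hj + (V * W) * hsq
      rw [wd, mul_zero, mul_zero] at this
      have hV0 : V = 0 := by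
        rcases mul_eq_zero.1 (show V * W = 0 by omega) with h | h
        · exact h
        · exact absurd h hW0
      have := hw4 χ hχ
      rw [hV0, mul_zero] at this
      exact (hsu χ).1 ((memS χ).1 hχ) (by omega)
    have hval : ∀ χ ∈ S, (χ : G → ℂ) t = (z χ + z₂ χ + z₃ χ : ℤ) := fun χ hχ => by
      have h12 := hlin _ _ hne12.symm
      have h13 := hlin _ _ hne13.symm
      have h23 := hlin _ _ hne23.symm
      rw [F.value_eq χ, ← Finset.sum_subset (Finset.subset_univ {F.lin θ, F.lin θ₂, F.lin θ₃})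
        fun ψ _ hψ => by
          simp only [Finset.mem_insert, Finset.mem_singleton, not_or] at hψ
          rw [honly χ hχ ψ hψ.1 hψ.2.1 hψ.2.2, zero_mul]]
      rw [Finset.sum_insert (by simp [h12, h13]), Finset.sum_insert (by simp [h23]), Finset.sum_singleton,
        show rr t O (χ : G → ℂ) (F.lin θ : O → ℂ) = z χ from hz χ,
        show rr t O (χ : G → ℂ) (F.lin θ₂ : O → ℂ) = z₂ χ from hz₂ χ,
        show rr t O (χ : G → ℂ) (F.lin θ₃ : O → ℂ) = z₃ χ from hz₃ χ]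
      simp only [F.lin_apply, map_one, Units.val_one, mul_one]
      push_cast
      ring
    -- all degrees are equal
    set m := charDegree (χ₀ : G → ℂ) with hm
    have hwsign : ∀ χ ∈ S, z χ * z₂ χ * z₃ χ = 1 ∨ z χ * z₂ χ * z₃ χ = -1 := fun χ hχ => by
      rcases s1 χ hχ with e1 | e1 <;> rcases s2 χ hχ with e2 | e2 <;> rcases s3 χ hχ with e3 | e3 <;>
        rw [e1, e2, e3] <;> norm_num
    have hmd : ∀ χ ∈ S, charDegree (χ : G → ℂ) = m ∧ z χ * z₂ χ * z₃ χ = z χ₀ * z₂ χ₀ * z₃ χ₀ := by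
      intro χ hχ
      have e1 := hfour χ hχ
      have e2 := hfour χ₀ hχ₀
      have p1 := hdpos χ
      have p2 := hdpos χ₀
      simp only [hd, ← hm] at e1 e2
      rcases hwsign χ hχ with a1 | a1 <;> rcases hwsign χ₀ hχ₀ with a2 | a2 <;> rw [a1] at e1 ⊢ <;>
        rw [a2] at e2 ⊢ <;> exact ⟨by omega, by omega⟩
    have hm0 : (m : ℤ) ≠ 0 := by exact_mod_cast (hdpos χ₀).ne'
    have hzero : ∀ u : IrrCharacter G → ℤ, ∑ χ ∈ S, u χ * d χ = 0 → ∑ χ ∈ S, u χ = 0 := fun u h => by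
      rw [Finset.sum_congr rfl fun χ hχ => show u χ * d χ = u χ * (m : ℤ) by
        simp only [hd, (hmd χ hχ).1], ← Finset.sum_mul] at h
      exact (mul_eq_zero.1 h).resolve_right hm0
    set ε := z χ₀ * z₂ χ₀ * z₃ χ₀ with hε
    have hT : ∑ χ ∈ S, z χ * (z χ + z₂ χ + z₃ χ) ^ 2 = 8 * ε := by
      rw [Finset.sum_congr rfl fun χ hχ => show z χ * (z χ + z₂ χ + z₃ χ) ^ 2 =
          3 * z χ + 2 * z₂ χ + 2 * z₃ χ + 2 * ε by
        rw [← (hmd χ hχ).2]
        rcases s1 χ hχ with e1 | e1 <;> rcases s2 χ hχ with e2 | e2 <;> rcases s3 χ hχ with e3 | e3 <;>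
          rw [e1, e2, e3] <;> norm_num, Finset.sum_add_distrib, Finset.sum_add_distrib, Finset.sum_add_distrib,
        ← Finset.mul_sum, ← Finset.mul_sum, ← Finset.mul_sum, hzero z d1, hzero z₂ d2, hzero z₃ d3,
        Finset.sum_const, hzc]
      ring
    have heq' : (n : ℤ) * ε = (m : ℤ) * (c : ℤ) ^ 2 := by
      have e1 : (n : ℂ) * ((8 * ε : ℤ) : ℂ) = (m : ℂ) * (8 * (c : ℂ) ^ 2) := by
        rw [← heq, ← hT, mul_left_comm (m : ℂ), Int.cast_sum, Finset.mul_sum (a := (m : ℂ))]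
        congr 1
        refine Finset.sum_congr rfl fun χ hχ => ?_
        rw [hval χ hχ, hdeg, (hmd χ hχ).1]
        have hmne : (m : ℂ) ≠ 0 := by exact_mod_cast (hdpos χ₀).ne'
        push_cast
        field_simp
      have e2 : (n : ℤ) * (8 * ε) = (m : ℤ) * (8 * (c : ℤ) ^ 2) := by exact_mod_cast e1
      linarith
    have hdvd : (p : ℤ) ∣ (n : ℤ) * ε := heq' ▸ dvd_mul_of_dvd_right (dvd_pow (by exact_mod_cast hpd) two_ne_zero) _
    rcases hwsign χ₀ hχ₀ with h | h <;> rw [← hε] at h <;> rw [h] at hdvd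
    · rw [mul_one] at hdvd; exact_mod_cast hdvd
    · rw [mul_neg, mul_one, dvd_neg] at hdvd; exact_mod_cast hdvd

end Frame

end CfsgLib.GW.Klein
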