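import Cfsg.Agent.Lib.GW.Klein.Congr
import Cfsg.Agent.Lib.GW.Klein.CaseC
import Cfsg.Agent.Lib.Spor.JFourType.LocalFour

/-!
# The pair count on the coset of an involution, fusion inside `C(V) ∩ O`
-/

set_option autoImplicit false
set_option linter.unusedSectionVars false
set_option linter.style.haveILetI false

open scoped ComplexConjugate

namespace CfsgLib.GW.Klein

open Cfsg CfsgLib.Char CfsgLib.GW.CaseA.Inverted CfsgLib.Invol
open CfsgLib.Spor.JFourType (card_eq_centralizer_mul_inverted)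

universe u

variable {G : Type u} [Group G] [Fintype G]

namespace Frame

variable {t a : G} {O : Subgroup G} (F : Frame t a O)
include F

theorem mem_fixed {x : G} : x ∈ O ⊓ Subgroup.centralizer ({a} : Set G) ↔ x ∈ O ∧ Commute x a := by
  rw [Subgroup.mem_inf, Subgroup.mem_centralizer_singleton_iff]
  rfl

theorem conjA_eq_iff (x : O) : F.conjA x = x ↔ Commute (x : G) a := by
  rw [Subtype.ext_iff, F.conjA_val, mul_inv_eq_iff_eq_mul]
  exact ⟨fun h => h.symm, fun h => h.eq.symm⟩

/-- the number of elements of `O` inverted by `a` -/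
theorem relIndex_eq : (O ⊓ Subgroup.centralizer ({a} : Set G)).relIndex O = (CfsgLib.Spor.JFourType.invSet a O).ncard := by
  have h1 := (O ⊓ Subgroup.centralizer ({a} : Set G)).subgroupOf O |>.card_mul_index
  rw [Nat.card_congr (Subgroup.subgroupOfEquivOfLe inf_le_left).toEquiv] at h1
  exact Nat.eq_of_mul_eq_mul_left Nat.card_pos
    (h1.trans (card_eq_centralizer_mul_inverted F.hodd (sq_eq_one F.ha) F.norm))

theorem card_eq_fixed :
    Nat.card O = Nat.card (O ⊓ Subgroup.centralizer ({a} : Set G) : Subgroup G) *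
      (O ⊓ Subgroup.centralizer ({a} : Set G)).relIndex O := by
  rw [F.relIndex_eq]
  exact card_eq_centralizer_mul_inverted F.hodd (sq_eq_one F.ha) F.norm

/-- the involutions of `C(t)` -/
theorem invol_form {u : G} (hu : orderOf u = 2) (hut : Commute u t) :
    u = t ∨ (∃ y ∈ CfsgLib.Spor.JFourType.invSet a O, u = a * y) ∨ ∃ y ∈ CfsgLib.Spor.JFourType.invSet a O, u = t * a * y := by
  obtain ⟨o, ho, h | h | h | h⟩ := F.cover u hut <;> subst h
  · exact absurd ho (F.not_mem hu)
  · left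
    have h1 := sq_eq_one hu
    rw [show o * t * (o * t) = o * (t * o * t⁻¹) * (t * t) by group, F.conj_t ho, sq_eq_one F.ht, mul_one] at h1
    have : o = 1 := by
      obtain ⟨k, hk⟩ := F.hodd.of_dvd_nat (Subgroup.orderOf_dvd_natCard O ho)
      have h2 := pow_orderOf_eq_one o
      rwa [hk, pow_succ, pow_mul, pow_two, h1, one_pow, one_mul] at h2
    rw [this, one_mul]
  · refine Or.inr (Or.inl ⟨a * (o * a), ⟨?_, ?_⟩, by rw [← mul_assoc a a, sq_eq_one F.ha, one_mul]⟩)
    · have := F.norm o ho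
      rw [inv_eq_self F.ha] at this
      rwa [← mul_assoc]
    · refine eq_inv_of_mul_eq_one_left ?_
      have h1 := sq_eq_one hu
      calc a * (a * (o * a)) * a⁻¹ * (a * (o * a)) = (a * a) * (o * a * (o * a)) := by group
        _ = 1 := by rw [h1, sq_eq_one F.ha, one_mul]
  · refine Or.inr (Or.inr ⟨t * a * (o * (t * a)), ⟨?_, ?_⟩, by
      rw [← mul_assoc (t * a) (t * a), sq_eq_one F.order_ta, one_mul]⟩)
    · have := F.norm' ho
      rw [inv_eq_self F.order_ta] at this
      rw [← mul_assoc, this]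
      exact F.norm o ho
    · have hy : t * a * (o * (t * a)) ∈ O := by
        have := F.norm' ho
        rw [inv_eq_self F.order_ta] at this
        rw [← mul_assoc, this]
        exact F.norm o ho
      rw [← F.norm' hy]
      refine eq_inv_of_mul_eq_one_left ?_
      have h1 := sq_eq_one hu
      calc t * a * (t * a * (o * (t * a))) * (t * a)⁻¹ * (t * a * (o * (t * a)))
          = ((t * a) * (t * a)) * (o * (t * a) * (o * (t * a))) := by group
        _ = 1 := by rw [h1, sq_eq_one F.order_ta, one_mul]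

theorem invol_of_inverted {y : G} (hy : y ∈ CfsgLib.Spor.JFourType.invSet a O) : orderOf (a * y) = 2 ∧ orderOf (t * a * y) = 2 := by
  have h1 : (a * y) * (a * y) = 1 := by
    rw [show a * y * (a * y) = (a * y * a⁻¹) * (a * a) * y by group, hy.2, sq_eq_one F.ha, mul_one, inv_mul_cancel]
  have h2 : (t * a * y) * (t * a * y) = 1 := by
    rw [show t * a * y * (t * a * y) = ((t * a) * y * (t * a)⁻¹) * ((t * a) * (t * a)) * y by group,
      F.norm' hy.1, hy.2, sq_eq_one F.order_ta, mul_one, inv_mul_cancel]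
  refine ⟨orderOf_eq_prime (by rw [pow_two, h1]) fun h => F.not_mem F.ha ?_,
    orderOf_eq_prime (by rw [pow_two, h2]) fun h => F.not_mem F.order_ta ?_⟩
  · rw [mul_eq_one_iff_eq_inv.1 h]; exact inv_mem hy.1
  · rw [mul_eq_one_iff_eq_inv.1 h]; exact inv_mem hy.1

variable [Fintype O]

/-- **the pair count** -/
theorem pair_count (hclass : ∀ u : G, orderOf u = 2 → IsConj t u) (θ : O →* ℂˣ)
    (hfix : ∀ x, θ (F.conjA x) = θ x) :
    ∑ x : O, (classConst t t (t * (x : G)) : ℂ) * (θ x : ℂ) =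
      2 * ((O ⊓ Subgroup.centralizer ({a} : Set G)).relIndex O : ℂ) ^ 2 := by
  classical
  have hinv : ∀ u : G, IsConj t u → orderOf u = 2 := fun u hu => by
    obtain ⟨g, rfl⟩ := isConj_iff.1 hu
    rw [← MulAut.conj_apply, MulEquiv.orderOf_eq, F.ht]
  have hC : ∀ x : O, ∀ p : G × G, IsConj t p.1 → IsConj t p.2 → p.1 * p.2 = t * x →
      Commute p.1 t ∧ θ x = 1 := by
    intro x p h1 h2 h12
    have e1 := sq_eq_one (hinv _ h1)
    have e2 := sq_eq_one (hinv _ h2)
    have h : p.1 * (t * x) * p.1⁻¹ = t * (x : G)⁻¹ := by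
      have e : t * (x : G)⁻¹ = (t * x)⁻¹ := by
        rw [_root_.mul_inv_rev, inv_eq_self F.ht, (F.cent _ (inv_mem x.2)).eq]
      rw [e, ← h12, _root_.mul_inv_rev, inv_eq_self (hinv _ h1), inv_eq_self (hinv _ h2),
        show p.1 * (p.1 * p.2) * p.1 = (p.1 * p.1) * (p.2 * p.1) by group, e1, one_mul]
    have hp1 := F.commute_of_conj x.2 (inv_mem x.2) h
    refine ⟨hp1, ?_⟩
    have hx : p.1 * x * p.1⁻¹ = (x : G)⁻¹ := by
      refine mul_left_cancel (a := t) ?_
      rw [← h, ← mul_assoc, ← mul_assoc, ← mul_assoc, hp1.eq]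
    have hθ : ∀ (v : G) (x' : O), (x' : G) = v * x * v⁻¹ → v ∈ ({1, t, a, t * a} : Set G) → θ x' = θ x := by
      intro v x' hx' hv
      rcases hv with rfl | rfl | rfl | rfl
      · rw [show x' = x from Subtype.ext (by rw [hx']; group)]
      · rw [show x' = x from Subtype.ext (by rw [hx', F.conj_t x.2])]
      · rw [show x' = F.conjA x from Subtype.ext (by rw [hx', F.conjA_val]), hfix]
      · rw [show x' = F.conjA x from Subtype.ext (by rw [hx', F.conjA_val, F.norm' x.2]), hfix]
    obtain ⟨o, ho, hcase⟩ := F.cover p.1 hp1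
    obtain ⟨v, hv, hv'⟩ : ∃ v ∈ ({1, t, a, t * a} : Set G), p.1 = o * v := by
      rcases hcase with h | h | h | h
      exacts [⟨1, by simp, by rw [h, mul_one]⟩, ⟨t, by simp, h⟩, ⟨a, by simp, h⟩, ⟨t * a, by simp, h⟩]
    have hvx : v * x * v⁻¹ ∈ O := by
      rcases hv with rfl | rfl | rfl | rfl
      · simp
      · rw [F.conj_t x.2]; exact x.2
      · exact F.norm x x.2
      · rw [F.norm' x.2]; exact F.norm x x.2
    have hz : θ ⟨v * x * v⁻¹, hvx⟩ = θ x := hθ v _ rfl hv
    have hxx : x⁻¹ = (⟨o, ho⟩ : O) * ⟨v * x * v⁻¹, hvx⟩ * (⟨o, ho⟩ : O)⁻¹ := Subtype.ext (by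
      simp only [Subgroup.coe_mul, Subgroup.coe_inv]
      rw [← hx, hv']
      group)
    have := congrArg θ hxx
    rw [map_mul, map_mul, map_inv, map_inv, mul_right_comm, mul_inv_cancel, one_mul, hz, inv_eq_iff_mul_eq_one] at this
    obtain ⟨k, hk⟩ := F.hodd.of_dvd_nat (Subgroup.orderOf_dvd_natCard O x.2)
    have hpow : θ x ^ (orderOf (x : G)) = 1 := by
      rw [← map_pow, Subgroup.orderOf_coe, pow_orderOf_eq_one, map_one]
    rwa [hk, pow_succ, pow_mul, pow_two, this, one_pow, one_mul] at hpow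
  have hval : ∀ x : O, (classConst t t (t * (x : G)) : ℂ) * (θ x : ℂ) = (classConst t t (t * (x : G)) : ℂ) := by
    intro x
    by_cases h0 : classConst t t (t * (x : G)) = 0
    · rw [h0, Nat.cast_zero, zero_mul]
    · rw [classConst] at h0
      obtain ⟨⟨⟨p, h1, h2, h12⟩⟩, -⟩ := Nat.card_ne_zero.1 h0
      rw [(hC x p h1 h2 h12).2, Units.val_one, mul_one]
  rw [Finset.sum_congr rfl fun x _ => hval x, F.relIndex_eq, ← Nat.cast_sum]
  have hI := fun y : CfsgLib.Spor.JFourType.invSet a O => F.invol_of_inverted y.2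
  let W := Σ x : O, {p : G × G // IsConj t p.1 ∧ IsConj t p.2 ∧ p.1 * p.2 = t * (x : G)}
  have hW : ∑ x : O, classConst t t (t * (x : G)) = Nat.card W := by
    rw [Nat.card_sigma]
    rfl
  rw [hW]
  have hprod : ∀ y z : CfsgLib.Spor.JFourType.invSet a O, a * (y : G) * (t * a * z) = t * ((y : G)⁻¹ * z) ∧
      t * a * (z : G) * (a * y) = t * ((z : G)⁻¹ * y) := by
    intro y z
    constructor
    · calc a * (y : G) * (t * a * z) = a * ((y : G) * t) * a * z := by group
        _ = (a * t) * (y * a * z) := by rw [(F.cent y y.2.1).eq]; group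
        _ = t * ((a * y * a⁻¹) * (a * a) * z) := by rw [← F.hc.eq]; group
        _ = t * ((y : G)⁻¹ * z) := by rw [y.2.2, sq_eq_one F.ha, mul_one]
    · calc t * a * (z : G) * (a * y) = t * ((a * z * a⁻¹) * (a * a) * y) := by group
        _ = t * ((z : G)⁻¹ * y) := by rw [z.2.2, sq_eq_one F.ha, mul_one]
  let f : CfsgLib.Spor.JFourType.invSet a O × CfsgLib.Spor.JFourType.invSet a O × Bool → W := fun w => match w with
    | (y, z, false) => ⟨⟨(y : G)⁻¹ * z, mul_mem (inv_mem y.2.1) z.2.1⟩, (a * y, t * a * z),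
        hclass _ (hI y).1, hclass _ (hI z).2, (hprod y z).1⟩
    | (y, z, true) => ⟨⟨(z : G)⁻¹ * y, mul_mem (inv_mem z.2.1) y.2.1⟩, (t * a * z, a * y),
        hclass _ (hI z).2, hclass _ (hI y).1, (hprod y z).2⟩
  have hbij : Function.Bijective f := by
    constructor
    · rintro ⟨y, z, b⟩ ⟨y', z', b'⟩ h
      have h1 := congrArg (fun w : W => w.2.1) h
      have hsep : ∀ u v : CfsgLib.Spor.JFourType.invSet a O, a * (u : G) ≠ t * a * v := fun u v e => F.not_mem F.ht (by
        rw [show t = t * a * v * (v : G)⁻¹ * a⁻¹ by group, ← e,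
          show a * (u : G) * (v : G)⁻¹ * a⁻¹ = a * ((u : G) * (v : G)⁻¹) * a⁻¹ by group]
        exact F.norm _ (mul_mem u.2.1 (inv_mem v.2.1)))
      cases b <;> cases b' <;> simp only [f, Prod.mk.injEq] at h1
      · exact Prod.ext (Subtype.ext (mul_left_cancel h1.1)) (Prod.ext (Subtype.ext (mul_left_cancel h1.2)) rfl)
      · exact absurd h1.1 (hsep _ _)
      · exact absurd h1.1.symm (hsep _ _)
      · exact Prod.ext (Subtype.ext (mul_left_cancel h1.2)) (Prod.ext (Subtype.ext (mul_left_cancel h1.1)) rfl)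
    · rintro ⟨x, p, h1, h2, h12⟩
      have hp1 := (hC x p h1 h2 h12).1
      have hp2 : p.2 = p.1 * (t * x) := by
        rw [← h12, ← mul_assoc, sq_eq_one (hinv _ h1), one_mul]
      have hp2c : Commute p.2 t := hp2 ▸ hp1.mul_left ((Commute.refl t).mul_left (F.cent x x.2))
      have hne : p.1 ≠ t ∧ p.2 ≠ t := by
        constructor
        · intro e
          rw [e] at hp2
          rw [← mul_assoc, sq_eq_one F.ht, one_mul] at hp2
          exact F.not_mem (hinv _ h2) (hp2 ▸ x.2)
        · intro e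
          rw [e, ← F.cent x x.2 |>.eq] at hp2
          have h3 : p.1 * x = 1 := mul_right_cancel (b := t) (by rw [one_mul, mul_assoc, ← hp2])
          exact F.not_mem (hinv _ h1) (eq_inv_of_mul_eq_one_left h3 ▸ inv_mem x.2)
      have hkey : ∀ (u w : G) (v : G), u ∈ O → w ∈ O → v * u * (v * w) = t * (x : G) →
          v * u * v⁻¹ ∈ O → v * v = 1 → False := fun u w v _ hw he hvu hv => F.not_mem F.ht (by
        rw [show t = v * u * v⁻¹ * (v * v) * w * (x : G)⁻¹ by
          rw [show v * u * v⁻¹ * (v * v) * w = v * u * (v * w) by group, he]; group, hv, mul_one]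
        exact mul_mem (mul_mem hvu hw) (inv_mem x.2))
      rcases F.invol_form (hinv _ h1) hp1 with e1 | ⟨y, hy, e1⟩ | ⟨z, hz, e1⟩
      · exact absurd e1 hne.1
      · rcases F.invol_form (hinv _ h2) hp2c with e2 | ⟨y', hy', e2⟩ | ⟨z, hz, e2⟩
        · exact absurd e2 hne.2
        · exact (hkey y y' a hy.1 hy'.1 (by rw [← e1, ← e2, h12]) (F.norm y hy.1) (sq_eq_one F.ha)).elim
        · refine ⟨(⟨y, hy⟩, ⟨z, hz⟩, false), ?_⟩
          have hx : (x : G) = y⁻¹ * z := mul_left_cancel (h12.symm.trans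
            (by rw [e1, e2]; exact (hprod ⟨y, hy⟩ ⟨z, hz⟩).1))
          obtain rfl : x = ⟨y⁻¹ * z, mul_mem (inv_mem hy.1) hz.1⟩ := Subtype.ext hx
          exact Sigma.ext rfl (heq_of_eq (Subtype.ext (Prod.ext e1.symm e2.symm)))
      · rcases F.invol_form (hinv _ h2) hp2c with e2 | ⟨y, hy, e2⟩ | ⟨z', hz', e2⟩
        · exact absurd e2 hne.2
        · refine ⟨(⟨y, hy⟩, ⟨z, hz⟩, true), ?_⟩
          have hx : (x : G) = z⁻¹ * y := mul_left_cancel (h12.symm.trans
            (by rw [e1, e2]; exact (hprod ⟨y, hy⟩ ⟨z, hz⟩).2))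
          obtain rfl : x = ⟨z⁻¹ * y, mul_mem (inv_mem hz.1) hy.1⟩ := Subtype.ext hx
          exact Sigma.ext rfl (heq_of_eq (Subtype.ext (Prod.ext e1.symm e2.symm)))
        · exact (hkey z z' (t * a) hz.1 hz'.1 (by rw [← e1, ← e2, h12]) (by rw [F.norm' hz.1]; exact F.norm z hz.1)
            (sq_eq_one F.order_ta)).elim
  rw [← Nat.card_congr (Equiv.ofBijective f hbij), Nat.card_prod, Nat.card_prod,
    Nat.card_eq_fintype_card (α := Bool), Fintype.card_bool, Nat.card_coe_set_eq]
  push_cast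
  ring

/-- **the order equation for a fixed linear character** -/
theorem order_equation [Fintype (IrrCharacter G)] (hclass : ∀ u : G, orderOf u = 2 → IsConj t u) (θ : O →* ℂˣ)
    (hfix : ∀ x, θ (F.conjA x) = θ x) {z : IrrCharacter G → ℤ}
    (hz : ∀ χ : IrrCharacter G, rr t O (χ : G → ℂ) (fun x => (θ x : ℂ)) = z χ) :
    ((Subgroup.centralizer ({t} : Set G)).index : ℂ) *
        ∑ χ : IrrCharacter G, (z χ : ℂ) * (χ : G → ℂ) t ^ 2 / (χ : G → ℂ) 1 =
      8 * ((O ⊓ Subgroup.centralizer ({a} : Set G)).relIndex O : ℂ) ^ 2 := by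
  classical
  have hO := card_ne_zero' (G := O)
  have h := F.pair_count hclass θ hfix
  set n := (Subgroup.centralizer ({t} : Set G)).index with hn
  have hG : (Nat.card G : ℂ) = (n : ℂ) * (4 * (Nat.card O : ℂ)) := by
    rw [hn, ← Subgroup.index_mul_card (Subgroup.centralizer ({t} : Set G)), F.card_cent]
    push_cast
    ring
  have hn0 : (n : ℂ) ≠ 0 := by exact_mod_cast Subgroup.index_ne_zero_of_finite
  have e1 : ∀ x : O, (classConst t t (t * (x : G)) : ℂ) * (θ x : ℂ) = (n : ℂ) ^ 2 / (Nat.card G : ℂ) *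
      ∑ χ : IrrCharacter G, ((χ : G → ℂ) t ^ 2 / (χ : G → ℂ) 1) * (conj ((χ : G → ℂ) (t * x)) * (θ x : ℂ)) := by
    intro x
    rw [classConst_formula, card_isConj, finsum_eq_sum_of_fintype, mul_assoc, Finset.sum_mul, ← hn, ← pow_two]
    congr 1
    exact Finset.sum_congr rfl fun χ _ => by ring
  have e2 : ∀ χ : IrrCharacter G, ∑ x : O, conj ((χ : G → ℂ) (t * x)) * (θ x : ℂ) = (Nat.card O : ℂ) * z χ := by
    intro χ
    have := congrArg conj (hz χ)
    rw [rr, classInner, map_mul, map_inv₀, map_natCast, map_intCast, map_sum, inv_mul_eq_iff_eq_mul₀ hO] at this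
    rw [← this]
    exact Finset.sum_congr rfl fun x _ => by rw [map_mul, Complex.conj_conj]
  rw [Finset.sum_congr rfl fun x _ => e1 x, ← Finset.mul_sum, Finset.sum_comm] at h
  simp only [← Finset.mul_sum, e2] at h
  have e3 : ∑ χ : IrrCharacter G, (χ : G → ℂ) t ^ 2 / (χ : G → ℂ) 1 * ((Nat.card O : ℂ) * z χ) =
      (Nat.card O : ℂ) * ∑ χ : IrrCharacter G, (z χ : ℂ) * (χ : G → ℂ) t ^ 2 / (χ : G → ℂ) 1 := by
    rw [Finset.mul_sum]
    exact Finset.sum_congr rfl fun χ _ => by ring
  rw [e3, hG] at h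
  field_simp at h
  linear_combination h

/-- the four-group with `t` and `a` as a Sylow subgroup, and its centraliser -/
theorem sylow_four (hG : Min G) (h8 : ¬ 8 ∣ Nat.card G) :
    ∃ P : Sylow 2 G, (P : Subgroup G) = Subgroup.closure ({t, a} : Set G) := by
  haveI : Fact (Nat.Prime 2) := ⟨Nat.prime_two⟩
  have hK := isKleinFour_closure_pair F.ht F.ha F.hne F.hc
  obtain ⟨P, hP⟩ := (IsPGroup.of_card (n := 2) (by rw [hK.card_four]; rfl) :
    IsPGroup 2 (Subgroup.closure ({t, a} : Set G))).exists_le_sylow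
  exact ⟨P, (Subgroup.eq_of_le_of_card_ge hP (by rw [hK.card_four, (hG.klein_sylow h8 P).card_four])).symm⟩

theorem card_cent_four :
    Nat.card (Subgroup.centralizer (Subgroup.closure ({t, a} : Set G) : Set G)) =
      4 * Nat.card (O ⊓ Subgroup.centralizer ({a} : Set G) : Subgroup G) := by
  classical
  rw [Subgroup.centralizer_closure]
  have hmem : ∀ g : G, g ∈ Subgroup.centralizer ({t, a} : Set G) ↔ Commute g t ∧ Commute g a := fun g => by
    rw [Subgroup.mem_centralizer_iff]
    simp only [Set.mem_insert_iff, Set.mem_singleton_iff, forall_eq_or_imp, forall_eq]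
    exact ⟨fun h => ⟨h.1.symm, h.2.symm⟩, fun h => ⟨h.1.eq.symm, h.2.eq.symm⟩⟩
  let f : (O ⊓ Subgroup.centralizer ({a} : Set G) : Subgroup G) × Bool × Bool →
      Subgroup.centralizer ({t, a} : Set G) := fun w => ⟨F.pt (⟨w.1, (F.mem_fixed.1 w.1.2).1⟩, w.2), (hmem _).2
        ⟨F.pt_commute _, by
          have h := (F.mem_fixed.1 w.1.2).2
          obtain ⟨x, i, j⟩ := w
          cases i <;> cases j
          · exact h
          · exact h.mul_left (Commute.refl a)
          · exact h.mul_left F.hc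
          · exact h.mul_left (F.hc.mul_left (Commute.refl a))⟩⟩
  have hf : Function.Bijective f := by
    refine ⟨fun w w' e => ?_, fun g => ?_⟩
    · have := F.pt_injective (congrArg Subtype.val e)
      simp only [Prod.mk.injEq, Subtype.mk.injEq] at this
      exact Prod.ext (Subtype.ext this.1) this.2
    · obtain ⟨hgt, hga⟩ := (hmem _).1 g.2
      obtain ⟨⟨x, v⟩, hx⟩ := F.pt_surjective hgt
      have hxa : Commute (x : G) a := by
        rw [← hx] at hga
        obtain ⟨i, j⟩ := v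
        cases i <;> cases j <;> simp only [pt] at hga
        · exact hga
        · exact (by simpa [inv_eq_self F.ha, mul_assoc, sq_eq_one F.ha] using hga.mul_left (Commute.refl a))
        · exact (by simpa [inv_eq_self F.ht, mul_assoc, sq_eq_one F.ht] using hga.mul_left F.hc)
        · exact (by simpa [mul_assoc, sq_eq_one F.order_ta] using hga.mul_left (F.hc.mul_left (Commute.refl a)))
      exact ⟨(⟨x, F.mem_fixed.2 ⟨x.2, hxa⟩⟩, v), Subtype.ext hx⟩
  rw [← Nat.card_congr (Equiv.ofBijective f hf), Nat.card_prod, Nat.card_prod,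
    Nat.card_eq_fintype_card (α := Bool), Fintype.card_bool]
  omega

/-- the signed degree sum of the principal block, in the shape of the order equation -/
theorem principal_equation (hG : Min G) (h8 : ¬ 8 ∣ Nat.card G) :
    ∃ σ : ℚ, 8 / 15 ≤ σ ∧ ((Subgroup.centralizer ({t} : Set G)).index : ℚ) * σ =
      8 * ((O ⊓ Subgroup.centralizer ({a} : Set G)).relIndex O : ℚ) ^ 2 := by
  haveI := hG.simple
  obtain ⟨P, hP⟩ := F.sylow_four hG h8
  have hcyc : ¬ IsCyclic G := fun h => hG.not_solvable (Group.isSolvable_of_comm fun x y => by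
    obtain ⟨g, hg⟩ := h.exists_generator
    obtain ⟨i, rfl⟩ := Subgroup.mem_zpowers_iff.1 (hg x)
    obtain ⟨j, rfl⟩ := Subgroup.mem_zpowers_iff.1 (hg y)
    rw [← zpow_add, ← zpow_add, add_comm])
  obtain ⟨x, y, z, -, -, -, -, -, -, -, hσ, hform⟩ := klein_order_formula hcyc P (hG.klein_sylow h8 P)
    (fun s u hs hu => isConj_iff.2 (hG.isConj_invol hs hu)) (hP ▸ Subgroup.subset_closure (by simp) : t ∈ _) F.ht
  refine ⟨_, hσ, ?_⟩
  rw [hP, F.card_cent_four, F.card_cent, ← Subgroup.index_mul_card (Subgroup.centralizer ({t} : Set G)),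
    F.card_cent] at hform
  rw [F.card_eq_fixed] at hform
  push_cast at hform
  have hd : (0 : ℚ) < Nat.card (O ⊓ Subgroup.centralizer ({a} : Set G) : Subgroup G) := by
    exact_mod_cast Nat.card_pos
  have hc : (0 : ℚ) < (O ⊓ Subgroup.centralizer ({a} : Set G)).relIndex O := by
    exact_mod_cast Nat.pos_of_ne_zero Subgroup.FiniteIndex.index_ne_zero
  refine mul_left_cancel₀ (mul_pos hc (pow_pos hd 3)).ne' ?_
  linear_combination hform / 64

/-- **fusion in `C(V) ∩ O` is controlled by the normaliser of the four group** -/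
theorem fusion (hG : Min G) (h8 : ¬ 8 ∣ Nat.card G) {e : G} (he : Cyc e t a) (θ : O →* ℂˣ)
    (hfix : ∀ x, θ (F.conjA x) = θ x)
    (hst : ∀ x y : O, Commute (x : G) a → (y : G) = e * x * e⁻¹ → θ y = θ x)
    {x y : O} (hx : Commute (x : G) a) (hy : Commute (y : G) a) (hxy : IsConj (x : G) y) : θ y = θ x := by
  classical
  haveI : Fact (Nat.Prime 2) := ⟨Nat.prime_two⟩
  obtain ⟨g, hg⟩ := isConj_iff.1 hxy
  obtain ⟨P, hP⟩ := F.sylow_four hG h8
  have hPle : ∀ k : G, Commute k t → Commute k a → (P : Subgroup G) ≤ Subgroup.centralizer ({k} : Set G) :=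
    fun k h1 h2 => hP ▸ (Subgroup.closure_le _).2 (by
      rintro u (rfl | rfl) <;> refine Subgroup.mem_centralizer_singleton_iff.2 ?_
      exacts [h1.eq.symm, h2.eq.symm])
  have hVy := hPle y (F.cent y y.2) hy
  have hVy' : ((g • P : Sylow 2 G) : Subgroup G) ≤ Subgroup.centralizer ({(y : G)} : Set G) := by
    rw [Sylow.coe_subgroup_smul]
    rintro _ ⟨u, hu, rfl⟩
    have := Subgroup.mem_centralizer_singleton_iff.1 (hPle x (F.cent x x.2) hx hu)
    refine Subgroup.mem_centralizer_singleton_iff.2 ?_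
    show g * u * g⁻¹ * y = y * (g * u * g⁻¹)
    rw [← hg]
    calc g * u * g⁻¹ * (g * x * g⁻¹) = g * (u * x) * g⁻¹ := by group
      _ = g * ((x : G) * u) * g⁻¹ := by rw [this]
      _ = g * x * g⁻¹ * (g * u * g⁻¹) := by group
  obtain ⟨c, hc⟩ := MulAction.exists_smul_eq (Subgroup.centralizer ({(y : G)} : Set G))
    ((g • P).subtype hVy') (P.subtype hVy)
  -- `m` normalises the four group and moves `x` to `y`
  set m := (c : G) * g with hm
  have hmxy : m * x * m⁻¹ = y := by
    have := Subgroup.mem_centralizer_singleton_iff.1 c.2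
    calc m * x * m⁻¹ = (c : G) * (g * x * g⁻¹) * (c : G)⁻¹ := by rw [hm]; group
      _ = y := by rw [hg, this, mul_inv_cancel_right]
  have hmP : ∀ u ∈ (P : Subgroup G), m * u * m⁻¹ ∈ (P : Subgroup G) := by
    intro u hu
    have hgu : g * u * g⁻¹ ∈ ((g • P : Sylow 2 G) : Subgroup G) := by
      rw [Sylow.coe_subgroup_smul]; exact ⟨u, hu, rfl⟩
    have h : c * ⟨g * u * g⁻¹, hVy' hgu⟩ * c⁻¹ ∈
        ((c • (g • P).subtype hVy' : Sylow 2 (Subgroup.centralizer ({(y : G)} : Set G))) : Subgroup _) := by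
      rw [Sylow.coe_subgroup_smul]
      exact ⟨⟨g * u * g⁻¹, hVy' hgu⟩, by simpa [Sylow.coe_subtype, Subgroup.mem_subgroupOf] using hgu, rfl⟩
    rw [hc, Sylow.coe_subtype, Subgroup.mem_subgroupOf] at h
    simpa [hm, mul_assoc] using h
  have hmt : m * t * m⁻¹ = t ∨ m * t * m⁻¹ = a ∨ m * t * m⁻¹ = t * a := by
    have htP : t ∈ (P : Subgroup G) := hP ▸ Subgroup.subset_closure (by simp)
    rcases mem_klein F.ht F.ha F.hne F.hc (hP ▸ hmP t htP) with h | h | h | h
    · exact absurd (conj_eq_one_iff.1 h) (invol_ne_one F.ht)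
    · exact Or.inl h
    · exact Or.inr (Or.inl h)
    · exact Or.inr (Or.inr h)
  -- `e` preserves the centraliser of the four group
  have heD : ∀ d : O, Commute (d : G) a → ∃ d' : O, (d' : G) = e * d * e⁻¹ ∧ Commute (d' : G) a := by
    intro d hd
    have h1 : Commute (e * d * e⁻¹) a := by
      have := (F.cent d d.2).map (MulAut.conj e).toMonoidHom
      simpa [he.1] using this
    have h2 : Commute (e * d * e⁻¹) (t * a) := by
      have := hd.map (MulAut.conj e).toMonoidHom
      simpa [he.2] using this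
    have h3 : Commute (e * d * e⁻¹) t := by
      have := h2.mul_right h1
      rwa [show t * a * a = t by rw [mul_assoc, sq_eq_one F.ha, mul_one]] at this
    refine ⟨⟨_, F.odd_mem h3 ?_⟩, rfl, h1⟩
    rw [← MulAut.conj_apply, MulEquiv.orderOf_eq]
    exact F.hodd.of_dvd_nat (Subgroup.orderOf_dvd_natCard O d.2)
  -- elements fixing `t` and normalising the four group
  have hfixed : ∀ (k : G) (d d' : O), Commute k t → k * a * k⁻¹ ∈ (P : Subgroup G) → Commute (d : G) a →
      (d' : G) = k * d * k⁻¹ → θ d' = θ d := by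
    intro k d d' hk hka hd hd'
    obtain ⟨o, ho, hcase⟩ := F.cover k hk
    have hdd : ∀ v : G, Commute (d : G) v → k = o * v → θ d' = θ d := fun v hv e => by
      have h1 : d' = (⟨o, ho⟩ : O) * d * (⟨o, ho⟩ : O)⁻¹ := Subtype.ext (by
        rw [hd', e, show o * v * d * (o * v)⁻¹ = o * (v * d * v⁻¹) * o⁻¹ by group, ← hv.eq, mul_inv_cancel_right]
        rfl)
      rw [h1, map_mul, map_mul, map_inv, mul_right_comm, mul_inv_cancel, one_mul]
    rcases hcase with h | h | h | h
    · exact hdd 1 (Commute.one_right _) (by rw [h, mul_one])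
    · exact hdd t (F.cent d d.2) h
    · exact hdd a hd h
    · exact hdd (t * a) ((F.cent d d.2).mul_right hd) h
  have hma : m * a * m⁻¹ ∈ (P : Subgroup G) := hmP a (hP ▸ Subgroup.subset_closure (by simp))
  have he3 := he.third F.ha F.hc
  have hnorm : ∀ u ∈ (P : Subgroup G), e * u * e⁻¹ ∈ (P : Subgroup G) := by
    intro u hu
    rw [hP] at hu ⊢
    rcases mem_klein F.ht F.ha F.hne F.hc hu with rfl | rfl | rfl | rfl
    · simp
    · rw [he.1]; exact Subgroup.subset_closure (by simp)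
    · rw [he.2]; exact mul_mem (Subgroup.subset_closure (by simp)) (Subgroup.subset_closure (by simp))
    · rw [he3]; exact Subgroup.subset_closure (by simp)
  rcases hmt with h | h | h
  · exact hfixed m x y (mul_inv_eq_iff_eq_mul.1 h) hma hx hmxy.symm
  · -- `e e m` fixes `t`
    obtain ⟨y1, hy1, hy1a⟩ := heD y hy
    obtain ⟨y2, hy2, -⟩ := heD y1 hy1a
    rw [← hst y y1 hy hy1, ← hst y1 y2 hy1a hy2]
    refine hfixed (e * e * m) x y2 ?_ ?_ hx (by rw [hy2, hy1, ← hmxy]; group)
    · refine mul_inv_eq_iff_eq_mul.1 ?_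
      rw [show e * e * m * t * (e * e * m)⁻¹ = e * (e * (m * t * m⁻¹) * e⁻¹) * e⁻¹ by group, h, he.2, he3]
    · rw [show e * e * m * a * (e * e * m)⁻¹ = e * (e * (m * a * m⁻¹) * e⁻¹) * e⁻¹ by group]
      exact hnorm _ (hnorm _ hma)
  · obtain ⟨y1, hy1, -⟩ := heD y hy
    rw [← hst y y1 hy hy1]
    refine hfixed (e * m) x y1 ?_ ?_ hx (by rw [hy1, ← hmxy]; group)
    · refine mul_inv_eq_iff_eq_mul.1 ?_
      rw [show e * m * t * (e * m)⁻¹ = e * (m * t * m⁻¹) * e⁻¹ by group, h, he3]
    · rw [show e * m * a * (e * m)⁻¹ = e * (m * a * m⁻¹) * e⁻¹ by group]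
      exact hnorm _ hma

end Frame

end CfsgLib.GW.Klein
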