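import Cfsg.Agent.Lib.GW.Klein.Partial
import Cfsg.Agent.Lib.Block.LinearTwist
import Cfsg.Agent.Lib.Coprime.Fitting

/-!
# Case A for a four-group Sylow 2-subgroup: `T` of order `p² |X|`

`O = O(C(t))` centralises the cyclic parts of its cores inverted by `v`, so `C_O(v) = O(L)`, the quotient `L / O(L)`
is the simple component and `C(Y) ∩ O(L) = Y`.
-/

set_option autoImplicit false
set_option linter.unusedSectionVars false
set_option linter.style.haveILetI false

open Subgroup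
open CfsgLib.Coprime.BenderPair CfsgLib.Coprime.BenderUniqueness

namespace CfsgLib.GW.Klein

open CfsgLib.GW.CaseA

universe u

variable {G : Type u} [Group G] [Finite G]

/-- an element lies in a subgroup with its parts of prime power order -/
theorem mem_of_primary {S : Subgroup G} {w : G}
    (h : ∀ s : ℕ, s.Prime → ∀ z ∈ zpowers w, (∃ k, orderOf z = s ^ k) → z ∈ S) : w ∈ S := by
  have hw : S.subgroupOf (zpowers w) = ⊤ := by
    by_contra hne
    obtain ⟨s, hs, hsd⟩ := Nat.exists_prime_and_dvd (fun e => hne (index_eq_one.1 e))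
    haveI := Fact.mk hs
    obtain ⟨P⟩ : Nonempty (Sylow s (zpowers w)) := inferInstance
    refine P.not_dvd_index (hsd.trans (index_dvd_of_le fun x hx => mem_subgroupOf.2 (h s hs x x.2 ?_)))
    obtain ⟨k, hk⟩ := IsPGroup.iff_orderOf.1 P.2 ⟨x, hx⟩
    exact ⟨k, by rwa [Subgroup.orderOf_mk, ← Subgroup.orderOf_coe] at hk⟩
  exact (subgroupOf_eq_top.1 hw) (mem_zpowers w)

/-- in a cyclic group two subgroups of the same prime order agree -/
theorem mem_zpowers_of_orderOf {X : Type*} [Group X] [Finite X] {T : Subgroup X} [IsCyclic T] {a b : X} {r : ℕ}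
    (hr : 0 < r) (ha : a ∈ T) (hb : b ∈ T) (hao : orderOf a = r) (hbo : b ^ r = 1) : b ∈ zpowers a := by
  classical
  have hsub : ((zpowers a : Subgroup X) : Set X) ⊆ {y : X | y ∈ T ∧ y ^ r = 1} := fun y hy => by
    obtain ⟨i, rfl⟩ := mem_zpowers_iff.1 hy
    refine ⟨zpow_mem ha i, ?_⟩
    rw [← zpow_natCast, ← zpow_mul, mul_comm, zpow_mul, zpow_natCast, ← hao, pow_orderOf_eq_one, one_zpow]
  have heq := Set.eq_of_subset_of_ncard_le hsub ((ncard_pow_eq_one_le hr).trans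
    (le_of_eq (by rw [← Nat.card_coe_set_eq, Nat.card_congr (Equiv.refl _), ← hao, ← Nat.card_zpowers]; rfl)))
  exact heq.ge ⟨hb, hbo⟩

namespace KSetup

variable {t v : G} {p : ℕ} {L : Subgroup G} (hK : KSetup t v p L)
include hK

/-- a cycle of `⟨t, v⟩` inside `L` -/
theorem exists_cyc_L : ∃ e ∈ L, Cyc e t v := by
  classical
  have hS := hK.setup
  have hP := hS.part
  have ht := hP.hA.invol
  obtain ⟨g, hg, hgv⟩ := hS.v_tConj
  set w := g⁻¹ * t * g with hw
  have hwg : g * w * g⁻¹ = t := by rw [hw]; group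
  have hw2 : orderOf w = 2 := by
    rw [← ht, ← hwg, ← MulAut.conj_apply, MulEquiv.orderOf_eq]
  have hwt : Commute w t := by
    have h := hP.hc.map (MulAut.conj g⁻¹).toMonoidHom
    rw [← hgv] at h
    simpa [hw, mul_assoc] using h
  obtain ⟨h, hh, hcase⟩ := conj_into hP.hA.min hK.h8 (H := centL t L) ht hP.hv hP.hne hP.hc
    ⟨mem_centralizer_singleton_iff.2 rfl, hS.t_mem⟩ ⟨mem_centralizer_singleton_iff.2 hP.hc.symm.eq, hS.v_mem⟩
    hw2 ⟨mem_centralizer_singleton_iff.2 hwt.eq, by rw [hw]; exact L.mul_mem (L.mul_mem (L.inv_mem hg) hS.t_mem) hg⟩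
  have hht : h * t * h⁻¹ = t := mul_inv_eq_iff_eq_mul.2 (mem_centralizer_singleton_iff.1 hh.1)
  have het : g * h⁻¹ * t * (g * h⁻¹)⁻¹ = v := by
    calc g * h⁻¹ * t * (g * h⁻¹)⁻¹ = g * (h⁻¹ * t * h) * g⁻¹ := by group
      _ = g * (h⁻¹ * (h * t * h⁻¹) * h) * g⁻¹ := by rw [hht]
      _ = g * t * g⁻¹ := by group
      _ = v := hgv
  have hew : g * h⁻¹ * (h * w * h⁻¹) * (g * h⁻¹)⁻¹ = t := by
    rw [← hwg]; group
  refine ⟨g * h⁻¹, mul_mem hg (inv_mem hh.2), het, ?_⟩
  rcases hcase with e | e | e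
  · rw [e, het] at hew
    exact absurd hew.symm hP.hne
  · -- an element of odd order modulo `V` does not swap two involutions
    exfalso
    rw [e] at hew
    set x := g * h⁻¹
    set V := closure ({t, v} : Set G) with hV
    have hVK := Invol.isKleinFour_closure_pair ht hP.hv hP.hne hP.hc
    have hxV : x ∈ normalizer (V : Set G) := by
      have hmap : V.map (MulAut.conj x).toMonoidHom = V := by
        rw [hV, MonoidHom.map_closure]
        congr 1
        simp only [Set.image_insert_eq, Set.image_singleton, MulEquiv.coe_toMonoidHom, MulAut.conj_apply, het, hew]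
        exact Set.pair_comm v t
      refine mem_normalizer_iff.2 fun y => ?_
      conv_rhs => rw [← hmap]
      exact (mem_map_iff_mem (f := (MulAut.conj x).toMonoidHom) (MulAut.conj x).injective).symm
    set N := normalizer (V : Set G)
    haveI : (V.subgroupOf N).Normal := (normal_subgroupOf_iff_le_normalizer le_normalizer).2 le_rfl
    have hj : Odd (V.subgroupOf N).index := by
      by_contra hev
      rw [Nat.not_odd_iff_even, even_iff_two_dvd] at hev
      refine hK.h8 ((?_ : 8 ∣ Nat.card N).trans (card_subgroup_dvd_card N))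
      rw [← (V.subgroupOf N).card_mul_index, Nat.card_congr (subgroupOfEquivOfLe le_normalizer).toEquiv,
        hVK.card_four]
      exact Nat.mul_dvd_mul_left 4 hev
    obtain ⟨i, hi⟩ := hj
    have hmem := pow_index_mem (V.subgroupOf N) (⟨x, hxV⟩ : N)
    rw [mem_subgroupOf, Subgroup.coe_pow, hi] at hmem
    have hcomm : Commute (x ^ (2 * i + 1)) t := by
      rcases Invol.mem_klein ht hP.hv hP.hne hP.hc hmem with h | h | h | h <;> rw [h]
      exacts [Commute.one_left t, hP.hc.symm, (Commute.refl t).mul_left hP.hc.symm]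
    have h2 : Commute (x ^ (2 * i)) t := by
      rw [pow_mul]
      refine Commute.pow_left ((mul_inv_eq_iff_eq_mul.1 ?_)) i
      calc x ^ 2 * t * (x ^ 2)⁻¹ = x * (x * t * x⁻¹) * x⁻¹ := by rw [sq]; group
        _ = t := by rw [het, hew]
    refine hP.hne ?_
    rw [← het]
    refine (mul_inv_eq_iff_eq_mul.2 (Commute.eq ?_)).symm
    rw [show x = (x ^ (2 * i))⁻¹ * x ^ (2 * i + 1) by rw [pow_succ, inv_mul_cancel_left]]
    exact h2.inv_left.mul_left hcomm
  · rw [e, show g * h⁻¹ * (t * v) * (g * h⁻¹)⁻¹ =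
      (g * h⁻¹ * t * (g * h⁻¹)⁻¹) * (g * h⁻¹ * v * (g * h⁻¹)⁻¹) by group, het] at hew
    rw [hP.hc.eq]
    calc g * h⁻¹ * v * (g * h⁻¹)⁻¹ = v⁻¹ * (v * (g * h⁻¹ * v * (g * h⁻¹)⁻¹)) := (inv_mul_cancel_left _ _).symm
      _ = v⁻¹ * t := by rw [hew]
      _ = v * t := by rw [inv_eq_self hP.hv]

/-- `x⁻¹ e x e⁻¹ ∈ O(L)` for `x` in `C_O(v)` -/
theorem cyc_commutator {e x : G} (he : e ∈ L) (hcyc : Cyc e t v) (hx : x ∈ Ocore t) (hxv : Commute x v) :
    x⁻¹ * (e * x * e⁻¹) ∈ CaseB.ocN L := by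
  have hS := hK.setup
  have hP := hS.part
  have F := hK.frame
  obtain ⟨Fd, iF, jF, M, hMn, e', ε, ho, h5, hM, hC, -⟩ := hK.exists_field
  have hy := F.cyc_fixed hcyc hx hxv
  set y := e * x * e⁻¹
  set k := x⁻¹ * y
  have hxL : x ∈ L := hS.ocore_cent_le ⟨hx, mem_centralizer_singleton_iff.2 hxv.eq⟩
  have hyL : y ∈ L := hS.ocore_cent_le ⟨hy.1, mem_centralizer_singleton_iff.2 hy.2.eq⟩
  have hkL : k ∈ L := mul_mem (inv_mem hxL) hyL
  have hkO : k ∈ Ocore t := mul_mem (inv_mem hx) hy.1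
  have hkv : Commute k v := hxv.inv_left.mul_left hy.2
  have hkt : Commute k t := F.cent k hkO
  set π := QuotientGroup.mk' (Cfsg.oddCore L)
  have hD : π ⟨k, hkL⟩ ∈ diagPart M e' := by
    refine MonoidHom.mem_ker.2 ?_
    rw [show (⟨k, hkL⟩ : L) = ⟨x, hxL⟩⁻¹ * (⟨e, he⟩ * ⟨x, hxL⟩ * (⟨e, he⟩ : L)⁻¹) from rfl]
    simp only [map_mul, map_inv]
    rw [CfsgLib.AutPSL.ringAut_comm (fieldOn M e' (π ⟨e, he⟩)), mul_inv_cancel_right, inv_mul_cancel]
  have hodd : Odd (orderOf (π ⟨k, hkL⟩)) :=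
    orderOf_mk_odd hkL (CaseB.orderOf_odd_of_mem (odd_ocore t) hkO)
  have hto := orderOf_mk_two hS.t_mem hP.hA.invol
  have hvo := orderOf_mk_two hS.v_mem hP.hv
  have hctv := (show Commute (⟨t, hS.t_mem⟩ : L) ⟨v, hS.v_mem⟩ from Subtype.ext hP.hc.eq).map π
  have hntv : π ⟨t, hS.t_mem⟩ ≠ π ⟨v, hS.v_mem⟩ := fun h => hP.hne (congrArg Subtype.val
    (invol_lift_unique (odd_oddCore L) (u := (⟨t, hS.t_mem⟩ : L)) (v := ⟨v, hS.v_mem⟩)
      (by rw [Subgroup.orderOf_mk, hP.hA.invol]) (by rw [Subgroup.orderOf_mk, hP.hv])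
      (fun z hz => Subtype.ext (mem_centralizer_singleton_iff.1 (hS.fused.ocN_le ⟨z, hz, rfl⟩)).symm) h))
  rcases diag_cent_four M e' hS.dihTwo_quot hC (hS.two_ne_zero' ho) hto hvo hntv hctv hD
    ((show Commute (⟨k, hkL⟩ : L) ⟨t, hS.t_mem⟩ from Subtype.ext hkt.eq).map π)
    ((show Commute (⟨k, hkL⟩ : L) ⟨v, hS.v_mem⟩ from Subtype.ext hkv.eq).map π) with h | h | h | h
  · exact ⟨⟨k, hkL⟩, (QuotientGroup.eq_one_iff _).1 h, rfl⟩
  all_goals exfalso; rw [h] at hodd
  · exact absurd (hto ▸ hodd) (by decide)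
  · exact absurd (hvo ▸ hodd) (by decide)
  · exact absurd (invol_mul_of_commute hto hvo hntv hctv ▸ hodd) (by decide)

/-- **`O` centralises a cyclic normal subgroup of `C(t)` inside `L` inverted by `v`** -/
theorem commute_cyclic {C : Subgroup G} [IsCyclic C] (hCL : C ≤ Ocore t ⊓ L)
    (hn : centralizer ({t} : Set G) ≤ normalizer (C : Set G)) (hinv : ∀ c ∈ C, v * c * v⁻¹ = c⁻¹) :
    ∀ o ∈ Ocore t, ∀ c ∈ C, Commute o c := by
  classical
  have hS := hK.setup
  have hP := hS.part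
  have F := hK.frame
  letI := Fintype.ofFinite G
  letI := Fintype.ofFinite (Ocore t)
  set φ : Ocore t →* MulAut C :=
    (C.normalizerMonoidHom).comp (Subgroup.inclusion ((ocore_le t).trans hn)) with hφ
  have hval : ∀ (o : Ocore t) (c : C), ((φ o c : C) : G) = (o : G) * c * (o : G)⁻¹ := fun o c => rfl
  by_contra hnot
  push Not at hnot
  obtain ⟨o, ho, c, hc, hoc⟩ := hnot
  have hne : φ ⟨o, ho⟩ ≠ 1 := fun h => hoc (mul_inv_eq_iff_eq_mul.1 (by
    have h1 : o * c * o⁻¹ = ((φ ⟨o, ho⟩ ⟨c, hc⟩ : C) : G) := (hval ⟨o, ho⟩ ⟨c, hc⟩).symm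
    rw [h1, h]
    rfl))
  obtain ⟨ψ, hψ⟩ : ∃ ψ : φ.range →* ℂˣ, ψ ⟨_, ⟨o, ho⟩, rfl⟩ ≠ 1 := by
    refine CfsgLib.Block.exists_linear_ne_one fun h => hne ?_
    have hbot : commutator φ.range = ⊥ := by
      rw [commutator_def, commutator_eq_bot_iff_le_centralizer]
      intro a _
      refine mem_centralizer_iff.2 fun b _ => Subtype.ext ?_
      exact aut_comm_of_cyclic (b : MulAut C) (a : MulAut C)
    rw [hbot, mem_bot] at h
    exact congrArg Subtype.val h
  set θ : Ocore t →* ℂˣ := ψ.comp φ.rangeRestrict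
  have hfix : ∀ x, θ (F.conjA x) = θ x := fun x => by
    simp only [θ, MonoidHom.comp_apply]
    congr 1
    refine Subtype.ext (MulEquiv.ext fun a => Subtype.ext ?_)
    show ((φ (F.conjA x) a : C) : G) = ((φ x a : C) : G)
    rw [hval, hval, F.conjA_val]
    have ha : v⁻¹ * (a : G) * v = (a : G)⁻¹ := by
      rw [inv_eq_self hP.hv]
      have := hinv a a.2
      rwa [inv_eq_self hP.hv] at this
    calc v * (x : G) * v⁻¹ * a * (v * (x : G) * v⁻¹)⁻¹ = v * ((x : G) * (v⁻¹ * a * v) * (x : G)⁻¹) * v⁻¹ := by group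
      _ = v * ((x : G) * a * (x : G)⁻¹)⁻¹ * v⁻¹ := by rw [ha]; group
      _ = (x : G) * a * (x : G)⁻¹ := by
        rw [hinv _ (inv_mem ((mem_normalizer_iff.1 (hn (ocore_le t x.2)) a).1 a.2)), inv_inv]
  obtain ⟨e, he, hcyc⟩ := hK.exists_cyc_L
  have hstab : ∀ x y : Ocore t, Commute (x : G) v → (y : G) = e * x * e⁻¹ → θ x = θ y := by
    intro x y hx hy
    have hk := hK.cyc_commutator he hcyc x.2 hx
    rw [← hy] at hk
    have h1 : φ (x⁻¹ * y) = 1 := MulEquiv.ext fun a => Subtype.ext (by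
      rw [hval]
      show (x : G)⁻¹ * y * a * ((x : G)⁻¹ * y)⁻¹ = (a : G)
      have := mem_centralizer_iff.1 (hS.inverted_mem_cent (hCL a.2).2
        (CaseB.orderOf_odd_of_mem (odd_ocore t) (hCL a.2).1) (hinv a a.2)) _ hk
      rw [this, mul_inv_cancel_right])
    rw [map_mul, map_inv, inv_mul_eq_one] at h1
    simp only [θ, MonoidHom.comp_apply]
    exact congrArg ψ (Subtype.ext h1)
  have hθ : θ ≠ 1 := fun h => hψ (DFunLike.congr_fun h ⟨o, ho⟩)
  have h1 := index_congr hP.hA F hP.prime hP.odd hP.moved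
  have h2 : (p : ℤ) ∣ ((centralizer ({t} : Set G)).index : ℤ) := Int.natCast_dvd_natCast.2
    (F.dvd_index_of_linear hP.hA.min hK.h8 hcyc θ θ θ hθ hfix hfix hfix hstab hstab hP.prime
      (dvd_relIndex hP.hA F hP.prime hP.odd hP.moved))
  have h3 := dvd_sub h2 h1
  rw [sub_sub_cancel] at h3
  exact hP.prime.not_dvd_one (by exact_mod_cast h3)

end KSetup

end CfsgLib.GW.Klein
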