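import Cfsg.Agent.Lib.GW.Klein.MidFacts

/-!
# Case A for a four-group Sylow 2-subgroup, `T` of order `p² |X|`: `C(Y) ∩ O(L) = Y`

The elements of `O` acting trivially on `T / X` form a nilpotent normal subgroup of `C(t)`, so their Sylow
`p`-subgroup lies in `T`.
-/

set_option autoImplicit false
set_option linter.unusedSectionVars false
set_option linter.style.haveILetI false

open Subgroup
open CfsgLib.Coprime.BenderPair CfsgLib.Coprime.BenderUniqueness

namespace CfsgLib.GW.Klein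

open CfsgLib.GW.CaseA

universe u

variable {G : Type u} [Group G] [Finite G]

namespace KMid

variable {t v : G} {p : ℕ} {L : Subgroup G} (hM : KMid t v p L)
include hM

/-- `T / X` is abelian -/
theorem commutator_T_mem {a b : G} (ha : a ∈ coreAt p t) (hb : b ∈ coreAt p t) :
    a * b * a⁻¹ * b⁻¹ ∈ hM.k.setup.invPart := by
  have hS := hM.k.setup
  haveI := Fact.mk hS.part.prime
  have hXT : hM.k.setup.invPart ≤ coreAt p t := fun y hy => hy.1.1
  set X := hM.k.setup.invPart.subgroupOf (coreAt p t) with hX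
  haveI : X.Normal := (normal_subgroupOf_iff_le_normalizer hXT).2 ((coreAt_le p t).trans hM.mid.norm)
  have hq : Nat.card (coreAt p t ⧸ X) = p ^ 2 := by
    have h1 := X.card_eq_card_quotient_mul_card_subgroup
    rw [hM.mid.cardT, hX, Nat.card_congr (subgroupOfEquivOfLe hXT).toEquiv] at h1
    exact (Nat.eq_of_mul_eq_mul_right Nat.card_pos h1).symm
  have hcom := (IsPGroup.commGroupOfCardEqPrimeSq hq).mul_comm
  refine mem_subgroupOf.1 ((QuotientGroup.eq_one_iff (N := X)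
    ((⟨a, ha⟩ : coreAt p t) * ⟨b, hb⟩ * (⟨a, ha⟩ : coreAt p t)⁻¹ * (⟨b, hb⟩ : coreAt p t)⁻¹)).1 ?_)
  show QuotientGroup.mk' X _ = 1
  rw [map_mul, map_mul, map_mul, map_inv, map_inv]
  exact mul_inv_eq_one.2 (mul_inv_eq_iff_eq_mul.2 (hcom _ _))

/-- what centralises every core is centralised by `O` -/
theorem commute_of_commute_cores {w o : G} (hw : w ∈ Ocore t)
    (h : ∀ q : ℕ, q.Prime → q ≠ 2 → ∀ y ∈ coreAt q t, Commute y w) (ho : o ∈ Ocore t) : Commute o w := by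
  have hS := hM.k.setup
  have hP := hS.part
  haveI := Fact.mk hP.prime
  refine (mem_centralizer_singleton_iff.1 (mem_of_primary (S := centralizer ({o} : Set G)) fun s hs z hz hzs =>
    mem_centralizer_singleton_iff.2 (Commute.eq ?_)) : w * o = o * w).symm
  haveI := Fact.mk hs
  obtain ⟨i, rfl⟩ := mem_zpowers_iff.1 hz
  have hzO : w ^ i ∈ Ocore t := zpow_mem hw i
  have hzc : ∀ q : ℕ, q.Prime → q ≠ 2 → ∀ y ∈ coreAt q t, Commute y (w ^ i) :=
    fun q hq hq2 y hy => (h q hq hq2 y hy).zpow_right i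
  have hzT := mem_coreAt_of_commute (s := s) hzO hzs hzc
  rcases eq_or_ne s 2 with rfl | hs2
  · obtain ⟨k, hk⟩ := hzs
    rcases Nat.eq_zero_or_pos k with rfl | hk0
    · rw [orderOf_eq_one_iff.1 (hk.trans (pow_zero 2))]
      exact Commute.one_left o
    · exact absurd (hk ▸ CaseB.orderOf_odd_of_mem (odd_ocore t) hzO)
        (Nat.not_odd_iff_even.2 ((Nat.even_pow' hk0.ne').2 even_two))
  rcases eq_or_ne s p with rfl | hsp
  · -- the centre of `T` is in `X`
    have hzA : w ^ i ∈ coreAt s t ⊓ L := hS.inf_L_eq ▸ ⟨hzT, mem_centralizer_iff.2 fun y hy =>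
      (hzc s hs hs2 y (mem_fixAt.1 hy).1).eq⟩
    obtain ⟨y, hy, x, hx, hyx⟩ := hS.exists_mul_invPart hzA
    have hy1 : y = 1 := by
      by_contra hy1
      refine hM.not_le fun u hu => hS.mem_of_commute (commute_coreAt hu) hy hy1 ?_
      have hux : Commute u x := hM.commute_invPart hx (coreAt_le_ocore hs2 t hu)
      have huy : Commute u (y * x * x⁻¹) := (hyx ▸ hzc s hs hs2 u hu).mul_right hux.inv_right
      rwa [mul_inv_cancel_right] at huy
    rw [hyx, hy1, one_mul]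
    exact (hM.commute_invPart hx ho).symm
  · exact (hM.commute_core hs hs2 hsp hzT ho).symm

/-- the elements of `O` trivial on `T / X` -/
def transPart : Subgroup G where
  carrier := {o | o ∈ Ocore t ∧ ∀ w ∈ coreAt p t, o * w * o⁻¹ * w⁻¹ ∈ hM.k.setup.invPart}
  one_mem' := ⟨one_mem _, fun w _ => by simp⟩
  mul_mem' {a b} ha hb := ⟨mul_mem ha.1 hb.1, fun w hw => by
    have h1 : a * (b * w * b⁻¹ * w⁻¹) = (b * w * b⁻¹ * w⁻¹) * a := (hM.commute_invPart (hb.2 w hw) ha.1).eq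
    rw [show a * b * w * (a * b)⁻¹ * w⁻¹ = (b * w * b⁻¹ * w⁻¹) * (a * w * a⁻¹ * w⁻¹) by
      calc a * b * w * (a * b)⁻¹ * w⁻¹ = a * (b * w * b⁻¹ * w⁻¹) * (w * a⁻¹ * w⁻¹) := by group
        _ = _ := by rw [h1]; group]
    exact mul_mem (hb.2 w hw) (ha.2 w hw)⟩
  inv_mem' {a} ha := ⟨inv_mem ha.1, fun w hw => by
    have h1 : a⁻¹ * (a * w * a⁻¹ * w⁻¹) = (a * w * a⁻¹ * w⁻¹) * a⁻¹ :=
      (hM.commute_invPart (ha.2 w hw) (inv_mem ha.1)).eq
    rw [show a⁻¹ * w * a⁻¹⁻¹ * w⁻¹ = (a * w * a⁻¹ * w⁻¹)⁻¹ by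
      calc a⁻¹ * w * a⁻¹⁻¹ * w⁻¹ = (a * w * a⁻¹ * w⁻¹)⁻¹ * (((a * w * a⁻¹ * w⁻¹) * a⁻¹) * (w * a * w⁻¹)) := by group
        _ = _ := by rw [← h1]; group]
    exact inv_mem (ha.2 w hw)⟩

theorem mem_transPart {o : G} : o ∈ hM.transPart ↔
    o ∈ Ocore t ∧ ∀ w ∈ coreAt p t, o * w * o⁻¹ * w⁻¹ ∈ hM.k.setup.invPart := Iff.rfl

theorem le_normalizer_transPart : centralizer ({t} : Set G) ≤ normalizer (hM.transPart : Set G) := by
  refine le_normalizer_of_conj_mem fun g hg o ho => hM.mem_transPart.2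
    ⟨(mem_normalizer_iff.1 (centralizer_le_normalizer_ocore t hg) o).1 ho.1, fun w hw => ?_⟩
  have hw' : g⁻¹ * w * g ∈ coreAt p t :=
    (mem_normalizer_iff''.1 (mem_normalizer_coreAt (mem_centralizer_singleton_iff.1 hg)) w).1 hw
  have h := (mem_normalizer_iff.1 (hM.mid.norm hg) _).1 (ho.2 _ hw')
  rwa [show g * (o * (g⁻¹ * w * g) * o⁻¹ * (g⁻¹ * w * g)⁻¹) * g⁻¹ =
    g * o * g⁻¹ * w * (g * o * g⁻¹)⁻¹ * w⁻¹ by group] at h

theorem isNilpotent_transPart : Group.IsNilpotent hM.transPart := by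
  set Q := hM.transPart
  have hP := hM.k.setup.part
  haveI := Fact.mk hP.prime
  haveI : IsMulCommutative (Q ⧸ center Q) := ⟨⟨fun a b => by
    obtain ⟨c, rfl⟩ := QuotientGroup.mk'_surjective _ a
    obtain ⟨d, rfl⟩ := QuotientGroup.mk'_surjective _ b
    rw [← map_mul, ← map_mul, QuotientGroup.mk'_eq_mk']
    refine ⟨(c * d)⁻¹ * (d * c), mem_center_iff.2 fun g => Subtype.ext ?_, mul_inv_cancel_left _ _⟩
    have hcore : ∀ q : ℕ, q.Prime → q ≠ 2 → ∀ y ∈ coreAt q t,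
        Commute y (((c * d)⁻¹ * (d * c) : Q) : G) := by
      intro q hq hq2 y hy
      rcases eq_or_ne q p with rfl | hqp
      · have h1 := c.2.2 y hy
        have h2 := d.2.2 y hy
        set f1 := (c : G) * y * (c : G)⁻¹ * y⁻¹ with hf1
        set f2 := (d : G) * y * (d : G)⁻¹ * y⁻¹ with hf2
        have hc2 : (c : G) * f2 = f2 * c := (hM.commute_invPart h2 c.2.1).eq
        have hd1 : (d : G) * f1 = f1 * d := (hM.commute_invPart h1 d.2.1).eq
        have hf : f1 * f2 = f2 * f1 := (hM.commute_invPart h2 (coreAt_le_ocore hq2 t h1.1.1)).eq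
        have e1 : (c : G) * d * y * ((c : G) * d)⁻¹ = f2 * f1 * y := by
          calc (c : G) * d * y * ((c : G) * d)⁻¹ = ((c : G) * f2) * y * (c : G)⁻¹ := by rw [hf2]; group
            _ = f2 * f1 * y := by rw [hc2, hf1]; group
        have e2 : (d : G) * c * y * ((d : G) * c)⁻¹ = f1 * f2 * y := by
          calc (d : G) * c * y * ((d : G) * c)⁻¹ = ((d : G) * f1) * y * (d : G)⁻¹ := by rw [hf1]; group
            _ = f1 * f2 * y := by rw [hd1, hf2]; group
        rw [hf, ← e1] at e2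
        push_cast
        show y * (((c : G) * d)⁻¹ * ((d : G) * c)) = ((c : G) * d)⁻¹ * ((d : G) * c) * y
        calc y * (((c : G) * d)⁻¹ * ((d : G) * c))
            = ((c : G) * d)⁻¹ * ((c : G) * d * y * ((c : G) * d)⁻¹) * ((d : G) * c) := by group
          _ = ((c : G) * d)⁻¹ * ((d : G) * c * y * ((d : G) * c)⁻¹) * ((d : G) * c) := by rw [e2]
          _ = ((c : G) * d)⁻¹ * ((d : G) * c) * y := by group
      · exact (hM.commute_core hq hq2 hqp hy (((c * d)⁻¹ * (d * c) : Q)).2.1).symm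
    exact (hM.commute_of_commute_cores (((c * d)⁻¹ * (d * c) : Q)).2.1 hcore g.2.1).eq⟩⟩
  letI : CommGroup (Q ⧸ center Q) :=
    { (inferInstance : Group (Q ⧸ center Q)) with mul_comm := fun a b => mul_comm' a b }
  exact Group.of_quotient_center_nilpotent inferInstance

/-- a `p`-element trivial on `T / X` lies in `T` -/
theorem mem_core_of_trans {z : G} (hz : z ∈ hM.transPart) (hzp : ∃ k, orderOf z = p ^ k) : z ∈ coreAt p t := by
  haveI := Fact.mk hM.k.setup.part.prime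
  set Q := hM.transPart
  haveI := hM.isNilpotent_transPart
  obtain ⟨k, hk⟩ := hzp
  obtain ⟨P, hP⟩ := (IsPGroup.of_card (n := k) (by rw [Nat.card_zpowers, Subgroup.orderOf_mk, hk]) :
    IsPGroup p (zpowers (⟨z, hz⟩ : Q))).exists_le_sylow
  haveI hPn : (P : Subgroup Q).Normal := Sylow.normal_of_normalizerCondition Group.normalizerCondition_of_isNilpotent P
  haveI : (P : Subgroup Q).Characteristic := P.characteristic_of_normal hPn
  refine le_opc (A := (P : Subgroup Q).map Q.subtype) (P.2.map _) ?_ ?_ ⟨⟨z, hz⟩, hP (mem_zpowers _), rfl⟩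
  · exact (map_subtype_le _).trans fun o ho => ocore_le t ho.1
  · exact hM.le_normalizer_transPart.trans (CfsgLib.PGroup.le_normalizer_map_char _)

/-- **`C(Y) ∩ O(L) = Y`** -/
theorem mem_fixAt_of_ocN {x : G} (hx : x ∈ CaseB.ocN L) (hxY : x ∈ centralizer (fixAt p t v : Set G)) :
    x ∈ fixAt p t v := by
  have hS := hM.k.setup
  have hP := hS.part
  haveI := Fact.mk hP.prime
  refine mem_of_primary fun s hs z hz hzs => ?_
  haveI := Fact.mk hs
  have hzK : z ∈ CaseB.ocN L := zpowers_le.2 hx hz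
  have hzY : ∀ y ∈ fixAt p t v, Commute y z := fun y hy => mem_centralizer_iff.1 (zpowers_le.2 hxY hz) y hy
  have hzodd : Odd (orderOf z) := CaseB.orderOf_odd_of_mem (CaseB.odd_ocN L) hzK
  have hzt : Commute z t := hS.commute_ocN_t hzK
  have hzO : z ∈ Ocore t := mem_ocore hP.hA.min hP.hA.invol hzt hzodd
  obtain ⟨k, hk⟩ := hzs
  rcases eq_or_ne z 1 with rfl | hz1
  · exact one_mem _
  have hs2 : s ≠ 2 := fun e => by
    rw [hk, e] at hzodd
    rcases Nat.eq_zero_or_pos k with rfl | hk0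
    · exact hz1 (orderOf_eq_one_iff.1 (by rw [hk, pow_zero]))
    · exact Nat.not_odd_iff_even.2 ((Nat.even_pow' hk0.ne').2 even_two) hzodd
  have hA : ∀ a ∈ coreAt p t ⊓ L, Commute a z := fun a ha => by
    obtain ⟨y, hy, w, hw, rfl⟩ := hS.exists_mul_invPart ha
    exact (hzY y hy).mul_left (hM.commute_invPart hw hzO).symm
  rcases eq_or_ne s p with rfl | hsp
  · refine hS.mem_fixAt_iff.2 ⟨hM.mem_core_of_trans (hM.mem_transPart.2 ⟨hzO, fun u hu => ?_⟩) ⟨k, hk⟩, hzK⟩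
    obtain ⟨y, i, hy, hi, hyv, hiv, rfl⟩ := exists_fixed_mul_inverted hP.hv (mem_normalizer_coreAt hP.hc.symm) hu
      (CaseB.odd_card_of_pGroup hP.odd (isPGroup_coreAt s t))
    set a := z * i * z⁻¹ * i⁻¹ with ha
    have hTA : coreAt s t ≤ normalizer ((coreAt s t ⊓ L : Subgroup G) : Set G) :=
      fun w hw => (hM.mid.core_le_centA hw).2
    have haA : a ∈ coreAt s t ⊓ L := commutator_mem_of_index inf_le_left hTA hM.mid.index
      (mem_normalizer_coreAt hzt) (CfsgLib.Coprime.inf_le_normalizer (A := zpowers z)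
        (zpowers_le.2 (mem_normalizer_coreAt hzt)) (zpowers_le.2 (le_normalizer (map_subtype_le _ hzK)))
        (mem_zpowers z)) ⟨k, hk⟩ hi
    have hyz : Commute y z := hzY y (mem_fixAt.2 ⟨hy, hyv⟩)
    have hay : y * a * y⁻¹ = a :=
      mul_inv_eq_iff_eq_mul.2 (hS.commute_inf_L ⟨hy, hS.fixAt_le (mem_fixAt.2 ⟨hy, hyv⟩)⟩ haA).eq
    rw [show z * (y * i) * z⁻¹ * (y * i)⁻¹ = a by
      calc z * (y * i) * z⁻¹ * (y * i)⁻¹ = (z * y) * (i * z⁻¹ * i⁻¹ * y⁻¹) := by group
        _ = y * a * y⁻¹ := by rw [← hyz.eq, ha]; group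
        _ = a := hay]
    -- the fixed part of `a` is trivial
    obtain ⟨y1, hy1, x1, hx1, hax⟩ := hS.exists_mul_invPart haA
    have hzv : v * z * v⁻¹ = z := mul_inv_eq_iff_eq_mul.2 (hS.commute_ocN_v hzK).eq.symm
    set i' := z * i * z⁻¹
    have hi'T : i' ∈ coreAt s t := (mem_normalizer_iff.1 (mem_normalizer_coreAt hzt) i).1 hi
    have hi'v : v * i' * v⁻¹ = i'⁻¹ := by
      calc v * i' * v⁻¹ = (v * z * v⁻¹) * (v * i * v⁻¹) * (v * z * v⁻¹)⁻¹ := by simp only [i']; group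
        _ = i'⁻¹ := by rw [hzv, hiv]; simp only [i']; group
    have h1 : a * (v * a * v⁻¹) = i' * i⁻¹ * i'⁻¹ * i := by
      have : v * a * v⁻¹ = i'⁻¹ * i := by
        rw [show a = i' * i⁻¹ from rfl, show v * (i' * i⁻¹) * v⁻¹ = (v * i' * v⁻¹) * (v * i * v⁻¹)⁻¹ by group,
          hi'v, hiv, inv_inv]
      rw [this, show a = i' * i⁻¹ from rfl]
      group
    have hmemX : a * (v * a * v⁻¹) ∈ hS.invPart := by
      rw [h1]
      have := hM.commutator_T_mem hi'T (inv_mem hi)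
      rwa [inv_inv] at this
    have hy1A : y1 ∈ coreAt s t ⊓ L := ⟨(mem_fixAt.1 hy1).1, hS.fixAt_le hy1⟩
    have h2 : a * (v * a * v⁻¹) = y1 * y1 := by
      have hvy : v * y1 * v⁻¹ = y1 := mul_inv_eq_iff_eq_mul.2 (mem_fixAt.1 hy1).2.eq.symm
      rw [hax, show v * (y1 * x1) * v⁻¹ = (v * y1 * v⁻¹) * (v * x1 * v⁻¹) by group, hvy, hx1.2,
        show y1 * x1 * (y1 * x1⁻¹) = y1 * (x1 * y1) * x1⁻¹ by group,
        (hS.commute_inf_L hx1.1 hy1A).eq]
      group
    have hy11 : y1 * y1 = 1 :=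
      hS.disjoint_invPart (h2 ▸ hmemX) (mul_mem (hS.fixAt_le_ocN hy1) (hS.fixAt_le_ocN hy1))
    have hy10 : y1 = 1 := by
      obtain ⟨j, hj⟩ := CaseB.orderOf_odd_of_mem (CaseB.odd_card_of_pGroup hP.odd (isPGroup_coreAt s t)) hy1A.1
      have h := pow_orderOf_eq_one y1
      rwa [hj, pow_succ, pow_mul, sq, hy11, one_pow, one_mul] at h
    rw [hax, hy10, one_mul]
    exact hx1
  · exfalso
    have hcores : ∀ q : ℕ, q.Prime → q ≠ 2 → ∀ y ∈ coreAt q t, Commute y z :=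
      hS.commute_core_of_inf hzt (by
        rw [hk]
        exact ((Nat.coprime_primes hs hP.prime).2 hsp).pow_left k) fun q hq hq2 y hy hyL => by
        rcases eq_or_ne q p with rfl | hqp
        · exact hA y ⟨hy, hyL⟩
        · exact (hM.commute_core hq hq2 hqp hy hzO).symm
    have hzT := mem_coreAt_of_commute (s := s) hzO ⟨k, hk⟩ hcores
    exact hz1 (hS.eq_one_of_inverted_ocN hzK (hM.inverted_core hs hs2 hsp hzT))

end KMid

end CfsgLib.GW.Klein
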