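import Cfsg.Agent.Lib.GW.Klein.Mid

/-!
# Case A for a four-group Sylow 2-subgroup, `T` of order `p² |X|`: the structure of `L` and of `C(Y)`

`C_O(v) = O(L)`, the quotient `L / O(L)` is the component and `C(Y) ∩ O(L) = Y`.
-/

set_option autoImplicit false
set_option linter.unusedSectionVars false
set_option linter.style.haveILetI false

open Subgroup
open CfsgLib.Coprime.BenderPair CfsgLib.Coprime.BenderUniqueness

namespace CfsgLib.GW.Klein

open CfsgLib.GW.CaseA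

universe u

variable {G : Type u} [Group G] [Finite G]

/-- a `p`-element normalising `T` and a normal subgroup of index `p` acts trivially on the quotient -/
theorem commutator_mem_of_index {p : ℕ} [Fact p.Prime] {T A : Subgroup G} (hAT : A ≤ T)
    (hTA : T ≤ normalizer (A : Set G)) (hidx : A.relIndex T = p) {z : G} (hzT : z ∈ normalizer (T : Set G))
    (hzA : z ∈ normalizer (A : Set G)) (hz : ∃ k, orderOf z = p ^ k) {w : G} (hw : w ∈ T) :
    z * w * z⁻¹ * w⁻¹ ∈ A := by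
  classical
  set A' := A.subgroupOf T
  haveI : A'.Normal := (normal_subgroupOf_iff_le_normalizer hAT).2 hTA
  have hle : zpowers z ≤ normalizer (T : Set G) ⊓ normalizer (A : Set G) := zpowers_le.2 ⟨hzT, hzA⟩
  let act : zpowers z → T ⧸ A' → T ⧸ A' := fun g => Quotient.map'
    (fun x => (⟨(g : G) * x * (g : G)⁻¹, (mem_normalizer_iff.1 (hle g.2).1 x).1 x.2⟩ : T)) (by
      intro a b hab
      rw [QuotientGroup.leftRel_apply, mem_subgroupOf] at hab ⊢
      have h := (mem_normalizer_iff.1 (hle g.2).2 _).1 hab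
      show ((g : G) * a * (g : G)⁻¹)⁻¹ * ((g : G) * b * (g : G)⁻¹) ∈ A
      rwa [show ((g : G) * a * (g : G)⁻¹)⁻¹ * ((g : G) * b * (g : G)⁻¹) =
        (g : G) * (((a⁻¹ * b : T) : G)) * (g : G)⁻¹ by push_cast; group])
  letI : MulAction (zpowers z) (T ⧸ A') :=
    { smul := act
      one_smul := fun q => Quotient.inductionOn' q fun x => congrArg Quotient.mk'' (Subtype.ext
        (show ((1 : zpowers z) : G) * x * ((1 : zpowers z) : G)⁻¹ = x by simp))
      mul_smul := fun g h q => Quotient.inductionOn' q fun x => congrArg Quotient.mk'' (Subtype.ext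
        (show ((g * h : zpowers z) : G) * x * ((g * h : zpowers z) : G)⁻¹ =
          (g : G) * ((h : G) * x * (h : G)⁻¹) * (g : G)⁻¹ by rw [Subgroup.coe_mul]; group)) }
  obtain ⟨k, hk⟩ := hz
  have hpz : IsPGroup p (zpowers z) := IsPGroup.of_card (n := k) (by rw [Nat.card_zpowers, hk])
  have hmod := hpz.card_modEq_card_fixedPoints (T ⧸ A')
  have hcard : Nat.card (T ⧸ A') = p := hidx
  set S := MulAction.fixedPoints (zpowers z) (T ⧸ A')
  have h1 : (QuotientGroup.mk 1 : T ⧸ A') ∈ S := fun g => congrArg Quotient.mk'' (Subtype.ext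
    (show (g : G) * ((1 : T) : G) * (g : G)⁻¹ = ((1 : T) : G) by simp))
  haveI : Nonempty S := ⟨⟨_, h1⟩⟩
  have hpd : p ∣ Nat.card S := by
    rw [hcard] at hmod
    exact Nat.modEq_zero_iff_dvd.1 (hmod.symm.trans (Nat.modEq_zero_iff_dvd.2 dvd_rfl))
  have hS : S = Set.univ := by
    refine Set.eq_univ_of_forall fun q => ?_
    by_contra hq
    have hlt : S.ncard < (Set.univ : Set (T ⧸ A')).ncard :=
      Set.ncard_lt_ncard ⟨Set.subset_univ S, fun h => hq (h (Set.mem_univ q))⟩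
    rw [Set.ncard_univ, hcard, ← Nat.card_coe_set_eq] at hlt
    exact absurd (Nat.le_of_dvd Nat.card_pos hpd) (not_le.2 hlt)
  have h2 := (hS.ge (Set.mem_univ (QuotientGroup.mk (⟨w, hw⟩ : T)))) ⟨z, mem_zpowers z⟩
  have h3 := mem_subgroupOf.1 (QuotientGroup.eq.1 h2.symm)
  have h4 : w⁻¹ * (z * w * z⁻¹) ∈ A := h3
  have h5 := (mem_normalizer_iff.1 (hTA hw) _).1 h4
  rwa [show w * (w⁻¹ * (z * w * z⁻¹)) * w⁻¹ = z * w * z⁻¹ * w⁻¹ by group] at h5

/-- `T` has order `p² |X|` -/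
structure KMid (t v : G) (p : ℕ) (L : Subgroup G) : Prop where
  k : KSetup t v p L
  mid : Mid t v p L k.setup.invPart

namespace KMid

variable {t v : G} {p : ℕ} {L : Subgroup G} (hM : KMid t v p L)
include hM

theorem not_le : ¬ coreAt p t ≤ L := fun h => by
  have h1 := hM.mid.index
  rw [inf_eq_left.2 h, relIndex_self] at h1
  exact hM.k.setup.part.prime.one_lt.ne h1

/-- the other cores are inverted by `v` -/
theorem inverted_core {q : ℕ} (hq : q.Prime) (hq2 : q ≠ 2) (hqp : q ≠ p) {x : G} (hx : x ∈ coreAt q t) :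
    v * x * v⁻¹ = x⁻¹ := by
  have hS := hM.k.setup
  haveI := Fact.mk hq
  haveI := Fact.mk hS.part.prime
  have hP := hS.part
  have hfix : fixAt q t v = ⊥ := by
    by_contra hne
    have hS' := hS.setup_other hq hq2 hqp hne
    exact hM.not_le fun y hy => hS'.centralizer_le (mem_centralizer_iff.2 fun w hw =>
      (commute_opc hqp hy (mem_fixAt.1 hw).1).eq.symm)
  obtain ⟨y, k, hy, -, hyv, hkv, rfl⟩ := exists_fixed_mul_inverted hP.hv (mem_normalizer_coreAt hP.hc.symm) hx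
    (CaseB.odd_card_of_pGroup hq2 (isPGroup_coreAt q t))
  rw [show y = 1 from mem_bot.1 (hfix ▸ (mem_fixAt.2 ⟨hy, hyv⟩ : y ∈ fixAt q t v)), one_mul]
  exact hkv

/-- **`O` centralises what `v` inverts in the cores inside `L`** -/
theorem commute_inverted {q : ℕ} (hq : q.Prime) (hq2 : q ≠ 2) {x : G} (hx : x ∈ coreAt q t) (hxL : x ∈ L)
    (hxv : v * x * v⁻¹ = x⁻¹) {o : G} (ho : o ∈ Ocore t) : Commute o x := by
  have hS := hM.k.setup
  have hP := hS.part
  haveI := Fact.mk hq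
  haveI := Fact.mk hP.prime
  rcases eq_or_ne q p with rfl | hqp
  · haveI := hS.isCyclic_invPart
    exact hM.k.commute_cyclic (C := hS.invPart)
      (fun y hy => ⟨coreAt_le_ocore hP.odd t (hS.invPart_le hy).1, (hS.invPart_le hy).2⟩) hM.mid.norm
      (fun y hy => hy.2) o ho x ⟨⟨hx, hxL⟩, hxv⟩
  · haveI : IsCyclic (coreAt q t) := hS.isCyclic_of_disjoint hq hq2 le_rfl (hS.core_le hq hq2 hqp)
      fun y hy hyK => hS.eq_one_of_inverted_ocN hyK (hM.inverted_core hq hq2 hqp hy)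
    exact hM.k.commute_cyclic (le_inf (coreAt_le_ocore hq2 t) (hS.core_le hq hq2 hqp))
      (le_normalizer_opc q _) (fun y hy => hM.inverted_core hq hq2 hqp hy) o ho x hx

theorem commute_invPart {x o : G} (hx : x ∈ hM.k.setup.invPart) (ho : o ∈ Ocore t) : Commute o x :=
  hM.commute_inverted hM.k.setup.part.prime hM.k.setup.part.odd hx.1.1 hx.1.2 hx.2 ho

theorem commute_core {q : ℕ} (hq : q.Prime) (hq2 : q ≠ 2) (hqp : q ≠ p) {x o : G} (hx : x ∈ coreAt q t)
    (ho : o ∈ Ocore t) : Commute o x :=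
  hM.commute_inverted hq hq2 hx (hM.k.setup.core_le hq hq2 hqp hx) (hM.inverted_core hq hq2 hqp hx) ho

/-- **`C_O(v) = O(L)`** -/
theorem fixed_mem_ocN {x : G} (hx : x ∈ Ocore t) (hxv : Commute x v) : x ∈ CaseB.ocN L := by
  classical
  have hK := hM.k
  have hS := hK.setup
  have hP := hS.part
  obtain ⟨F, iF, jF, M, hMn, e, ε, ho, h5, hMs, hC, -⟩ := hK.exists_field
  have hxL : x ∈ L := hS.ocore_cent_le ⟨hx, mem_centralizer_singleton_iff.2 hxv.eq⟩
  set π := QuotientGroup.mk' (Cfsg.oddCore L) with hπ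
  refine ⟨⟨x, hxL⟩, (QuotientGroup.eq_one_iff _).1 ?_, rfl⟩
  show π ⟨x, hxL⟩ = 1
  by_contra hne
  obtain ⟨s, hs, hsd⟩ := Nat.exists_prime_and_dvd (fun e => hne (orderOf_eq_one_iff.1 e))
  haveI := Fact.mk hs
  set m := orderOf (π ⟨x, hxL⟩) / s
  have hψo : orderOf (π ⟨x ^ m, pow_mem hxL m⟩) = s := by
    rw [show (⟨x ^ m, pow_mem hxL m⟩ : L) = ⟨x, hxL⟩ ^ m from rfl, map_pow,
      orderOf_pow_of_dvd (Nat.div_pos (Nat.le_of_dvd (orderOf_pos _) hsd) hs.pos).ne' (Nat.div_dvd_of_dvd hsd),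
      Nat.div_div_self hsd (orderOf_pos _).ne']
  have hzO : x ^ m ∈ Ocore t := pow_mem hx m
  have hzL : x ^ m ∈ L := pow_mem hxL m
  have hzodd : Odd (orderOf (x ^ m)) := CaseB.orderOf_odd_of_mem (odd_ocore t) hzO
  have hs2 : s ≠ 2 := fun e => by
    have h := orderOf_mk_odd (K := Cfsg.oddCore L) hzL hzodd
    rw [hψo, e] at h
    exact absurd h (by decide)
  have hzt : Commute (π ⟨x ^ m, hzL⟩) (π ⟨t, hS.t_mem⟩) :=
    (show Commute (⟨x ^ m, hzL⟩ : L) ⟨t, hS.t_mem⟩ from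
      Subtype.ext (mem_centralizer_singleton_iff.1 (ocore_le t hzO))).map π
  have hzv : Commute (π ⟨x ^ m, hzL⟩) (π ⟨v, hS.v_mem⟩) :=
    (show Commute (⟨x ^ m, hzL⟩ : L) ⟨v, hS.v_mem⟩ from Subtype.ext (hxv.pow_left m).eq).map π
  have hmem : π ⟨x ^ m, hzL⟩ ∈ M := by
    refine mem_of_commute_torus M e hS.dihTwo_quot hC ho h5 hs2 (orderOf_mk_two hS.t_mem hP.hA.invol)
      (hS.t_mem_component ho hC e) hzt ⟨1, by rw [hψo, pow_one]⟩ fun y hy hyt hyo hyr _ => ?_
    set r := orderOf y with hr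
    haveI := Fact.mk hyr
    have hr2 : r ≠ 2 := fun e => by rw [e] at hyo; exact absurd hyo (by decide)
    obtain ⟨N, -, hcard, -, hN⟩ := hS.exists_tor ho hC e
    have hrb : r ∣ fixIndex t v L := hcard ▸ Subgroup.orderOf_dvd_natCard N ((hN y).2 ⟨hy, hyo, hyt⟩)
    obtain ⟨c, hc, hcL, hc1, hcv⟩ := hS.exists_inverted_core hyr hr2 (hS.core_ne_bot_of_dvd hyr hrb)
    have hcodd : Odd (orderOf c) := orderOf_odd hr2 (isPGroup_coreAt r t) hc
    set c' := π ⟨c, hcL⟩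
    have hc'1 : c' ≠ 1 := fun h => hc1 (hS.eq_one_of_inverted_image hcL hcv h)
    obtain ⟨j, hj⟩ : ∃ j, orderOf c' = r ^ j := by
      obtain ⟨k, hk⟩ := IsPGroup.iff_orderOf.1 (isPGroup_coreAt r t) ⟨c, hc⟩
      rw [Subgroup.orderOf_mk] at hk
      obtain ⟨j, -, hj⟩ := (Nat.dvd_prime_pow hyr).1 (show orderOf c' ∣ r ^ k from
        (orderOf_map_dvd _ _).trans (by rw [Subgroup.orderOf_mk, hk]))
      exact ⟨j, hj⟩
    obtain ⟨j, rfl⟩ := Nat.exists_eq_succ_of_ne_zero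
      (fun h : j = 0 => hc'1 (orderOf_eq_one_iff.1 (by rw [hj, h, pow_zero])))
    have hc'o : orderOf (c' ^ r ^ j) = r := by
      rw [orderOf_pow_of_dvd (pow_ne_zero _ hyr.ne_zero) (hj ▸ pow_dvd_pow r j.le_succ), hj,
        Nat.pow_div j.le_succ hyr.pos, Nat.succ_sub le_rfl, Nat.sub_self, pow_one]
    obtain ⟨T0, hT0, hmemT⟩ := psl_torus_cyclic M e hS.dihTwo_quot hC (hS.two_ne_zero' ho)
      (orderOf_mk_two hS.t_mem hP.hA.invol)
    haveI := hT0
    have hc'D : c' ∈ diagPart M e :=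
      le_diagPart M e (hS.inverted_mem_component ho hC e hcL hcodd hcv)
    have hc'T : c' ∈ T0 := hmemT _ hc'D (orderOf_mk_odd hcL hcodd)
      ((show Commute (⟨c, hcL⟩ : L) ⟨t, hS.t_mem⟩ from Subtype.ext (commute_coreAt hc).eq).map π)
    obtain ⟨i, hi⟩ := mem_zpowers_iff.1 (mem_zpowers_of_orderOf hyr.pos (pow_mem hc'T _)
      (hmemT y (le_diagPart M e hy) hyo hyt) hc'o (hr ▸ pow_orderOf_eq_one y))
    rw [← hi]
    exact (((show Commute (⟨x ^ m, hzL⟩ : L) ⟨c, hcL⟩ from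
      Subtype.ext (hM.commute_inverted hyr hr2 hc hcL hcv hzO).eq).map π).pow_right _).zpow_right i
  have h1 := hS.component_fixed_eq_one ho hC e hmem (orderOf_mk_odd hzL hzodd) hzt hzv
  rw [h1, orderOf_one] at hψo
  exact hs.one_lt.ne hψo

/-- **`L / O(L)` is the component** -/
theorem mk_mem_component {F : Type} [Field F] [Fintype F] {M : Subgroup (L ⧸ Cfsg.oddCore L)} [M.Normal]
    (ho : Odd (Fintype.card F)) (hC : centralizer (M : Set (L ⧸ Cfsg.oddCore L)) = ⊥)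
    (e : M ≃* Matrix.ProjectiveSpecialLinearGroup (Fin 2) F) (g : L ⧸ Cfsg.oddCore L) : g ∈ M := by
  have hS := hM.k.setup
  set π := QuotientGroup.mk' (Cfsg.oddCore L) with hπ
  have hto := orderOf_mk_two hS.t_mem hS.part.hA.invol
  have htM := hS.t_mem_component ho hC e
  have hvM := hS.tConj_mem ho hC e hS.v_tConj hS.v_mem
  obtain ⟨c, hc, m, hm, rfl⟩ := cent_sup_eq_top M e hto htM g
  refine mul_mem hm ?_
  obtain ⟨s, rfl, hst⟩ := exists_comm_lift (odd_oddCore L) (u := (⟨t, hS.t_mem⟩ : L))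
    (by rw [Subgroup.orderOf_mk, hS.part.hA.invol]) (mem_centralizer_singleton_iff.1 hc)
  obtain ⟨o, hoO, hcase⟩ := hM.k.frame.cover (s : G) (congrArg Subtype.val hst.eq)
  have hoL : ∀ u : G, u ∈ L → (s : G) = o * u → o ∈ L := fun u hu h => by
    rw [show o = (s : G) * u⁻¹ by rw [h, mul_inv_cancel_right]]
    exact mul_mem s.2 (inv_mem hu)
  have key : ∀ ho' : o ∈ L, π ⟨o, ho'⟩ ∈ M := fun ho' => by
    obtain ⟨y, k, hy, hk, hyv, hkv, hyk⟩ := hS.exists_factor_ocore (x := o) ⟨hoO, ho'⟩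
    have h1 : π ⟨y, hy.2⟩ = 1 := by
      obtain ⟨y', hy', hyy'⟩ := hM.fixed_mem_ocN hy.1 hyv
      refine (QuotientGroup.eq_one_iff _).2 ?_
      rwa [show (⟨y, hy.2⟩ : L) = y' from Subtype.ext hyy'.symm]
    rw [show (⟨o, ho'⟩ : L) = ⟨y, hy.2⟩ * ⟨k, hk.2⟩ from Subtype.ext hyk, map_mul, h1, one_mul]
    exact hS.inverted_mem_component ho hC e hk.2 (hS.odd_of_mem hk) hkv
  rcases hcase with h | h | h | h
  · have := key (hoL 1 (one_mem L) (by rw [mul_one]; exact h))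
    rwa [show s = (⟨o, hoL 1 (one_mem L) (by rw [mul_one]; exact h)⟩ : L) from Subtype.ext h]
  · have ho' := hoL t hS.t_mem h
    rw [show s = (⟨o, ho'⟩ : L) * ⟨t, hS.t_mem⟩ from Subtype.ext h, map_mul]
    exact mul_mem (key ho') htM
  · have ho' := hoL v hS.v_mem h
    rw [show s = (⟨o, ho'⟩ : L) * ⟨v, hS.v_mem⟩ from Subtype.ext h, map_mul]
    exact mul_mem (key ho') hvM
  · have ho' := hoL (t * v) (mul_mem hS.t_mem hS.v_mem) h
    rw [show s = (⟨o, ho'⟩ : L) * (⟨t, hS.t_mem⟩ * ⟨v, hS.v_mem⟩) from Subtype.ext h, map_mul, map_mul]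
    exact mul_mem (key ho') (mul_mem htM hvM)

end KMid

end CfsgLib.GW.Klein
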