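import Cfsg.Agent.Lib.GW.Klein.Partial

/-!
# Case A for a four-group Sylow 2-subgroup: the first and the last shape of `T`

With `T ∩ L` normal in `C(t)` the incidence count contradicts the bound for the index; with an abelian normal
complement to `Y` the elements of `O(C(t))` inverted by `v` commute.
-/

set_option autoImplicit false
set_option linter.unusedSectionVars false
set_option linter.style.haveILetI false

open Subgroup
open CfsgLib.Coprime.BenderPair CfsgLib.Coprime.BenderUniqueness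

namespace CfsgLib.GW.Klein

open CfsgLib.GW.CaseA

universe u

variable {G : Type u} [Group G] [Finite G]

/-- the count with `T ∩ L` normal -/
theorem alpha_false {n nL k p b S r : ℕ} {ε : ℤ} (hk : 3 ≤ k) (hkp : k ≤ p) (hpb : p ∣ b) (hb : 0 < b)
    (hε : ε = 1 ∨ ε = -1) (hr : (r : ℤ) = 4 * b + ε) (hS : (S : ℤ) = r * (2 * b + ε))
    (hn : n ≤ 15 * (k * b) ^ 2) (heq : nL * S = n * k) (hle : (k - 1) * S ≤ nL - 1) : False := by
  have hkb : k ≤ b := hkp.trans (Nat.le_of_dvd hb hpb)
  have hk' : (3 : ℤ) ≤ k := by exact_mod_cast hk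
  have hkb' : (k : ℤ) ≤ b := by exact_mod_cast hkb
  have hS6 : 6 * (b : ℤ) ^ 2 ≤ S := by
    rw [hS, hr]
    rcases hε with rfl | rfl <;> nlinarith
  have hb9 : (9 : ℤ) ≤ (b : ℤ) ^ 2 := by nlinarith
  have hS0 : 0 < S := by
    have : (0 : ℤ) < S := by linarith
    exact_mod_cast this
  have h1 : (k - 1) * (S * S) ≤ n * k := by
    calc (k - 1) * (S * S) = ((k - 1) * S) * S := by ring
      _ ≤ nL * S := Nat.mul_le_mul_right S (hle.trans (Nat.sub_le _ _))
      _ = n * k := heq
  have h2 : (k - 1) * (S * S) ≤ 15 * (k * b) ^ 2 * k := h1.trans (Nat.mul_le_mul_right k hn)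
  have h3 : ((k : ℤ) - 1) * ((S : ℤ) * S) ≤ 15 * ((k : ℤ) * b) ^ 2 * k := by
    have h := Int.ofNat_le.2 h2
    push_cast [show 1 ≤ k by omega] at h
    exact h
  have h4 : ((k : ℤ) - 1) * (36 * (b : ℤ) ^ 4) ≤ 15 * (k : ℤ) * (b : ℤ) ^ 4 := by
    have h5 : (36 : ℤ) * (b : ℤ) ^ 4 ≤ (S : ℤ) * S := by
      have := mul_le_mul hS6 hS6 (by positivity) (by linarith)
      linarith
    calc ((k : ℤ) - 1) * (36 * (b : ℤ) ^ 4) ≤ ((k : ℤ) - 1) * ((S : ℤ) * S) :=
          mul_le_mul_of_nonneg_left h5 (by linarith)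
      _ ≤ 15 * ((k : ℤ) * b) ^ 2 * k := h3
      _ = 15 * (k : ℤ) * ((k : ℤ) ^ 2 * (b : ℤ) ^ 2) := by ring
      _ ≤ 15 * (k : ℤ) * (b : ℤ) ^ 4 := by
          refine mul_le_mul_of_nonneg_left ?_ (by linarith)
          have : (k : ℤ) ^ 2 ≤ (b : ℤ) ^ 2 := pow_le_pow_left₀ (by linarith) hkb' 2
          nlinarith
  have h6 : (21 * (k : ℤ) - 36) * (b : ℤ) ^ 4 ≤ 0 := by linarith
  nlinarith [pow_pos (show (0 : ℤ) < b by linarith) 4]

namespace KSetup

variable {t v : G} {p : ℕ} {L : Subgroup G} (hK : KSetup t v p L)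
include hK

/-- **the incidence count** -/
theorem incidence
    (hA : centralizer ({t} : Set G) ≤ normalizer ((coreAt p t ⊓ L : Subgroup G) : Set G) ∨
      (Nat.card (coreAt p t) = p ^ 2 * Nat.card hK.setup.invPart ∧
        centralizer ({t} : Set G) ≤ normalizer (hK.setup.invPart : Set G))) :
    L.index * Nat.card (tConj t L) =
        (centralizer ({t} : Set G)).index * (centL t L).relIndex (centralizer ({t} : Set G)) ∧
      ((centL t L).relIndex (centralizer ({t} : Set G)) - 1) * Nat.card (tConj t L) ≤ L.index - 1 :=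
  incidence_count hK.setup.part.hA.invol hK.setup.t_mem hK.inner (hK.setup.meet_unique hK.inner hA)

/-- **`T ∩ L` is not normal in `C(t)`** -/
theorem not_normal : ¬ centralizer ({t} : Set G) ≤ normalizer ((coreAt p t ⊓ L : Subgroup G) : Set G) := by
  intro hn
  have hS := hK.setup
  haveI := Fact.mk hS.part.prime
  letI := Fintype.ofFinite G
  letI := Fintype.ofFinite (Ocore t)
  obtain ⟨F, iF, jF, M, hMn, e, ε, ho, h5, hM, hC, hε, -, hr, hSc⟩ := hK.exists_field
  obtain ⟨heq, hle⟩ := hK.incidence (Or.inl hn)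
  set k := (centL t L).relIndex (centralizer ({t} : Set G)) with hk
  have hkp : k ≤ p := by
    refine Nat.lt_succ_iff.1 (lt_of_le_of_ne (hS.relIndex_le_of_normal hn) fun h => ?_)
    have hodd : Odd k := hK.odd_relIndex
    rw [h] at hodd
    exact Nat.not_even_iff_odd.2 hodd (hS.part.prime.odd_of_ne_two hS.part.odd).add_one
  have hpb : p ∣ fixIndex t v L := hS.dvd_fixIndex hS.part.prime hS.part.odd hS.loc.core_ne_bot
  obtain ⟨σ, hσ, hnσ⟩ := hK.frame.principal_equation hS.part.hA.min hK.h8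
  rw [hK.fixed_relIndex, ← hk] at hnσ
  refine alpha_false (n := (centralizer ({t} : Set G)).index) hK.three_le_relIndex hkp hpb hS.odd_fixIndex.pos hε hr
    hSc ?_ heq hle
  have h1 : ((centralizer ({t} : Set G)).index : ℚ) * (8 / 15) ≤ 8 * ((k * fixIndex t v L : ℕ) : ℚ) ^ 2 := by
    rw [← hnσ]
    exact mul_le_mul_of_nonneg_left hσ (by positivity)
  have h2 : ((centralizer ({t} : Set G)).index : ℚ) ≤ ((15 * (k * fixIndex t v L) ^ 2 : ℕ) : ℚ) := by
    push_cast at h1 ⊢
    linarith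
  exact_mod_cast h2

/-- **no abelian normal complement to `Y`** -/
theorem false_of_big {B : Subgroup G} (hB : Big t v p L B) : False := by
  have hS := hK.setup
  have hP := hS.part
  refine false_of_split hP.hA hK.h8 hK.frame hP.prime hP.odd hP.moved (fun x hx y hy => ?_) ?_
  · have key : ∀ z ∈ Spor.JFourType.invSet v (Ocore t), z ∈ bigF p t B := by
      intro z hz
      obtain ⟨d, c, hd, hdv, hc, rfl⟩ := hB.exists_factor_F hz.1
      have h1 : v * d * v⁻¹ = d := mul_inv_eq_iff_eq_mul.2 hdv.eq.symm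
      have h2 : d * c⁻¹ = c⁻¹ * d⁻¹ := by
        rw [← _root_.mul_inv_rev, ← hz.2, show v * (d * c) * v⁻¹ = (v * d * v⁻¹) * (v * c * v⁻¹) by group, h1,
          hB.inv_F hc]
      have hinv : c * d * c⁻¹ = d⁻¹ := by
        rw [mul_assoc, h2, mul_inv_cancel_left]
      have hcodd : Odd (orderOf c) := CaseB.orderOf_odd_of_mem (odd_ocore t) (hB.F_le_ocore hc)
      have hcd : Commute d c := CaseB.commute_of_sq hcodd (by
        have h3 : c * c * d * (c * c)⁻¹ = d := by
          calc c * c * d * (c * c)⁻¹ = c * (c * d * c⁻¹) * c⁻¹ := by group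
            _ = c * d⁻¹ * c⁻¹ := by rw [hinv]
            _ = (c * d * c⁻¹)⁻¹ := by group
            _ = d := by rw [hinv, inv_inv]
        rw [sq]
        exact (mul_inv_eq_iff_eq_mul.1 h3).symm)
      have hd1 : d = 1 := CaseB.eq_one_of_inv_fix hinv hcd.symm (CaseB.orderOf_odd_of_mem (odd_ocore t) hd)
      rw [hd1, one_mul]
      exact hc
    exact hB.comm_F (key x hx) (key y hy)
  · obtain ⟨x, hx, hx1, hxv⟩ := hP.fixed
    haveI := Fact.mk hP.prime
    exact ⟨x, coreAt_le_ocore hP.odd t hx, hx1, hxv⟩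

end KSetup

end CfsgLib.GW.Klein
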