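import Cfsg.Agent.Lib.GW.Klein.MidIso
import Cfsg.Agent.Lib.GW.Klein.PartialShapes
import Cfsg.Agent.Lib.GW.KleinBetaApply

/-!
# Case A for a four-group Sylow 2-subgroup, `T` of order `p² |X|`: the contradiction
-/

set_option autoImplicit false
set_option linter.unusedSectionVars false
set_option linter.style.haveILetI false

open Subgroup
open CfsgLib.Coprime.BenderPair CfsgLib.Coprime.BenderUniqueness

namespace CfsgLib.GW.Klein

open CfsgLib.GW.CaseA

universe u

variable {G : Type u} [Group G] [Finite G]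

namespace KMid

variable {t v : G} {p : ℕ} {L : Subgroup G} (hM : KMid t v p L)
include hM

/-- `|Y| = p`, so every element but `1` generates `Y` -/
theorem zpowers_eq {y : G} (hy : y ∈ fixAt p t v) (hy1 : y ≠ 1) : zpowers y = fixAt p t v := by
  refine eq_of_le_of_card_ge (zpowers_le.2 hy) (le_of_eq ?_)
  have hd := Subgroup.orderOf_dvd_natCard (fixAt p t v) hy
  rw [hM.mid.cardY] at hd
  rw [hM.mid.cardY, Nat.card_zpowers]
  exact (((Nat.dvd_prime hM.k.setup.part.prime).1 hd).resolve_left fun h => hy1 (orderOf_eq_one_iff.1 h)).symm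

/-- `|C(t) : C(t) ∩ N(T ∩ L)| p = k` -/
theorem relIndex_eq : (centL t L).relIndex (centralizer ({t} : Set G)) =
    p * (centA p t L).relIndex (centralizer ({t} : Set G)) := by
  rw [← relIndex_mul_relIndex _ _ _ (centL_le_centA p t L) (centA_le p t L), hM.mid.centA_eq.2]

theorem odd_R : Odd ((centA p t L).relIndex (centralizer ({t} : Set G))) :=
  hM.k.odd_relIndex.of_dvd_nat (Dvd.intro_left p hM.relIndex_eq.symm)

theorem R_le : (centA p t L).relIndex (centralizer ({t} : Set G)) ≤ p := by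
  refine Nat.lt_succ_iff.1 (lt_of_le_of_ne hM.mid.bound fun h => ?_)
  have hodd := hM.odd_R
  rw [h] at hodd
  exact Nat.not_even_iff_odd.2 hodd (hM.k.setup.part.prime.odd_of_ne_two hM.k.setup.part.odd).add_one

/-- the exceptional numbers do not occur -/
theorem not_exceptional : ¬ (p = 3 ∧ (centA p t L).relIndex (centralizer ({t} : Set G)) = 3 ∧
    fixIndex t v L = 3) := by
  classical
  rintro ⟨hp3, hR, hb⟩
  have hS := hM.k.setup
  have hP := hS.part
  haveI := Fact.mk hP.prime
  have F := hM.k.frame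
  set O := Ocore t
  set D := O ⊓ centralizer ({v} : Set G)
  -- `C_O(v) = Y`
  have hD : D = fixAt p t v := by
    refine le_antisymm (fun x hx => ?_) fun x hx =>
      ⟨coreAt_le_ocore hP.odd t (mem_fixAt.1 hx).1, mem_centralizer_singleton_iff.2 (mem_fixAt.1 hx).2.eq⟩
    have hxv : Commute x v := mem_centralizer_singleton_iff.1 hx.2
    have hxK := hM.fixed_mem_ocN hx.1 hxv
    refine hM.mem_fixAt_of_ocN hxK (mem_centralizer_iff.2 fun y hy => ?_)
    by_cases hy1 : y = 1
    · rw [hy1, one_mul, mul_one]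
    have hxL : x ∈ L := map_subtype_le _ hxK
    have hxN : x * y * x⁻¹ ∈ fixAt p t v :=
      (mem_normalizer_iff.1 (hS.eq_normalizer ▸ hxL) y).1 hy
    rw [← hM.zpowers_eq hy hy1] at hxN
    have hyo : orderOf y = 3 := by
      rw [← Nat.card_zpowers, hM.zpowers_eq hy hy1, hM.mid.cardY, hp3]
    rw [(isOfFinOrder_of_finite y).mem_zpowers_iff_mem_range_orderOf] at hxN
    simp only [hyo, Finset.mem_image, Finset.mem_range] at hxN
    obtain ⟨i, hi, hiy⟩ := hxN
    interval_cases i
    · rw [pow_zero] at hiy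
      exact absurd (conj_eq_one_iff.1 hiy.symm) hy1
    · rw [pow_one] at hiy
      exact (mul_inv_eq_iff_eq_mul.1 hiy.symm).symm
    · have hinv : y ^ 2 = y⁻¹ := eq_inv_of_mul_eq_one_left (by rw [← pow_succ]; show y ^ 3 = 1; exact orderOf_dvd_iff_pow_eq_one.1 hyo.dvd)
      rw [hinv] at hiy
      have hcomm : Commute y x := CaseB.commute_of_sq (CaseB.orderOf_odd_of_mem (odd_ocore t) hx.1) (by
        rw [sq]
        refine (mul_inv_eq_iff_eq_mul.1 ?_).symm
        calc x * x * y * (x * x)⁻¹ = x * (x * y * x⁻¹) * x⁻¹ := by group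
          _ = x * y⁻¹ * x⁻¹ := by rw [← hiy]
          _ = (x * y * x⁻¹)⁻¹ := by group
          _ = y := by rw [← hiy, inv_inv])
      exact hcomm.eq
  -- so `O` has order `81`
  have h81 : Nat.card O = 3 ^ 4 := by
    have h1 := ((O ⊓ L).subgroupOf O).card_mul_index
    have h2 := (D.subgroupOf (O ⊓ L)).card_mul_index
    rw [Nat.card_congr (subgroupOfEquivOfLe (inf_le_left : O ⊓ L ≤ O)).toEquiv] at h1
    rw [Nat.card_congr (subgroupOfEquivOfLe (le_inf inf_le_left hS.ocore_cent_le : D ≤ O ⊓ L)).toEquiv] at h2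
    change Nat.card D * fixIndex t v L = Nat.card (O ⊓ L : Subgroup G) at h2
    change Nat.card (O ⊓ L : Subgroup G) * (O ⊓ L).relIndex O = Nat.card O at h1
    rw [← h1, ← h2, hb, hD, hM.mid.cardY, ← hM.k.centL_relIndex, hM.relIndex_eq, hR, hp3]
    norm_num
  have hOT : O ≤ coreAt p t :=
    le_opc (IsPGroup.of_card (n := 4) (by rw [h81, hp3])) (ocore_le t) (centralizer_le_normalizer_ocore t)
  have hle : centralizer ({t} : Set G) ≤ centA p t L := fun g hg => by
    obtain ⟨o, ho, hcase⟩ := F.cover g (mem_centralizer_singleton_iff.1 hg)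
    have ho' := hM.mid.core_le_centA (hOT ho)
    have ht' : t ∈ centA p t L := centL_le_centA p t L ⟨mem_centralizer_singleton_iff.2 rfl, hS.t_mem⟩
    have hv' : v ∈ centA p t L :=
      centL_le_centA p t L ⟨mem_centralizer_singleton_iff.2 hP.hc.symm.eq, hS.v_mem⟩
    rcases hcase with rfl | rfl | rfl | rfl
    exacts [ho', mul_mem ho' ht', mul_mem ho' hv', mul_mem ho' (mul_mem ht' hv')]
  rw [relIndex_eq_one.2 hle] at hR
  omega

/-- **the contradiction** -/
theorem false_of_mid : False := by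
  classical
  have hK := hM.k
  have hS := hK.setup
  have hP := hS.part
  have hA := hP.hA
  haveI := hA.min.simple
  haveI := Fact.mk hP.prime
  have F := hK.frame
  letI := Fintype.ofFinite G
  letI := Fintype.ofFinite (Ocore t)
  obtain ⟨Fd, iF, jF, M, hMn, e, ε, ho, h5, hMs, hC, hε, hinv, hr, hSc⟩ := hK.exists_field
  obtain ⟨φ⟩ := hM.exists_iso ho hMs hC e hε hinv hr hSc
  obtain ⟨⟨y, hy⟩, hy1'⟩ := (Subgroup.ne_bot_iff_exists_ne_one).1 hP.fixAt_ne_bot
  have hy1 : y ≠ 1 := fun h => hy1' (Subtype.ext h)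
  have hCy : centralizer ({y} : Set G) = centralizer (fixAt p t v : Set G) := by
    conv_rhs => rw [← hM.zpowers_eq hy hy1, zpowers_eq_closure, centralizer_closure]
  obtain ⟨P, hPV⟩ := F.sylow_four hA.min hK.h8
  have hcyc : ¬ IsCyclic G := fun h => hA.min.not_solvable (Group.isSolvable_of_comm fun a b => by
    obtain ⟨g, hg⟩ := h.exists_generator
    obtain ⟨i, rfl⟩ := mem_zpowers_iff.1 (hg a)
    obtain ⟨j, rfl⟩ := mem_zpowers_iff.1 (hg b)
    rw [← zpow_add, ← zpow_add, add_comm])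
  have hyO : y ∈ Ocore t := coreAt_le_ocore hP.odd t (mem_fixAt.1 hy).1
  obtain ⟨k, hk⟩ := IsPGroup.iff_orderOf.1 (isPGroup_coreAt p t) ⟨y, (mem_fixAt.1 hy).1⟩
  rw [Subgroup.orderOf_mk] at hk
  set R := (centA p t L).relIndex (centralizer ({t} : Set G))
  have hx : (Ocore t ⊓ centralizer ({v} : Set G)).relIndex (Ocore t) = p * R * fixIndex t v L := by
    rw [hK.fixed_relIndex, hM.relIndex_eq]
  refine klein_beta_contradiction hcyc P (hA.min.klein_sylow hK.h8 P)
    (fun s u hs hu => isConj_iff.2 (hA.min.isConj_invol hs hu)) (hPV ▸ subset_closure (by simp) : t ∈ _) hA.invol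
    hP.odd (isPGroup_coreAt p t) (fun x hx => commute_coreAt hx)
    (fun u hu h => fixed_only hA F hP.prime hP.odd hP.moved hu h) ⟨k, hk⟩
    (Cfsg.oddCore (centralizer ({t} : Set G))) (odd_oddCore _) hyO ((isPGroup_coreAt p t).to_le inf_le_left)
    (fun a b => Subtype.ext (hS.commute_fixAt a.2 b.2).eq) ((MulEquiv.subgroupCongr hCy).trans φ)
    hM.odd_R hM.R_le hS.odd_fixIndex (hS.dvd_fixIndex hP.prime hP.odd hS.loc.core_ne_bot) hε hr hx.symm.symm
    hM.not_exceptional F.card_cent (hPV ▸ F.card_cent_four) ?_ ?_ fun q hq hqb => hK.index_modEq hq hqb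
  · have h := ((Ocore t ⊓ centralizer ({v} : Set G)).subgroupOf (Ocore t)).card_mul_index
    rw [Nat.card_congr (subgroupOfEquivOfLe (inf_le_left : Ocore t ⊓ centralizer ({v} : Set G) ≤ Ocore t)).toEquiv]
      at h
    rw [← h, relIndex, mul_comm]
  · obtain ⟨heq, -⟩ := hK.incidence (Or.inr ⟨hM.mid.cardT, hM.mid.norm⟩)
    rw [hM.relIndex_eq] at heq
    rw [← heq]
    refine Dvd.dvd.mul_left ?_ _
    have hd : (Fintype.card Fd : ℤ) ∣ (Nat.card (tConj t L) : ℤ) := ⟨_, hSc⟩
    exact_mod_cast hd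

end KMid

end CfsgLib.GW.Klein
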