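import Cfsg.Agent.Lib.GW.Klein.MidCent
import Mathlib.GroupTheory.Transfer

/-!
# Case A for a four-group Sylow 2-subgroup, `T` of order `p² |X|`: `C(Y) ≅ Y × PSL(2, q)`

`C(Y)` maps onto the component with kernel `Y`; a torus preimage is abelian of index prime to `p`, and the transfer
into it splits `Y` off.
-/

set_option autoImplicit false
set_option linter.unusedSectionVars false
set_option linter.style.haveILetI false

open Subgroup
open CfsgLib.Coprime.BenderPair CfsgLib.Coprime.BenderUniqueness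

namespace CfsgLib.GW.Klein

open CfsgLib.GW.CaseA

universe u

/-- a central subgroup of order `p` of an extension of a simple group splits off, given an abelian subgroup over
it of index prime to `p` -/
theorem split_central {H M : Type*} [Group H] [Group M] [Finite H] [IsSimpleGroup M] {Y : Type*} [Group Y]
    {p : ℕ} (hp : p.Prime) (hY : Nat.card Y = p) (ι : Y →* H) (hι : Function.Injective ι) (π : H →* M)
    (hπ : Function.Surjective π) (hker : ∀ h, π h = 1 ↔ h ∈ ι.range) (hZ : ι.range ≤ center H) (W : Subgroup H)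
    (hW : ∀ a ∈ W, ∀ b ∈ W, Commute a b) (hidx : ¬ p ∣ W.index) (hW1 : W.index ≠ 1) :
    Nonempty (H ≃* Y × M) := by
  classical
  haveI := Fact.mk hp
  haveI : IsMulCommutative W := ⟨⟨fun a b => Subtype.ext (hW a a.2 b b.2).eq⟩⟩
  letI : CommGroup W := { (inferInstance : Group W) with mul_comm := fun a b => mul_comm' a b }
  set τ : H →* W := MonoidHom.transfer (MonoidHom.id W)
  have hord : ∀ y : Y, (ι y) ^ p = 1 := fun y => by
    rw [← map_pow, show y ^ p = 1 from hY ▸ pow_card_eq_one', map_one]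
  have hτ : ∀ y : Y, (τ (ι y) : H) = ι y ^ W.index := fun y => by
    have hc : ∀ g : H, g * ι y = ι y * g := mem_center_iff.1 (hZ ⟨y, rfl⟩)
    have hkey : ∀ (k : ℕ) (g₀ : H), g₀⁻¹ * ι y ^ k * g₀ ∈ W → g₀⁻¹ * ι y ^ k * g₀ = ι y ^ k := fun k g _ => by
      rw [mul_assoc, ((show Commute g (ι y) from hc g).pow_right k).symm.eq, inv_mul_cancel_left]
    exact congrArg Subtype.val (MonoidHom.transfer_eq_pow (MonoidHom.id W) (ι y) hkey)
  have hinj : ∀ y : Y, τ (ι y) = 1 → ι y = 1 := fun y h => by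
    have h1 : ι y ^ W.index = 1 := by rw [← hτ y, h]; rfl
    exact orderOf_eq_one_iff.1 (Nat.eq_one_of_dvd_coprimes (hp.coprime_iff_not_dvd.2 hidx)
      (orderOf_dvd_of_pow_eq_one (hord y)) (orderOf_dvd_of_pow_eq_one h1))
  set P := τ.ker
  set f := π.comp P.subtype
  have hfinj : Function.Injective f := (injective_iff_map_eq_one f).2 fun x hx => by
    obtain ⟨y, hy⟩ := (hker (x : H)).1 hx
    exact Subtype.ext (hy.symm.trans (hinj y (by rw [hy]; exact x.2)))
  haveI : f.range.Normal := by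
    rw [show f.range = P.map π by rw [MonoidHom.range_comp, Subgroup.range_subtype]]
    exact Subgroup.Normal.map inferInstance π hπ
  have hsurj : Function.Surjective f := by
    rw [← MonoidHom.range_eq_top]
    rcases (inferInstance : f.range.Normal).eq_bot_or_eq_top with h | h
    · exfalso
      have hP : P = ⊥ := (eq_bot_iff_forall P).2 fun x hx => by
        have h0 : f ⟨x, hx⟩ = 1 := mem_bot.1 (h ▸ ⟨⟨x, hx⟩, rfl⟩)
        exact congrArg Subtype.val (hfinj (h0.trans (map_one f).symm))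
      have hτinj : Function.Injective τ := (MonoidHom.ker_eq_bot_iff τ).1 hP
      have hle := Nat.card_le_card_of_injective τ hτinj
      rw [← W.card_mul_index] at hle
      have hpos : 0 < Nat.card W := Nat.card_pos
      have hi0 : W.index ≠ 0 := Subgroup.FiniteIndex.index_ne_zero
      have : 2 ≤ W.index := by omega
      nlinarith
    · exact h
  let σ := MulEquiv.ofBijective f ⟨hfinj, hsurj⟩
  have hcomm : ∀ (y : Y) (m : M), Commute (ι y) ((σ.symm m : P) : H) := fun y m =>
    ((mem_center_iff.1 (hZ ⟨y, rfl⟩)) _).symm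
  let g : Y × M →* H := MonoidHom.mk' (fun w => ι w.1 * ((σ.symm w.2 : P) : H)) fun a b => by
    show ι (a.1 * b.1) * ((σ.symm (a.2 * b.2) : P) : H) = _
    rw [map_mul, map_mul, Subgroup.coe_mul]
    calc ι a.1 * ι b.1 * (((σ.symm a.2 : P) : H) * (σ.symm b.2 : P))
        = ι a.1 * (ι b.1 * ((σ.symm a.2 : P) : H)) * (σ.symm b.2 : P) := by group
      _ = ι a.1 * (((σ.symm a.2 : P) : H) * ι b.1) * (σ.symm b.2 : P) := by rw [(hcomm b.1 a.2).eq]
      _ = _ := by group
  have hπg : ∀ w : Y × M, π (g w) = w.2 := fun w => by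
    show π (ι w.1 * ((σ.symm w.2 : P) : H)) = w.2
    rw [map_mul, (hker _).2 ⟨w.1, rfl⟩, one_mul]
    exact σ.apply_symm_apply w.2
  refine ⟨(MulEquiv.ofBijective g ⟨(injective_iff_map_eq_one g).2 fun w hw => ?_, fun h => ?_⟩).symm⟩
  · have h2 : w.2 = 1 := by rw [← hπg w, hw, map_one]
    have h1 : ι w.1 * ((σ.symm w.2 : P) : H) = 1 := hw
    rw [h2, map_one, Subgroup.coe_one, mul_one] at h1
    exact Prod.ext (hι (h1.trans (map_one ι).symm)) h2
  · obtain ⟨y, hy⟩ := (hker (h * ((σ.symm (π h) : P) : H)⁻¹)).1 (by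
      rw [map_mul, map_inv, mul_inv_eq_one]
      exact (σ.apply_symm_apply (π h)).symm)
    exact ⟨(y, π h), by
      show ι y * ((σ.symm (π h) : P) : H) = h
      rw [hy, inv_mul_cancel_right]⟩

variable {G : Type u} [Group G] [Finite G]

namespace KMid

variable {t v : G} {p : ℕ} {L : Subgroup G} (hM : KMid t v p L)
include hM

/-- **`C(Y) ≅ Y × PSL(2, q)`** -/
theorem exists_iso {F : Type} [Field F] [Fintype F] {M : Subgroup (L ⧸ Cfsg.oddCore L)} [M.Normal] {ε : ℤ}
    (ho : Odd (Fintype.card F)) (hMs : IsSimpleGroup M)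
    (hC : centralizer (M : Set (L ⧸ Cfsg.oddCore L)) = ⊥)
    (e : M ≃* Matrix.ProjectiveSpecialLinearGroup (Fin 2) F) (hε : ε = 1 ∨ ε = -1)
    (hinv : invCard (Fintype.card F) = 4 * fixIndex t v L)
    (hr : (Fintype.card F : ℤ) = 4 * (fixIndex t v L : ℤ) + ε)
    (hSc : (Nat.card (tConj t L) : ℤ) = (Fintype.card F : ℤ) * (2 * (fixIndex t v L : ℤ) + ε)) :
    Nonempty (centralizer (fixAt p t v : Set G) ≃* fixAt p t v × Matrix.ProjectiveSpecialLinearGroup (Fin 2) F) := by
  classical
  haveI := hMs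
  haveI := Fact.mk hM.k.setup.part.prime
  have hS := hM.k.setup
  have hP := hS.part
  set Y := fixAt p t v with hY
  set H := centralizer (Y : Set G)
  have hYH : Y ≤ H := fun y hy => mem_centralizer_iff.2 fun z hz => (hS.commute_fixAt hz hy).eq
  set π0 := QuotientGroup.mk' (Cfsg.oddCore L) with hπ0
  let π : H →* M := (π0.comp (Subgroup.inclusion hS.centralizer_le)).codRestrict M
    fun h => hM.mk_mem_component ho hC e _
  have hπval : ∀ h : H, (π h : L ⧸ Cfsg.oddCore L) = π0 ⟨h, hS.centralizer_le h.2⟩ := fun h => rfl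
  have hker : ∀ h : H, π h = 1 ↔ h ∈ (Subgroup.inclusion hYH).range := by
    intro h
    constructor
    · intro h1
      have h2 : π0 ⟨h, hS.centralizer_le h.2⟩ = 1 := by rw [← hπval, h1]; rfl
      exact ⟨⟨h, hM.mem_fixAt_of_ocN ⟨_, (QuotientGroup.eq_one_iff _).1 h2, rfl⟩ h.2⟩, rfl⟩
    · rintro ⟨y, rfl⟩
      obtain ⟨y', hy', hyy⟩ := hS.fixAt_le_ocN y.2
      refine Subtype.ext ((hπval _).trans ((QuotientGroup.eq_one_iff _).2 ?_))
      rwa [show (⟨((Subgroup.inclusion hYH y : H) : G), _⟩ : L) = y' from Subtype.ext hyy.symm]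
  have hZ : (Subgroup.inclusion hYH).range ≤ center H := by
    rintro _ ⟨y, rfl⟩
    exact mem_center_iff.2 fun g => Subtype.ext (mem_centralizer_iff.1 g.2 y y.2).symm
  have hπsurj : Function.Surjective π := by
    rintro ⟨m, hm⟩
    obtain ⟨c, hcL, hcC, hcm⟩ := hS.exists_cent_lift hMs (hS.t_mem_component ho hC e) hm
    exact ⟨⟨c, Subgroup.centralizer_le hS.fixAt_le_ocN hcC⟩, Subtype.ext ((hπval _).trans hcm)⟩
  obtain ⟨N, hNodd, hNcard, -, hN⟩ := hS.exists_tor ho hC e
  obtain ⟨T0, hT0, hmemT⟩ := psl_torus_cyclic M e hS.dihTwo_quot hC (hS.two_ne_zero' ho)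
    (orderOf_mk_two hS.t_mem hP.hA.invol)
  haveI := hT0
  have hNT : N ≤ T0 := fun m hm => hmemT m (le_diagPart M e ((hN m).1 hm).1) ((hN m).1 hm).2.1 ((hN m).1 hm).2.2
  have hNM : N ≤ M := fun m hm => ((hN m).1 hm).1
  set W : Subgroup H := (N.subgroupOf M).comap π with hWdef
  have hidx : W.index = 4 * Nat.card (tConj t L) := by
    rw [hWdef, index_comap_of_surjective _ hπsurj]
    have h1 := (N.subgroupOf M).card_mul_index
    rw [Nat.card_congr (subgroupOfEquivOfLe hNM).toEquiv, hNcard, ← hS.card_tConj ho hC e, hinv] at h1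
    exact Nat.eq_of_mul_eq_mul_left hS.odd_fixIndex.pos (h1.trans (by ring))
  have hWcomm : ∀ a ∈ W, ∀ b ∈ W, Commute a b := by
    let f : W →* T0 := ((M.subtype.comp π).comp W.subtype).codRestrict T0
      fun w => hNT (mem_subgroupOf.1 (mem_comap.1 w.2))
    haveI : IsCyclic f.range := inferInstance
    have hk : f.rangeRestrict.ker ≤ center W := by
      intro w hw
      rw [MonoidHom.ker_rangeRestrict] at hw
      have h1 : π (w : H) = 1 := Subtype.ext (congrArg Subtype.val hw :)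
      exact mem_center_iff.2 fun g => Subtype.ext ((mem_center_iff.1 (hZ ((hker _).1 h1))) g)
    intro a ha b hb
    exact congrArg Subtype.val (commutative_of_cyclic_center_quotient f.rangeRestrict hk ⟨a, ha⟩ ⟨b, hb⟩)
  have hS1 : 1 ≤ Nat.card (tConj t L) := by
    haveI : Nonempty (tConj t L) := ⟨⟨t, 1, one_mem L, by group⟩⟩
    exact Nat.card_pos
  refine (split_central hP.prime hM.mid.cardY (Subgroup.inclusion hYH) (Subgroup.inclusion_injective hYH) π hπsurj
    hker hZ W hWcomm ?_ (by omega)).map fun φ => φ.trans (MulEquiv.prodCongr (MulEquiv.refl _) e)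
  rw [hidx]
  intro hd
  have h2 : (p : ℤ) ∣ 4 * (Nat.card (tConj t L) : ℤ) := by exact_mod_cast hd
  obtain ⟨c, hc⟩ := hS.dvd_fixIndex hP.prime hP.odd hS.loc.core_ne_bot
  rw [hSc, hr, hc] at h2
  push_cast at h2
  have h3 : (p : ℤ) ∣ 4 := by
    have h4 := dvd_sub h2 (show (p : ℤ) ∣ (p : ℤ) * (32 * c * c * p + 24 * c * ε) from dvd_mul_right _ _)
    rcases hε with rfl | rfl <;> ring_nf at h4 <;> exact h4
  have h5 : p ∣ 4 := by exact_mod_cast h3
  exact hP.odd ((Nat.prime_dvd_prime_iff_eq hP.prime Nat.prime_two).1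
    (hP.prime.dvd_of_dvd_pow (show p ∣ 2 ^ 2 from h5)))

end KMid

end CfsgLib.GW.Klein
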