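import Cfsg.Agent.Lib.GW.Klein.Setting
import Cfsg.Agent.Lib.GW.CaseA.Shape
import Cfsg.Agent.Lib.GW.CaseA.Points
import Cfsg.Agent.Lib.GW.CaseA.Index

/-!
# Case A for a four-group Sylow 2-subgroup, an involution acting partially: the common facts

`L` has one class of involutions, `|O : C_O(v)| = k b` with `k = |C(t) : C(t) ∩ L|` odd and at least three, the
field has order `4 b ± 1` and the incidence count holds.
-/

set_option autoImplicit false
set_option linter.unusedSectionVars false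
set_option linter.style.haveILetI false

open Subgroup
open CfsgLib.Coprime.BenderPair CfsgLib.Coprime.BenderUniqueness

namespace CfsgLib.GW.Klein

open CfsgLib.GW.CaseA

universe u

variable {G : Type u} [Group G] [Finite G]

/-- an involution of a subgroup containing a four group is conjugate into it inside the subgroup -/
theorem conj_into (hG : Min G) (h8 : ¬ 8 ∣ Nat.card G) {H : Subgroup G} {t v : G} (ht : orderOf t = 2)
    (hv : orderOf v = 2) (hne : t ≠ v) (hc : Commute t v) (htH : t ∈ H) (hvH : v ∈ H) {u : G}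
    (hu : orderOf u = 2) (huH : u ∈ H) :
    ∃ g ∈ H, g * u * g⁻¹ = t ∨ g * u * g⁻¹ = v ∨ g * u * g⁻¹ = t * v := by
  classical
  haveI : Fact (Nat.Prime 2) := ⟨Nat.prime_two⟩
  have hK := Invol.isKleinFour_closure_pair ht hv hne hc
  set V := closure ({t, v} : Set G) with hV
  have hVH : V ≤ H := (closure_le H).2 (by rintro x (rfl | rfl) <;> assumption)
  have hc4 : Nat.card (V.subgroupOf H) = 4 :=
    (Nat.card_congr (subgroupOfEquivOfLe hVH).toEquiv).trans hK.card_four
  obtain ⟨R, hR⟩ := (IsPGroup.of_card (n := 2) (by rw [hc4]; rfl) : IsPGroup 2 (V.subgroupOf H)).exists_le_sylow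
  have hRV : (R : Subgroup H) = V.subgroupOf H := by
    obtain ⟨S, hS⟩ := (R.2.map H.subtype).exists_le_sylow
    refine (eq_of_le_of_card_ge hR ?_).symm
    rw [hc4, ← (hG.klein_sylow h8 S).card_four,
      Nat.card_congr ((R : Subgroup H).equivMapOfInjective _ H.subtype_injective).toEquiv]
    exact card_le_of_le hS
  obtain ⟨Q, hQ⟩ := (IsPGroup.of_card (n := 1) (by rw [Nat.card_zpowers, Subgroup.orderOf_mk, hu, pow_one]) :
    IsPGroup 2 (zpowers (⟨u, huH⟩ : H))).exists_le_sylow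
  obtain ⟨g, hg⟩ := MulAction.exists_smul_eq H Q R
  have hmem : g * ⟨u, huH⟩ * g⁻¹ ∈ (R : Subgroup H) := by
    rw [← hg, Sylow.coe_subgroup_smul]
    exact ⟨⟨u, huH⟩, hQ (mem_zpowers _), rfl⟩
  rw [hRV, mem_subgroupOf] at hmem
  refine ⟨g, g.2, ?_⟩
  rcases Invol.mem_klein ht hv hne hc hmem with h | h | h | h
  · exfalso
    have h1 : (g : G) * u * (g : G)⁻¹ = 1 := h
    rw [conj_eq_one_iff] at h1
    rw [h1, orderOf_one] at hu
    omega
  · exact Or.inl h
  · exact Or.inr (Or.inl h)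
  · exact Or.inr (Or.inr h)

/-- `q - ε` is the odd number `b` times four -/
theorem exists_eps {q : ℕ} (hq : Odd q) :
    ∃ ε : ℤ, (ε = 1 ∨ ε = -1) ∧ (invCard q : ℤ) = (q : ℤ) - ε ∧ 4 ∣ invCard q := by
  obtain ⟨j, rfl⟩ := hq
  rw [invCard]
  split_ifs with h
  · exact ⟨1, Or.inl rfl, by push_cast [show 1 ≤ 2 * j + 1 by omega]; ring, by omega⟩
  · exact ⟨-1, Or.inr rfl, by push_cast; ring, by omega⟩

/-- a partially acting involution with a four-group Sylow 2-subgroup -/
structure KSetup (t v : G) (p : ℕ) (L : Subgroup G) : Prop where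
  setup : Setup t v p L
  h8 : ¬ 8 ∣ Nat.card G

namespace KSetup

variable {t v : G} {p : ℕ} {L : Subgroup G} (hK : KSetup t v p L)
include hK

theorem frame : Frame t v (Ocore t) :=
  frame_of hK.setup.part.hA.min hK.h8 hK.setup.part.hA.invol hK.setup.part.hv hK.setup.part.hne hK.setup.part.hc

/-- the involutions of `L` are conjugate to `t` in `L` -/
theorem inner : ∀ u ∈ L, orderOf u = 2 → u ∈ tConj t L := by
  intro u hu hu2
  have hS := hK.setup
  obtain ⟨g, hg, h⟩ := conj_into hS.part.hA.min hK.h8 hS.part.hA.invol hS.part.hv hS.part.hne hS.part.hc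
    hS.t_mem hS.v_mem hu2 hu
  obtain ⟨x, hx, hxt⟩ : g * u * g⁻¹ ∈ tConj t L := by
    rcases h with h | h | h <;> rw [h]
    exacts [⟨1, one_mem L, by group⟩, hS.v_tConj, hS.tv_tConj]
  refine ⟨g⁻¹ * x, mul_mem (inv_mem hg) hx, ?_⟩
  calc g⁻¹ * x * t * (g⁻¹ * x)⁻¹ = g⁻¹ * (x * t * x⁻¹) * g := by group
    _ = u := by rw [hxt]; group

/-- the involutions of `C(t)` are conjugate into `L` -/
theorem into_L : ∀ u : G, orderOf u = 2 → Commute u t → ∃ c, Commute c t ∧ c * u * c⁻¹ ∈ L := by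
  intro u hu hut
  have hS := hK.setup
  obtain ⟨g, hg, h⟩ := conj_into hS.part.hA.min hK.h8 (H := centralizer ({t} : Set G)) hS.part.hA.invol
    hS.part.hv hS.part.hne hS.part.hc (mem_centralizer_singleton_iff.2 rfl)
    (mem_centralizer_singleton_iff.2 hS.part.hc.symm.eq) hu (mem_centralizer_singleton_iff.2 hut.eq)
  refine ⟨g, mem_centralizer_singleton_iff.1 hg, ?_⟩
  rcases h with h | h | h <;> rw [h]
  exacts [hS.t_mem, hS.v_mem, mul_mem hS.t_mem hS.v_mem]

/-- `n = 1` modulo the primes of `b` -/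
theorem index_modEq {q : ℕ} (hq : q.Prime) (hqb : q ∣ fixIndex t v L) :
    (q : ℤ) ∣ ((centralizer ({t} : Set G)).index : ℤ) - 1 := by
  have hS := hK.setup
  have hq2 : q ≠ 2 := fun e => by
    subst e
    exact Nat.not_even_iff_odd.2 hS.odd_fixIndex (even_iff_two_dvd.2 hqb)
  exact hS.index_modEq hK.inner hK.into_L hq hq2 (hS.core_ne_bot_of_dvd hq hqb)

/-- `|C(t) : C(t) ∩ L| = |O : O ∩ L|` -/
theorem centL_relIndex :
    (centL t L).relIndex (centralizer ({t} : Set G)) = (Ocore t ⊓ L).relIndex (Ocore t) := by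
  classical
  have hS := hK.setup
  have F := hK.frame
  set C := centralizer ({t} : Set G)
  set O := Ocore t
  rw [relIndex, relIndex, index, index]
  let f : O ⧸ (O ⊓ L).subgroupOf O → C ⧸ (centL t L).subgroupOf C := fun q => Quotient.liftOn' q
    (fun x => (QuotientGroup.mk ⟨(x : G), ocore_le t x.2⟩ : C ⧸ (centL t L).subgroupOf C)) (by
      intro x y hxy
      rw [QuotientGroup.leftRel_apply, mem_subgroupOf] at hxy
      refine QuotientGroup.eq.2 (mem_subgroupOf.2 ⟨?_, hxy.2⟩)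
      exact ocore_le t hxy.1)
  refine (Nat.card_congr (Equiv.ofBijective f ⟨?_, ?_⟩)).symm
  · rintro ⟨x⟩ ⟨y⟩ h
    have h' := mem_subgroupOf.1 (QuotientGroup.eq.1 h)
    refine Quotient.sound' ?_
    rw [QuotientGroup.leftRel_apply, mem_subgroupOf]
    exact ⟨(Ocore t).mul_mem ((Ocore t).inv_mem x.2) y.2, h'.2⟩
  · rintro ⟨g⟩
    obtain ⟨o, ho, hg⟩ := F.cover g (mem_centralizer_singleton_iff.1 g.2)
    refine ⟨QuotientGroup.mk ⟨o, ho⟩, QuotientGroup.eq.2 (mem_subgroupOf.2 ?_)⟩
    show o⁻¹ * (g : G) ∈ centL t L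
    refine ⟨C.mul_mem (C.inv_mem (ocore_le t ho)) g.2, ?_⟩
    rcases hg with h | h | h | h <;> rw [h]
    · rw [inv_mul_cancel]; exact one_mem L
    · rw [inv_mul_cancel_left]; exact hS.t_mem
    · rw [inv_mul_cancel_left]; exact hS.v_mem
    · rw [inv_mul_cancel_left]; exact mul_mem hS.t_mem hS.v_mem

theorem odd_relIndex : Odd ((centL t L).relIndex (centralizer ({t} : Set G))) := by
  rw [hK.centL_relIndex]
  exact (odd_ocore t).of_dvd_nat (relIndex_dvd_card _ _)

theorem three_le_relIndex : 3 ≤ (centL t L).relIndex (centralizer ({t} : Set G)) := by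
  obtain ⟨j, hj⟩ := hK.odd_relIndex
  refine le_of_not_gt fun hlt => ?_
  have h1 : (centL t L).relIndex (centralizer ({t} : Set G)) = 1 := by omega
  obtain ⟨c, hc, hcL⟩ := hK.setup.exists_not_mem
  exact hcL (relIndex_eq_one.1 h1 (mem_centralizer_singleton_iff.2 hc.eq)).2

/-- **`|O : C_O(v)| = k b`** -/
theorem fixed_relIndex : (Ocore t ⊓ centralizer ({v} : Set G)).relIndex (Ocore t) =
    (centL t L).relIndex (centralizer ({t} : Set G)) * fixIndex t v L := by
  rw [hK.centL_relIndex, fixIndex, mul_comm]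
  exact (relIndex_mul_relIndex _ _ _ (le_inf inf_le_left hK.setup.ocore_cent_le) inf_le_left).symm

/-- **the field has order `4 b ± 1`** -/
theorem exists_field :
    ∃ (F : Type) (_ : Field F) (_ : Fintype F) (M : Subgroup (L ⧸ Cfsg.oddCore L)) (_ : M.Normal)
      (_ : M ≃* Matrix.ProjectiveSpecialLinearGroup (Fin 2) F) (ε : ℤ),
      Odd (Fintype.card F) ∧ 5 ≤ Fintype.card F ∧ IsSimpleGroup M ∧
      centralizer (M : Set (L ⧸ Cfsg.oddCore L)) = ⊥ ∧ (ε = 1 ∨ ε = -1) ∧
      invCard (Fintype.card F) = 4 * fixIndex t v L ∧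
      (Fintype.card F : ℤ) = 4 * (fixIndex t v L : ℤ) + ε ∧
      (Nat.card (tConj t L) : ℤ) = (Fintype.card F : ℤ) * (2 * (fixIndex t v L : ℤ) + ε) := by
  have hS := hK.setup
  obtain ⟨F, iF, jF, M, hMn, ho, h5, hM, hC, ⟨e⟩⟩ := hS.exists_psl
  obtain ⟨N, -, -, ⟨i, hi⟩, -⟩ := hS.exists_tor ho hC e
  obtain ⟨ε, hε, hinv, h4⟩ := exists_eps ho
  have hb := hS.odd_fixIndex
  have hi2 : i = 2 := by
    refine le_antisymm (le_of_not_gt fun hlt => hK.h8 ?_) (le_of_not_gt fun hlt => ?_)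
    · have h1 : 2 ^ 3 ∣ Nat.card M := by
        rw [← hS.card_tConj ho hC e, ← hi]
        exact (pow_dvd_pow 2 hlt).trans ((dvd_mul_left _ _).trans (dvd_mul_left _ _))
      refine (h1.trans (card_subgroup_dvd_card M)).trans ?_
      exact (card_quotient_dvd_card _).trans (card_subgroup_dvd_card L)
    · rw [← hi] at h4
      obtain ⟨j, hj⟩ := hb
      interval_cases i <;> omega
  subst hi2
  have hinv' : invCard (Fintype.card F) = 4 * fixIndex t v L := by rw [← hi]; ring
  have hr : (Fintype.card F : ℤ) = 4 * (fixIndex t v L : ℤ) + ε := by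
    rw [hinv'] at hinv
    push_cast at hinv
    linarith
  refine ⟨F, iF, jF, M, hMn, e, ε, ho, h5, hM, hC, hε, hinv', hr, ?_⟩
  have h := hS.card_tConj_eq ho h5 hC e hε hinv
  have h' : 2 * (Nat.card (tConj t L) : ℤ) =
      2 * ((Fintype.card F : ℤ) * (2 * (fixIndex t v L : ℤ) + ε)) := by
    rw [h, hr]; ring
  linarith

end KSetup

end CfsgLib.GW.Klein
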