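import Cfsg.Agent.Lib.GW.Klein.Linear
import Cfsg.Agent.Lib.Block.LinearTwist

/-!
# The inverted elements form a subgroup

Then `O` is their semidirect product with `C_O(a)`, every linear character of `C_O(a)` extends, and every prime
divisor of `|O : C_O(a)|` divides the index of `C(t)` unless `C_O(a) = 1`.
-/

set_option autoImplicit false
set_option linter.unusedSectionVars false
set_option linter.style.haveILetI false

namespace CfsgLib.GW.Klein

open CfsgLib.Spor.JFourType (decomp_unique exists_decomp eq_of_sq_eq)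

universe u

variable {G : Type u} [Group G] [Finite G]

namespace Frame

variable {t a : G} {O : Subgroup G} (F : Frame t a O)
include F

/-- `e` preserves `C_O(a)` -/
theorem cyc_fixed {e : G} (he : Cyc e t a) {d : G} (hd : d ∈ O) (hda : Commute d a) :
    e * d * e⁻¹ ∈ O ∧ Commute (e * d * e⁻¹) a := by
  have h1 : Commute (e * d * e⁻¹) a := by
    have := (F.cent d hd).map (MulAut.conj e).toMonoidHom
    simpa [he.1] using this
  have h2 : Commute (e * d * e⁻¹) (t * a) := by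
    have := hda.map (MulAut.conj e).toMonoidHom
    simpa [he.2] using this
  have h3 : Commute (e * d * e⁻¹) t := by
    have := h2.mul_right h1
    rwa [show t * a * a = t by rw [mul_assoc, sq_eq_one F.ha, mul_one]] at this
  refine ⟨F.odd_mem h3 ?_, h1⟩
  rw [← MulAut.conj_apply, MulEquiv.orderOf_eq]
  exact F.hodd.of_dvd_nat (Subgroup.orderOf_dvd_natCard O hd)

/-- the decomposition `x = d w` -/
theorem exists_split {x : G} (hx : x ∈ O) :
    ∃ d w : G, d ∈ O ∧ Commute d a ∧ w ∈ CfsgLib.Spor.JFourType.invSet a O ∧ x = d * w := by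
  obtain ⟨w, hw, h⟩ := exists_decomp F.hodd (sq_eq_one F.ha) F.norm hx
  exact ⟨x * w⁻¹, w, mul_mem hx (inv_mem hw.1), (mul_inv_eq_iff_eq_mul.1 h).symm, hw,
    (inv_mul_cancel_right x w).symm⟩

/-- the retraction of `O` onto `C_O(a)` -/
theorem exists_retraction
    (hcomm : ∀ x ∈ CfsgLib.Spor.JFourType.invSet a O, ∀ y ∈ CfsgLib.Spor.JFourType.invSet a O, Commute x y) :
    ∃ π : O →* O, (∀ x, Commute ((π x : O) : G) a) ∧ (∀ x : O, Commute (x : G) a → π x = x) ∧
      ∀ x, π (F.conjA x) = π x := by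
  classical
  choose d w hd hda hw hxw using fun x : O => F.exists_split x.2
  have huniq : ∀ (x : O) (d' w' : G), Commute d' a → w' ∈ CfsgLib.Spor.JFourType.invSet a O →
      (x : G) = d' * w' → d' = d x := fun x d' w' h1 h2 h3 =>
    (decomp_unique F.hodd h2 (hw x) (mul_inv_eq_iff_eq_mul.2 h1.eq.symm)
      (mul_inv_eq_iff_eq_mul.2 (hda x).eq.symm) (h3.symm.trans (hxw x))).1
  let f : O → O := fun x => ⟨d x, hd x⟩
  have hf : ∀ x, ((f x : O) : G) = d x := fun x => rfl
  refine ⟨MonoidHom.mk' f fun x y => ?_, hda, fun x hx => ?_, fun x => ?_⟩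
  · refine Subtype.ext ?_
    show d (x * y) = d x * d y
    have hn : (d y)⁻¹ * w x * d y ∈ CfsgLib.Spor.JFourType.invSet a O := by
      refine ⟨mul_mem (mul_mem (inv_mem (hd y)) (hw x).1) (hd y), ?_⟩
      have h : a * d y * a⁻¹ = d y := mul_inv_eq_iff_eq_mul.2 (hda y).eq.symm
      calc a * ((d y)⁻¹ * w x * d y) * a⁻¹ = (a * d y * a⁻¹)⁻¹ * (a * w x * a⁻¹) * (a * d y * a⁻¹) := by group
        _ = ((d y)⁻¹ * w x * d y)⁻¹ := by rw [h, (hw x).2]; group
    refine (huniq (x * y) (d x * d y) ((d y)⁻¹ * w x * d y * w y) ((hda x).mul_left (hda y))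
      ⟨mul_mem hn.1 (hw y).1, ?_⟩ ?_).symm
    · rw [show a * ((d y)⁻¹ * w x * d y * w y) * a⁻¹ =
        (a * ((d y)⁻¹ * w x * d y) * a⁻¹) * (a * w y * a⁻¹) by group, hn.2, (hw y).2, ← _root_.mul_inv_rev,
        (hcomm _ hn _ (hw y)).eq]
    · rw [Subgroup.coe_mul, hxw x, hxw y]
      group
  · exact Subtype.ext (huniq x x 1 hx ⟨one_mem _, by group⟩ (mul_one _).symm).symm
  · refine Subtype.ext ?_
    show d (F.conjA x) = d x
    refine (huniq (F.conjA x) (d x) (w x)⁻¹ (hda x) ⟨inv_mem (hw x).1, ?_⟩ ?_).symm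
    · rw [← conj_inv, (hw x).2]
    · have h : a * d x * a⁻¹ = d x := mul_inv_eq_iff_eq_mul.2 (hda x).eq.symm
      rw [F.conjA_val, hxw x, show a * (d x * w x) * a⁻¹ = (a * d x * a⁻¹) * (a * w x * a⁻¹) by group, h, (hw x).2]

/-- **every prime divisor of `|O : C_O(a)|` divides the index, if the inverted elements commute and some
element of `O` other than `1` is fixed** -/
theorem dvd_index_of_split (hG : Min G) (h8 : ¬ 8 ∣ Nat.card G)
    (hcomm : ∀ x ∈ CfsgLib.Spor.JFourType.invSet a O, ∀ y ∈ CfsgLib.Spor.JFourType.invSet a O, Commute x y)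
    (hD : ∃ x ∈ O, x ≠ 1 ∧ Commute x a) {p : ℕ} (hp : p.Prime)
    (hpd : p ∣ (O ⊓ Subgroup.centralizer ({a} : Set G)).relIndex O) :
    p ∣ (Subgroup.centralizer ({t} : Set G)).index := by
  classical
  letI := Fintype.ofFinite G
  obtain ⟨e, he⟩ := hG.exists_cyc F.ht F.ha F.hne F.hc
  obtain ⟨π, hπa, hπfix, hπinv⟩ := F.exists_retraction hcomm
  set D := O ⊓ Subgroup.centralizer ({a} : Set G) with hDdef
  obtain ⟨x, hxO, hx1, hxa⟩ := hD
  have hodd : Odd (Nat.card D) := F.hodd.of_dvd_nat (Subgroup.card_dvd_of_le inf_le_left)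
  haveI : Nontrivial D := ⟨⟨⟨x, F.mem_fixed.2 ⟨hxO, hxa⟩⟩, 1, fun h => hx1 (congrArg Subtype.val h)⟩⟩
  haveI : Group.IsSolvable D := CfsgLib.FT.isSolvable_of_odd D hodd
  obtain ⟨g, hg⟩ : ∃ g : D, g ∉ commutator D := by
    by_contra! h
    exact (Group.IsSolvable.commutator_lt_top_of_nontrivial D).ne (eq_top_iff.2 fun x _ => h x)
  obtain ⟨χ, hχ⟩ := CfsgLib.Block.exists_linear_ne_one hg
  -- the projection and the action of `e`
  let pr : O →* D := (O.subtype.comp π).codRestrict D fun y => F.mem_fixed.2 ⟨(π y).2, hπa y⟩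
  have hpr : ∀ y : O, (pr y : G) = (π y : G) := fun y => rfl
  let ε : D →* D := ((MulAut.conj e).toMonoidHom.comp D.subtype).codRestrict D fun d =>
    F.mem_fixed.2 (F.cyc_fixed he (F.mem_fixed.1 d.2).1 (F.mem_fixed.1 d.2).2)
  have hε : ∀ d : D, (ε d : G) = e * d * e⁻¹ := fun d => rfl
  let θ : O →* ℂˣ := χ.comp pr
  let θ₂ : O →* ℂˣ := (χ.comp ε).comp pr
  let θ₃ : O →* ℂˣ := ((χ.comp ε).comp ε).comp pr
  have hfix : ∀ y, pr (F.conjA y) = pr y := fun y => Subtype.ext (by rw [hpr, hpr, hπinv])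
  have hcyc : ∀ y z : O, Commute (y : G) a → (z : G) = e * y * e⁻¹ → pr z = ε (pr y) := fun y z hy hz => by
    refine Subtype.ext ?_
    have hza : Commute (z : G) a := hz ▸ (F.cyc_fixed he y.2 hy).2
    rw [hpr, hε, hpr, hπfix y hy, hπfix z hza, hz]
  refine F.dvd_index_of_linear hG h8 he θ θ₂ θ₃ ?_ (fun y => by simp only [θ, MonoidHom.comp_apply, hfix])
    (fun y => by simp only [θ₂, MonoidHom.comp_apply, hfix])
    (fun y => by simp only [θ₃, MonoidHom.comp_apply, hfix])
    (fun y z hy hz => by simp only [θ, θ₂, MonoidHom.comp_apply, hcyc y z hy hz])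
    (fun y z hy hz => by simp only [θ₂, θ₃, MonoidHom.comp_apply, hcyc y z hy hz]) hp hpd
  intro h
  refine hχ ?_
  have h' := DFunLike.congr_fun h ⟨g, (F.mem_fixed.1 g.2).1⟩
  rw [MonoidHom.one_apply, MonoidHom.comp_apply] at h'
  convert h' using 2
  exact Subtype.ext (by rw [hpr, hπfix _ (F.mem_fixed.1 g.2).2])

end Frame

end CfsgLib.GW.Klein
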