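import Cfsg.Agent.Lib.GW.Klein.Semidirect
import Cfsg.Agent.Lib.GW.CaseA.Local

/-!
# Case A for a four-group Sylow 2-subgroup: a core moved by an involution

If `T = O_p(C(t))` is moved by `a` then only `t` fixes it among the involutions, so the index of `C(t)` is one
modulo `p`, while `p` divides `|O : C_O(a)|`.
-/

set_option autoImplicit false
set_option linter.unusedSectionVars false
set_option linter.style.haveILetI false

open Subgroup
open CfsgLib.Coprime.BenderPair CfsgLib.Coprime.BenderUniqueness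

namespace CfsgLib.GW.Klein

open CfsgLib.GW.CaseA

universe u

variable {G : Type u} [Group G] [Finite G]

/-- `C(t) = O(C(t)) ⟨t, a⟩` -/
theorem frame_of (hG : Min G) (h8 : ¬ 8 ∣ Nat.card G) {t a : G} (ht : orderOf t = 2) (ha : orderOf a = 2)
    (hne : t ≠ a) (hc : Commute t a) : Frame t a (Ocore t) := by
  haveI : Fact (Nat.Prime 2) := ⟨Nat.prime_two⟩
  have haN : a ∈ normalizer (Ocore t : Set G) :=
    centralizer_le_normalizer_ocore t (mem_centralizer_singleton_iff.2 hc.symm.eq)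
  refine ⟨ht, ha, hne, hc, odd_ocore t, fun x hx => mem_centralizer_singleton_iff.1 (ocore_le t hx),
    fun x hx => (mem_normalizer_iff.1 haN x).1 hx, fun g hg => ?_⟩
  have hK := Invol.isKleinFour_closure_pair ht ha hne hc
  set V := closure ({t, a} : Set G) with hV
  obtain ⟨P, hP⟩ := (IsPGroup.of_card (n := 2) (by rw [hK.card_four]; rfl) : IsPGroup 2 V).exists_le_sylow
  have hPV : V = (P : Subgroup G) :=
    eq_of_le_of_card_ge hP (by rw [hK.card_four, (hG.klein_sylow h8 P).card_four])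
  have hle : (P : Subgroup G) ≤ centralizer ({t} : Set G) := hPV ▸ (closure_le _).2 (by
    rintro u (rfl | rfl) <;> refine mem_centralizer_singleton_iff.2 ?_
    exacts [rfl, hc.symm.eq])
  have h := hG.ocore_sup_sylow ht (P.subtype hle)
  rw [Sylow.coe_subtype, map_subgroupOf_eq_of_le hle, ← hPV] at h
  have hVn : V ≤ normalizer (Ocore t : Set G) :=
    (hPV ▸ hle : V ≤ centralizer ({t} : Set G)).trans (centralizer_le_normalizer_ocore t)
  have hgC : g ∈ (Ocore t ⊔ V : Subgroup G) := h.symm ▸ mem_centralizer_singleton_iff.2 hg.eq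
  rw [← SetLike.mem_coe, coe_mul_of_right_le_normalizer_left _ _ hVn] at hgC
  obtain ⟨x, hx, v, hv, rfl⟩ := hgC
  refine ⟨x, hx, ?_⟩
  rcases Invol.mem_klein ht ha hne hc hv with rfl | rfl | rfl | rfl <;> simp

/-- **only `t` fixes a moved core** -/
theorem fixed_only {t a : G} (hA : CaseA t) (F : Frame t a (Ocore t)) {p : ℕ} (hp : p.Prime) (hp2 : p ≠ 2)
    (hmv : ∃ x ∈ coreAt p t, ¬ Commute x a) {u : G} (hu : orderOf u = 2)
    (hfix : ∀ x ∈ coreAt p t, Commute x u) : u = t := by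
  haveI := Fact.mk hp
  haveI := hA.min.simple
  letI := Fintype.ofFinite G
  obtain ⟨x₀, hx₀, hx₀a⟩ := hmv
  have hT : coreAt p t ≠ ⊥ := fun h => hx₀a (by
    rw [(mem_bot.1 (h ▸ hx₀) : x₀ = 1)]
    exact Commute.one_left a)
  have hN := norm_eq (hA.maximal t hA.invol) hT (coreAt_le p t) (le_normalizer_opc p _)
  have hut : Commute u t := by
    have h : u ∈ normalizer (coreAt p t : Set G) :=
      centralizer_le_normalizer _ (mem_centralizer_iff.2 fun x hx => (hfix x hx).eq)
    rw [hN] at h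
    exact mem_centralizer_singleton_iff.1 h
  -- a conjugate of `a` or `t a` under `O` centralising the core
  have key : ∀ w : G, (∀ x ∈ coreAt p t, Commute x w ↔ Commute x a) →
      ∀ y ∈ Spor.JFourType.invSet a (Ocore t), w * y * w⁻¹ = y⁻¹ → u = w * y → False := by
    intro w hw y hy hwy hu'
    obtain ⟨j, hj⟩ := F.hodd.of_dvd_nat (Subgroup.orderOf_dvd_natCard (Ocore t) hy.1)
    have ho : y ^ (j + 1) * (y ^ (j + 1)) = y := by
      rw [← pow_add, show j + 1 + (j + 1) = (2 * j + 1) + 1 by ring, pow_succ, ← hj, pow_orderOf_eq_one, one_mul]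
    set o := (y ^ (j + 1))⁻¹ with hodef
    have hoO : o ∈ Ocore t := inv_mem (pow_mem hy.1 _)
    have how : w * o⁻¹ * w⁻¹ = o := by
      rw [hodef, inv_inv, ← MulAut.conj_apply, map_pow, MulAut.conj_apply, hwy, inv_pow]
    have hconj : o * w * o⁻¹ = u := by
      rw [hu', show o * w * o⁻¹ = o * (w * o⁻¹ * w⁻¹) * w by group, how,
        show o * o = y⁻¹ by rw [hodef, ← _root_.mul_inv_rev, ho], ← hwy]
      group
    refine hx₀a ((hw x₀ hx₀).1 ?_)
    have hm : o * x₀ * o⁻¹ ∈ coreAt p t :=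
      (mem_normalizer_iff.1 (mem_normalizer_coreAt (F.cent o hoO)) x₀).1 hx₀
    have h := (hfix _ hm).eq
    rw [← hconj] at h
    show x₀ * w = w * x₀
    calc x₀ * w = o⁻¹ * ((o * x₀ * o⁻¹) * (o * w * o⁻¹)) * o := by group
      _ = w * x₀ := by rw [h]; group
  rcases F.invol_form hu hut with h | ⟨y, hy, h⟩ | ⟨y, hy, h⟩
  · exact h
  · exact (key a (fun x _ => Iff.rfl) y hy hy.2 h).elim
  · refine (key (t * a) (fun x hx => ?_) y hy ((F.norm' hy.1).trans hy.2) h).elim
    have hxt := commute_coreAt hx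
    refine ⟨fun hxta => ?_, fun hxa => hxt.mul_right hxa⟩
    have := hxt.mul_right hxta
    rwa [← mul_assoc, sq_eq_one F.ht, one_mul] at this

/-- **`n ≡ 1 (mod p)`** -/
theorem index_congr {t a : G} (hA : CaseA t) (F : Frame t a (Ocore t)) {p : ℕ} (hp : p.Prime) (hp2 : p ≠ 2)
    (hmv : ∃ x ∈ coreAt p t, ¬ Commute x a) :
    (p : ℤ) ∣ ((centralizer ({t} : Set G)).index : ℤ) - 1 := by
  classical
  haveI := Fact.mk hp
  letI : MulAction (coreAt p t) {u : G // IsConj t u} :=
    { smul := fun x u => ⟨(x : G) * u * (x : G)⁻¹, u.2.trans (isConj_iff.2 ⟨x, rfl⟩)⟩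
      one_smul := fun u => Subtype.ext (show ((1 : coreAt p t) : G) * u * ((1 : coreAt p t) : G)⁻¹ = u by simp)
      mul_smul := fun x y u => Subtype.ext
        (show ((x * y : coreAt p t) : G) * u * ((x * y : coreAt p t) : G)⁻¹ =
          (x : G) * ((y : G) * u * (y : G)⁻¹) * (x : G)⁻¹ by rw [Subgroup.coe_mul]; group) }
  have hmod := (isPGroup_coreAt p t).card_modEq_card_fixedPoints {u : G // IsConj t u}
  have hone : Nat.card (MulAction.fixedPoints (coreAt p t) {u : G // IsConj t u}) = 1 := by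
    refine Nat.card_eq_one_iff_unique.2 ⟨⟨fun u w => Subtype.ext (Subtype.ext ?_)⟩, ⟨⟨t, IsConj.refl t⟩, ?_⟩⟩
    · have h : ∀ z : MulAction.fixedPoints (coreAt p t) {u : G // IsConj t u}, ((z : {u : G // IsConj t u}) : G) = t := by
        intro z
        refine fixed_only hA F hp hp2 hmv ?_ fun x hx => ?_
        · obtain ⟨g, hg⟩ := isConj_iff.1 (z : {u : G // IsConj t u}).2
          rw [← hg, ← MulAut.conj_apply, MulEquiv.orderOf_eq, hA.invol]
        · exact mul_inv_eq_iff_eq_mul.1 (congrArg Subtype.val (z.2 ⟨x, hx⟩))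
      rw [h u, h w]
    · exact fun x => Subtype.ext (show (x : G) * t * (x : G)⁻¹ = t by
        rw [(commute_coreAt x.2).eq, mul_inv_cancel_right])
  rw [CfsgLib.Char.card_isConj, hone] at hmod
  exact Int.modEq_iff_dvd.1 (Int.natCast_modEq_iff.2 hmod.symm)

/-- **`p ∣ |O : C_O(a)|`** -/
theorem dvd_relIndex {t a : G} (hA : CaseA t) (F : Frame t a (Ocore t)) {p : ℕ} (hp : p.Prime) (hp2 : p ≠ 2)
    (hmv : ∃ x ∈ coreAt p t, ¬ Commute x a) :
    p ∣ (Ocore t ⊓ centralizer ({a} : Set G)).relIndex (Ocore t) := by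
  classical
  haveI := Fact.mk hp
  letI := Fintype.ofFinite G
  by_contra hnd
  obtain ⟨x, hx, hxa⟩ := hmv
  set O := Ocore t with hO
  set D := (O ⊓ centralizer ({a} : Set G)).subgroupOf O
  set T := (coreAt p t).subgroupOf O
  have hTO : coreAt p t ≤ O := coreAt_le_ocore hp2 t
  haveI : T.Normal := (normal_subgroupOf_iff_le_normalizer hTO).2
    ((ocore_le t).trans (le_normalizer_opc p _))
  have hTp : IsPGroup p T := (isPGroup_coreAt p t).of_equiv (subgroupOfEquivOfLe hTO).symm
  obtain ⟨S⟩ : Nonempty (Sylow p D) := inferInstance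
  have hSp : IsPGroup p ((S : Subgroup D).map D.subtype) := S.2.map _
  have hidx : ¬ p ∣ ((S : Subgroup D).map D.subtype).index := by
    rw [index_map_subtype, hp.dvd_mul, not_or]
    exact ⟨S.not_dvd_index, hnd⟩
  obtain ⟨Q, hQ⟩ := hTp.exists_le_sylow
  obtain ⟨g, hg⟩ := MulAction.exists_smul_eq O Q (hSp.toSylow hidx)
  have hle : T ≤ (S : Subgroup D).map D.subtype := by
    intro y hy
    have h : y ∈ ((g • Q : Sylow p O) : Subgroup O) := by
      rw [Sylow.coe_subgroup_smul]
      refine ⟨g⁻¹ * y * g, hQ ?_, ?_⟩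
      · have := ‹T.Normal›.conj_mem y hy g⁻¹
        rwa [inv_inv] at this
      · show g * (g⁻¹ * y * g) * g⁻¹ = y
        group
    rw [hg] at h
    exact h
  obtain ⟨d, -, hd⟩ := hle (show (⟨x, hTO hx⟩ : O) ∈ T from hx)
  have hdm : ((d : O) : G) ∈ O ⊓ centralizer ({a} : Set G) := d.2
  rw [show ((d : O) : G) = x from congrArg Subtype.val hd] at hdm
  exact hxa (F.mem_fixed.1 hdm).2

/-- a moved core and a fixed element are incompatible when the inverted elements commute -/
theorem false_of_split {t a : G} (hA : CaseA t) (h8 : ¬ 8 ∣ Nat.card G) (F : Frame t a (Ocore t)) {p : ℕ}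
    (hp : p.Prime) (hp2 : p ≠ 2) (hmv : ∃ x ∈ coreAt p t, ¬ Commute x a)
    (hcomm : ∀ x ∈ Spor.JFourType.invSet a (Ocore t), ∀ y ∈ Spor.JFourType.invSet a (Ocore t), Commute x y)
    (hD : ∃ x ∈ Ocore t, x ≠ 1 ∧ Commute x a) : False := by
  have h1 := index_congr hA F hp hp2 hmv
  have h2 : (p : ℤ) ∣ ((centralizer ({t} : Set G)).index : ℤ) :=
    Int.natCast_dvd_natCast.2 (F.dvd_index_of_split hA.min h8 hcomm hD hp (dvd_relIndex hA F hp hp2 hmv))
  have h3 := dvd_sub h2 h1
  rw [sub_sub_cancel] at h3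
  exact hp.not_dvd_one (by exact_mod_cast h3)

end CfsgLib.GW.Klein
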